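import Cfsg.Agent.H15.Fi22P
set_option autoImplicit false
set_option maxRecDepth 100000

namespace Cfsg.Agent.H15.Fi22
open Cfsg.Agent.H15 Cfsg.Agent.H14

theorem pok : PermOk F22a.ap D.inv 3510 D.L := good.permOk (by norm_num) hperm
noncomputable def φ : G →* Equiv.Perm (Fin 3510) := (good.exists_perm_hom pok hrel).choose
theorem φ_spec : ∀ l < D.L, φ (E l) = pok.perm l := (good.exists_perm_hom pok hrel).choose_spec
noncomputable def A0 : TabAct G (Via φ) := pok.tab.via φ E φ_spec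
def all : List (List ℕ) := [[0], [1], [2], [3], [4], [5], [6], [7], [8]]
def hs : List (List ℕ) := [[0], [2], [3], [4], [5], [6], [7], [8], [0, 1, 2, 3, 4, 7, 0, 1, 2, 3, 4, 7, 0, 1, 2, 3, 4, 7, 0, 1, 2, 3, 4, 7, 0, 1, 2, 3, 4, 7]]
theorem top : gp E all = ⊤ := good.gp_top (by decide +kernel)
theorem idx_le : (gp E hs).index ≠ 0 ∧ (gp E hs).index ≤ 3510 := by
  rw [← Subgroup.relIndex_top_right, ← top]; exact F22a.idx good.hi good.hB [[0], [1], [2], [3], [4], [5], [6], [7], [8], [0, 1, 2, 3, 4, 7, 0, 1, 2, 3, 4, 7, 0, 1, 2, 3, 4, 7, 0, 1, 2, 3, 4, 7, 0, 1, 2, 3, 4, 7], [7, 4, 3, 2, 1, 0, 7, 4, 3, 2, 1, 0, 7, 4, 3, 2, 1, 0, 7, 4, 3, 2, 1, 0, 7, 4, 3, 2, 1, 0]] (by decide +kernel)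
theorem conn1 : RAll (connAt F22a.ap hs 1) 2 694 := RAll.of (by decide +kernel)
theorem conn2 : RAll (connAt F22a.ap hs 694) 695 3510 := RAll.of (by decide +kernel)
theorem segs0 : A0.Segs (gp E hs) 1 [694, 3510] :=
  ⟨by norm_num, by decide +kernel, A0.seg_subset_orbit (S := hs) (by decide +kernel) le_rfl (by decide +kernel) conn1, by norm_num, by decide +kernel, A0.seg_subset_orbit (S := hs) (by decide +kernel) le_rfl (by decide +kernel) conn2, rfl⟩
def reps : List (List ℕ) := [[1, 2, 0, 1], [1]]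
theorem trans0 : A0.seg 0 A0.n ⊆ MulAction.orbit (⊤ : Subgroup G) (A0.c 0) :=
  A0.trans_of_segs segs0 reps (by decide +kernel)
theorem stab0 : gp E hs = MulAction.stabilizer G (A0.c 0) ∧ (gp E hs).index = 3510 :=
  A0.stabilizer_eq (A0.gp_le_stabilizer (S := hs) (by decide +kernel) (by decide +kernel) (by decide +kernel)) idx_le trans0
/-- the action on the cosets of `gp E hs` -/
noncomputable def A : TabAct G (G ⧸ gp E hs) := A0.quot _ stab0.1 trans0
theorem A_zero : A.c 0 = ((1 : G) : G ⧸ gp E hs) := A0.quot_zero _ stab0.1 trans0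
theorem stab : gp E hs = MulAction.stabilizer G (A.c 0) := by rw [A_zero]; exact stabilizer_quot_one _
theorem full : A.Full :=
  have : Finite (G ⧸ gp E hs) := Nat.finite_of_card_ne_zero idx_le.1
  A.full_of_card idx_le.2
theorem seg1 : A.seg 1 694 ⊆ MulAction.orbit (gp E hs) (A.c 1) :=
  A.seg_subset_orbit (S := hs) (by decide +kernel) le_rfl (by decide +kernel) conn1
theorem seg2 : A.seg 694 3510 ⊆ MulAction.orbit (gp E hs) (A.c 694) :=
  A.seg_subset_orbit (S := hs) (by decide +kernel) le_rfl (by decide +kernel) conn2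
theorem segs : A.Segs (gp E hs) 1 [694, 3510] :=
  ⟨by norm_num, by decide +kernel, seg1, by norm_num, by decide +kernel, seg2, rfl⟩
theorem trans : A.seg 0 A.n ⊆ MulAction.orbit (⊤ : Subgroup G) (A.c 0) :=
  A.trans_of_segs segs reps (by decide +kernel)
theorem clos1 : RAll (closAt F22a.ap hs 1 694) 1 694 := RAll.of (by decide +kernel)
theorem orb1 : MulAction.orbit (gp E hs) (A.c 1) = A.seg 1 694 :=
  A.orbit_eq_seg (S := hs) (by decide +kernel) (by norm_num) (by decide +kernel) conn1 clos1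
theorem inv1 : ∀ g ∈ gp E hs, ∀ p ∈ A.seg 0 694, g • p ∈ A.seg 0 694 :=
  A.inv_seg_union (by norm_num) (by norm_num) (A.inv_seg_zero stab.le) fun _ hg =>
    A.smul_mem_seg (S := hs) (by decide +kernel) (by decide +kernel) clos1 hg
theorem orb2 : MulAction.orbit (gp E hs) (A.c 694) = A.seg 694 3510 :=
  A.orbit_eq_seg_last full (by decide +kernel) seg2 (inv1)
theorem ncard1 : (MulAction.orbit (gp E hs) (A.c 1)).ncard = 693 := by
  rw [orb1, A.ncard_seg (by decide +kernel)]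
theorem ncard2 : (MulAction.orbit (gp E hs) (A.c 694)).ncard = 2816 := by
  rw [orb2, A.ncard_seg (by decide +kernel)]
instance : Finite G := (top ▸ cAll : CardLe (⊤ : Subgroup G) _).finite_top
def lowvS6 : List (List ℕ) := [[0], [6, 5, 6, 4, 5, 3, 4, 2, 3, 7, 3, 4, 5, 6, 2, 3, 4, 5, 7, 3, 4, 2, 3, 7, 2, 3, 4, 2, 3, 2]]
def lowvT6 : List (List ℕ) := lowvS6 ++ []
theorem lowv6 : A0.Lower (gp A0.e lowvT6) [694] 4 :=
  TabAct.Lower.step (S := lowvS6) (T := []) (b := 694) (k := 4) (hs := id) (A0.lower_nil _) (by decide +kernel)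
def lowvS5 : List (List ℕ) := [[8, 6, 5, 6, 4, 5, 3, 4, 2, 3, 7, 3, 4, 5, 6, 2, 3, 4, 5, 7, 3, 4, 2, 3, 7, 2, 3, 4, 2, 3, 2]]
def lowvT5 : List (List ℕ) := lowvS5 ++ lowvT6
theorem lowv5 : A0.Lower (gp A0.e lowvT5) [5, 694] 12 :=
  TabAct.Lower.step (S := lowvS5) (T := lowvT6) (b := 5) (k := 3) (hs := id) (lowv6) (by decide +kernel)
def lowvS4 : List (List ℕ) := [[7, 3, 4, 2, 3, 7, 2, 3, 4, 2, 3, 2], [8, 6], [1, 2, 3, 4, 0, 1, 2, 3, 7, 3, 4, 2, 3, 1, 2, 0, 1], [5, 6, 4, 5, 3, 4, 2, 3, 7, 3, 4, 5, 6, 2, 3, 4, 5]]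
def lowvT4 : List (List ℕ) := lowvS4 ++ lowvT5
theorem lowv4 : A0.Lower (gp A0.e lowvT4) [8, 5, 694] 384 :=
  TabAct.Lower.step (S := lowvS4) (T := lowvT5) (b := 8) (k := 32) (hs := id) (lowv5) (by decide +kernel)
def lowvS3 : List (List ℕ) := [[7, 5, 3, 4, 2, 3, 7, 2, 3, 4, 2, 3, 2], [8, 5, 6, 5, 0], [5, 1, 2, 3, 4, 0, 1, 2, 3, 7, 3, 4, 2, 3, 1, 0, 2, 1]]
def lowvT3 : List (List ℕ) := lowvS3 ++ lowvT4
theorem lowv3 : A0.Lower (gp A0.e lowvT3) [4, 8, 5, 694] 51840 :=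
  TabAct.Lower.step (S := lowvS3) (T := lowvT4) (b := 4) (k := 135) (hs := id) (lowv4) (by decide +kernel)
def lowvS2 : List (List ℕ) := [[4], [5, 2], [6, 2], [8, 2], [3, 7, 4, 2, 3, 2, 4, 7, 3], [1, 2, 3, 7, 4, 3, 1, 2, 0, 1, 0, 2, 3, 4, 7, 3, 2, 1]]
def lowvT2 : List (List ℕ) := lowvS2 ++ lowvT3
theorem lowv2 : A0.Lower (gp A0.e lowvT2) [2, 4, 8, 5, 694] 26542080 :=
  TabAct.Lower.step (S := lowvS2) (T := lowvT3) (b := 2) (k := 512) (hs := id) (lowv3) (by decide +kernel)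
def lowvS1 : List (List ℕ) := [[3, 2], [4, 3], [5, 3], [6, 3], [7, 3], [8, 3], [1, 2, 3, 7, 4, 2, 3, 2, 1, 0, 1, 2, 3, 4, 7, 3, 2, 1]]
def lowvT1 : List (List ℕ) := lowvS1 ++ lowvT2
theorem lowv1 : A0.Lower (gp A0.e lowvT1) [1, 2, 4, 8, 5, 694] 18393661440 :=
  TabAct.Lower.step (S := lowvS1) (T := lowvT2) (b := 1) (k := 693) (hs := id) (lowv2) (by decide +kernel)
theorem lowv0 : A0.Lower ⊤ [0, 1, 2, 4, 8, 5, 694] (3510 * 18393661440) :=
  lowv1.seg (a := 0) (by norm_num) le_rfl trans0 le_top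
    (A0.gp_le_stabilizer (by decide +kernel) (by decide +kernel) (by decide +kernel))
theorem card_top : Nat.card (⊤ : Subgroup G) ≤ 3510 * 18393661440 := (top ▸ cAll : CardLe (⊤ : Subgroup G) _).2
theorem card : Nat.card G = 64561751654400 := by rw [← card_top_eq, (lowv0.exact card_top).1]
def bs : List ℕ := [0, 1, 2, 4, 8, 5, 694]
theorem base0 : A0.Base ⊤ bs := lowv0.base card_top
theorem φ_inj : Function.Injective φ := base0.injective
theorem card_hs : Nat.card (gp E hs) = 18393661440 :=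
  (index_eq_of_card (n := 3510) card idx_le.2 (by
    have := (gp E hs).index_mul_card
    rw [stab0.2, card] at this; omega) (by norm_num) (by norm_num)).2
theorem simple : IsSimpleGroup G :=
  A0.simple stab0.1 pok.full trans0 stab0.2 (by decide +kernel) segs0 (by decide +kernel) base0 good.hi top
    [3, 1, 2, 7, 8, 0, 5, 4] 13 (by decide +kernel) (m := 18393661440) card (by norm_num)
    [([8, 5, 6, 3, 7, 4, 6, 5, 6, 3, 6, 1, 2, 5, 1, 0], [0], 0, 9, 2), ([], [1], 1, 3, 2), ([], [2], 2, 3, 2), ([], [3], 3, 3, 2), ([], [4], 4, 3, 2), ([], [5], 5, 3, 2), ([], [6], 6, 3, 2), ([], [7], 4, 3, 2), ([], [8], 8, 3, 2)] (by decide +kernel)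

end Cfsg.Agent.H15.Fi22
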