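import Cfsg.Agent.H15.Fi23.P0
import Cfsg.Agent.H15.Fi23.R0
import Cfsg.Agent.H15.Fi23.R1
import Cfsg.Agent.H15.Fi23.R2
import Cfsg.Agent.H15.Fi23.R3
set_option autoImplicit false
set_option maxRecDepth 100000

namespace Cfsg.Agent.H15.Fi23
open Cfsg.Agent.H15 Cfsg.Agent.H14

theorem hperm : RAll (permAt F23a.ap D.inv 31671 D.L) 0 31671 :=
  hperm_f0
theorem hrel : RAll (relsAt F23a.ap D.B) 0 31671 :=
  (RAll.append (RAll.append hrel_f0 hrel_f1) (RAll.append hrel_f2 hrel_f3))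
theorem pok : PermOk F23a.ap D.inv 31671 D.L := good.permOk (by norm_num) hperm
noncomputable def φ : G →* Equiv.Perm (Fin 31671) := (good.exists_perm_hom pok hrel).choose
theorem φ_spec : ∀ l < D.L, φ (E l) = pok.perm l := (good.exists_perm_hom pok hrel).choose_spec
noncomputable def A0 : TabAct G (Via φ) := pok.tab.via φ E φ_spec
def all : List (List ℕ) := [[0], [1], [2], [3], [4], [5], [6], [7], [8], [9]]
def hs : List (List ℕ) := [[0], [1], [2], [3], [4], [5], [6], [7], [8]]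
theorem top : gp E all = ⊤ := good.gp_top (by decide +kernel)
theorem idx_le : (gp E hs).index ≠ 0 ∧ (gp E hs).index ≤ 31671 := by
  rw [← Subgroup.relIndex_top_right, ← top]; exact iAll
theorem conn1 : RAll (connAt F23a.ap hs 1) 2 3511 := RAll.of (by decide +kernel)
theorem conn2_3512 : RAll (connAt F23a.ap hs 3511) 3512 11512 := RAll.of (by decide +kernel)
theorem conn2_11512 : RAll (connAt F23a.ap hs 3511) 11512 19512 := RAll.of (by decide +kernel)
theorem conn2_19512 : RAll (connAt F23a.ap hs 3511) 19512 27512 := RAll.of (by decide +kernel)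
theorem conn2_27512 : RAll (connAt F23a.ap hs 3511) 27512 31671 := RAll.of (by decide +kernel)
theorem conn2 : RAll (connAt F23a.ap hs 3511) 3512 31671 :=
  (RAll.append (RAll.append conn2_3512 conn2_11512) (RAll.append conn2_19512 conn2_27512))
theorem segs0 : A0.Segs (gp E hs) 1 [3511, 31671] :=
  ⟨by norm_num, by decide +kernel, A0.seg_subset_orbit (S := hs) (by decide +kernel) le_rfl (by decide +kernel) conn1, by norm_num, by decide +kernel, A0.seg_subset_orbit (S := hs) (by decide +kernel) le_rfl (by decide +kernel) conn2, rfl⟩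
def reps : List (List ℕ) := [[9, 6, 5, 4, 3, 7, 2, 3, 4, 5, 6, 9], [9]]
theorem trans0 : A0.seg 0 A0.n ⊆ MulAction.orbit (⊤ : Subgroup G) (A0.c 0) :=
  A0.trans_of_segs segs0 reps (by decide +kernel)
theorem stab0 : gp E hs = MulAction.stabilizer G (A0.c 0) ∧ (gp E hs).index = 31671 :=
  A0.stabilizer_eq (A0.gp_le_stabilizer (S := hs) (by decide +kernel) (by decide +kernel) (by decide +kernel)) idx_le trans0
/-- the action on the cosets of `gp E hs` -/
noncomputable def A : TabAct G (G ⧸ gp E hs) := A0.quot _ stab0.1 trans0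
theorem A_zero : A.c 0 = ((1 : G) : G ⧸ gp E hs) := A0.quot_zero _ stab0.1 trans0
theorem stab : gp E hs = MulAction.stabilizer G (A.c 0) := by rw [A_zero]; exact stabilizer_quot_one _
theorem full : A.Full :=
  have : Finite (G ⧸ gp E hs) := Nat.finite_of_card_ne_zero idx_le.1
  A.full_of_card idx_le.2
theorem seg1 : A.seg 1 3511 ⊆ MulAction.orbit (gp E hs) (A.c 1) :=
  A.seg_subset_orbit (S := hs) (by decide +kernel) le_rfl (by decide +kernel) conn1
theorem seg2 : A.seg 3511 31671 ⊆ MulAction.orbit (gp E hs) (A.c 3511) :=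
  A.seg_subset_orbit (S := hs) (by decide +kernel) le_rfl (by decide +kernel) conn2
theorem segs : A.Segs (gp E hs) 1 [3511, 31671] :=
  ⟨by norm_num, by decide +kernel, seg1, by norm_num, by decide +kernel, seg2, rfl⟩
theorem trans : A.seg 0 A.n ⊆ MulAction.orbit (⊤ : Subgroup G) (A.c 0) :=
  A.trans_of_segs segs reps (by decide +kernel)
theorem clos1 : RAll (closAt F23a.ap hs 1 3511) 1 3511 := RAll.of (by decide +kernel)
theorem orb1 : MulAction.orbit (gp E hs) (A.c 1) = A.seg 1 3511 :=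
  A.orbit_eq_seg (S := hs) (by decide +kernel) (by norm_num) (by decide +kernel) conn1 clos1
theorem inv1 : ∀ g ∈ gp E hs, ∀ p ∈ A.seg 0 3511, g • p ∈ A.seg 0 3511 :=
  A.inv_seg_union (by norm_num) (by norm_num) (A.inv_seg_zero stab.le) fun _ hg =>
    A.smul_mem_seg (S := hs) (by decide +kernel) (by decide +kernel) clos1 hg
theorem orb2 : MulAction.orbit (gp E hs) (A.c 3511) = A.seg 3511 31671 :=
  A.orbit_eq_seg_last full (by decide +kernel) seg2 (inv1)
theorem ncard1 : (MulAction.orbit (gp E hs) (A.c 1)).ncard = 3510 := by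
  rw [orb1, A.ncard_seg (by decide +kernel)]
theorem ncard2 : (MulAction.orbit (gp E hs) (A.c 3511)).ncard = 28160 := by
  rw [orb2, A.ncard_seg (by decide +kernel)]
instance : Finite G := (top ▸ cAll : CardLe (⊤ : Subgroup G) _).finite_top
def lowvS8 : List (List ℕ) := [[6], [1, 2, 3, 4, 5, 6, 7, 1, 2, 3, 4, 5, 6, 7, 1, 2, 3, 4, 5, 6, 7, 1, 2, 3, 4, 5, 6, 7, 1, 2, 3, 4, 5, 6, 7, 1, 2, 3, 4, 5, 6, 7, 1, 2, 3, 4, 5, 6, 7, 1, 2, 3, 4, 5, 6, 7, 1, 2, 3, 4, 5, 6, 7]]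
def lowvT8 : List (List ℕ) := lowvS8 ++ []
theorem lowv8 : A0.Lower (gp A0.e lowvT8) [3511] 4 :=
  TabAct.Lower.step (S := lowvS8) (T := []) (b := 3511) (k := 4) (hs := id) (A0.lower_nil _) (by decide +kernel)
def lowvS7 : List (List ℕ) := [[6, 5]]
def lowvT7 : List (List ℕ) := lowvS7 ++ lowvT8
theorem lowv7 : A0.Lower (gp A0.e lowvT7) [18, 3511] 12 :=
  TabAct.Lower.step (S := lowvS7) (T := lowvT8) (b := 18) (k := 3) (hs := id) (lowv8) (by decide +kernel)
def lowvS6 : List (List ℕ) := [[5, 4], [6, 4]]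
def lowvT6 : List (List ℕ) := lowvS6 ++ lowvT7
theorem lowv6 : A0.Lower (gp A0.e lowvT6) [10, 18, 3511] 48 :=
  TabAct.Lower.step (S := lowvS6) (T := lowvT7) (b := 10) (k := 4) (hs := id) (lowv7) (by decide +kernel)
def lowvS5 : List (List ℕ) := [[4, 3], [5, 3], [6, 3]]
def lowvT5 : List (List ℕ) := lowvS5 ++ lowvT6
theorem lowv5 : A0.Lower (gp A0.e lowvT5) [5, 10, 18, 3511] 240 :=
  TabAct.Lower.step (S := lowvS5) (T := lowvT6) (b := 5) (k := 5) (hs := id) (lowv6) (by decide +kernel)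
def lowvS4 : List (List ℕ) := [[0, 1, 2, 3, 7, 8, 4, 3, 7, 6, 5, 4, 2, 3, 2, 4, 5, 7, 3, 4, 8, 7, 3, 2, 1, 0], [0, 1, 2, 3, 7, 8, 4, 2, 3, 7, 5, 4, 2, 3, 2, 4, 5, 7, 3, 4, 8, 7, 3, 2, 1, 0], [7, 8, 7, 2, 3, 4, 1, 2, 3, 7, 3, 4, 5, 6, 3, 4, 5, 2, 3, 2, 4, 3, 5, 7, 3, 2, 1, 4, 3, 2, 8, 7]]
def lowvT4 : List (List ℕ) := lowvS4 ++ lowvT5
theorem lowv4 : A0.Lower (gp A0.e lowvT4) [4, 5, 10, 18, 3511] 23040 :=
  TabAct.Lower.step (S := lowvS4) (T := lowvT5) (b := 4) (k := 96) (hs := id) (lowv5) (by decide +kernel)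
def lowvS3 : List (List ℕ) := [[7, 5], [7, 6, 3], [8, 7, 3, 4, 2, 3, 7, 5, 4, 3, 1, 2, 1, 3, 4, 5, 7, 3, 2, 4, 3, 7, 8], [1, 2, 3, 4, 0, 1, 2, 3, 7, 3, 4, 2, 3, 0, 1, 0, 2, 1, 0, 3, 4, 7, 3, 2]]
def lowvT3 : List (List ℕ) := lowvS3 ++ lowvT4
theorem lowv3 : A0.Lower (gp A0.e lowvT3) [3, 4, 5, 10, 18, 3511] 13063680 :=
  TabAct.Lower.step (S := lowvS3) (T := lowvT4) (b := 3) (k := 567) (hs := id) (lowv4) (by decide +kernel)
def lowvS2 : List (List ℕ) := [[2], [5, 0], [6, 0], [1, 2, 3, 7, 8, 4, 3, 7, 2, 1, 3, 2, 4, 3, 7, 8]]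
def lowvT2 : List (List ℕ) := lowvS2 ++ lowvT3
theorem lowv2 : A0.Lower (gp A0.e lowvT2) [2, 3, 4, 5, 10, 18, 3511] 36787322880 :=
  TabAct.Lower.step (S := lowvS2) (T := lowvT3) (b := 2) (k := 2816) (hs := id) (lowv3) (by decide +kernel)
def lowvS1 : List (List ℕ) := [[0], [1], [2], [3], [4], [5], [6], [7], [8]]
def lowvT1 : List (List ℕ) := lowvS1 ++ lowvT2
theorem lowv1 : A0.Lower (gp A0.e lowvT1) [1, 2, 3, 4, 5, 10, 18, 3511] 129123503308800 :=
  TabAct.Lower.step (S := lowvS1) (T := lowvT2) (b := 1) (k := 3510) (hs := id) (lowv2) (by decide +kernel)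
theorem lowv0 : A0.Lower ⊤ [0, 1, 2, 3, 4, 5, 10, 18, 3511] (31671 * 129123503308800) :=
  lowv1.seg (a := 0) (by norm_num) le_rfl trans0 le_top
    (A0.gp_le_stabilizer (by decide +kernel) (by decide +kernel) (by decide +kernel))
theorem card_top : Nat.card (⊤ : Subgroup G) ≤ 31671 * 129123503308800 := (top ▸ cAll : CardLe (⊤ : Subgroup G) _).2
theorem card : Nat.card G = 4089470473293004800 := by rw [← card_top_eq, (lowv0.exact card_top).1]
def bs : List ℕ := [0, 1, 2, 3, 4, 5, 10, 18, 3511]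
theorem base0 : A0.Base ⊤ bs := lowv0.base card_top
theorem φ_inj : Function.Injective φ := base0.injective
theorem card_hs : Nat.card (gp E hs) = 129123503308800 :=
  (index_eq_of_card (n := 31671) card idx_le.2 (by
    have := (gp E hs).index_mul_card
    rw [stab0.2, card] at this; omega) (by norm_num) (by norm_num)).2
theorem simple : IsSimpleGroup G :=
  A0.simple stab0.1 pok.full trans0 stab0.2 (by decide +kernel) segs0 (by decide +kernel) base0 good.hi top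
    [2, 0, 3, 1, 5, 6, 9, 4, 7, 8, 6, 7, 9, 5, 3, 8, 0, 4, 2, 1, 7, 0, 3] 23 (by decide +kernel) (m := 129123503308800) card (by norm_num)
    [([7, 3, 0, 2, 9, 6, 1, 4], [0], 0, 17, 2), ([], [1], 1, 3, 2), ([], [2], 2, 3, 2), ([], [3], 3, 3, 2), ([], [4], 4, 3, 2), ([], [5], 5, 3, 2), ([], [6], 6, 3, 2), ([], [7], 4, 3, 2), ([], [8], 8, 3, 2), ([], [9], 7, 3, 2)] (by decide +kernel)

end Cfsg.Agent.H15.Fi23
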