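import Cfsg.Agent.H15.TC3
set_option autoImplicit false
set_option maxRecDepth 100000

namespace Cfsg.Agent.H15.Alt11T0
open Cfsg.Agent.H15 Cfsg.Agent.H14

noncomputable def t0_0 (_i : ℕ) : ℕ := (nat_lit 0x14c5004c0a00c21)
noncomputable def blk (i : ℕ) : ℕ := (t0_0 i)
noncomputable def row (x : ℕ) : ℕ := frcN (Nat.shiftRight x (nat_lit 2)) fun b =>
  Nat.land (Nat.shiftRight (blk b) (Nat.mul (Nat.land x (nat_lit 3)) (nat_lit 20))) (nat_lit 0xfffff)
noncomputable def lk (x l : ℕ) : ℕ :=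
  Nat.land (Nat.shiftRight (row x) (Nat.mul l (nat_lit 4))) (nat_lit 15)
noncomputable def ap (x l : ℕ) : ℕ :=
  Nat.land (Nat.shiftRight (row x) (Nat.mul l (nat_lit 4))) (nat_lit 3)
noncomputable def wt : Wt := (.node (nat_lit 1) (.leaf [nat_lit 1, nat_lit 1, nat_lit 1]) (.leaf [nat_lit 0, nat_lit 1]))
noncomputable def P : TCP where
  lk := lk
  inv := (invT (nat_lit 1) (nat_lit 2))
  wt := wt.get
  gens := [nat_lit 0, nat_lit 1]
  N := nat_lit 3
  n := nat_lit 3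
  eps := nat_lit 2
  VM := nat_lit 3
  Wv := nat_lit 2
  MAXB := nat_lit 12
  JM := nat_lit 15
  Wj := nat_lit 4
  Hm := nat_lit 0
def ls : List Nat := [nat_lit 0, nat_lit 1, nat_lit 2]
def cl1 : Cl := (.gen (nat_lit 0) (.gen (nat_lit 1) (.opt (nat_lit 2) .nil)))
def cl2 : Cl := (.opt (nat_lit 0) (.opt (nat_lit 1) (.opt (nat_lit 2) .nil)))
noncomputable def chk : ℕ → List ℕ → ℕ → Bool :=
  rows2 (nat_lit 3) (parOk P) (cols2 lk (nat_lit 12) (nat_lit 3) (nat_lit 3) (ent1 (nat_lit 3) (nat_lit 15) (nat_lit 4) (decJ wt.get)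
    (ent2 lk (nat_lit 3) (special P) (slowE lk (invT (nat_lit 1) (nat_lit 2)) (nat_lit 3) (nat_lit 2) (nat_lit 3) (nat_lit 4))))) cl1 cl2
theorem rg {x y : ℕ} (Js : List ℕ) (h : chk y Js x = true) : RowsGood P ls x y :=
  rowsGood_of2 (c1 := cl1) (c2 := cl2) (by decide +kernel) h
def bases : List (List Nat × Nat) := [([0], 3)]
noncomputable def j0 : List ℕ := nat_lit 0x11 :: nat_lit 0x6 :: nat_lit 0x40 :: []
theorem c0 : RowsGood P ls 0 3 := rg j0 (by decide +kernel)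
theorem f0 : RowsGood P ls 0 3 :=
  c0
theorem good : RowsGood P (List.range (P.eps + 1)) 0 P.N :=
  (f0 : RowsGood P ls 0 3)
theorem idx {G : Type*} [Group G] {E : ℕ → G} {inv : ℕ → ℕ} (hi : ∀ l, E (inv l) = (E l)⁻¹)
    {B : List (List ℕ × ℕ)} (hB : ∀ p ∈ B, lprod E p.1 ^ p.2 = 1) (σ : List (List ℕ))
    {hs ks : List (List ℕ)} (hc : certOk P wt bases inv B σ hs ks = true) :
    (gp E hs).relIndex (gp E ks) ≠ 0 ∧ (gp E hs).relIndex (gp E ks) ≤ 3 :=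
  tc_gp hi hB rfl (fun _ h => invT_of_le h) good σ hc

end Cfsg.Agent.H15.Alt11T0
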