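import Cfsg.Agent.H15.TC3
set_option autoImplicit false
set_option maxRecDepth 100000

namespace Cfsg.Agent.H15.Alt11T6
open Cfsg.Agent.H15 Cfsg.Agent.H14

noncomputable def t0_0 (_i : ℕ) : ℕ := (nat_lit 0xb43c1c484405c487121c487121c4812878378ede3a202de3b78ede3b78e1d0f06d19b466d191016d19b466d182a1e0d62b58ad62b58a880b58ad628343c1a446911a446911a444405a44028783386ce1b386ce1b386ce1a2023487022008b822dc8b622d48b422cc610e001108441d1064415104440d10001c0101000000000000000000000)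
noncomputable def blk (i : ℕ) : ℕ := (t0_0 i)
noncomputable def row (x : ℕ) : ℕ := frcN (Nat.shiftRight x (nat_lit 4)) fun b =>
  Nat.land (Nat.shiftRight (blk b) (Nat.mul (Nat.land x (nat_lit 15)) (nat_lit 119))) (nat_lit 0x7fffffffffffffffffffffffffffff)
noncomputable def lk (x l : ℕ) : ℕ :=
  Nat.land (Nat.shiftRight (row x) (Nat.mul l (nat_lit 7))) (nat_lit 127)
noncomputable def ap (x l : ℕ) : ℕ :=
  Nat.land (Nat.shiftRight (row x) (Nat.mul l (nat_lit 7))) (nat_lit 15)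
noncomputable def wt : Wt := (.node (nat_lit 28) (.node (nat_lit 14) (.node (nat_lit 7) (.node (nat_lit 3) (.node (nat_lit 1) (.leaf [nat_lit 13, nat_lit 13, nat_lit 13]) (.node (nat_lit 2) (.leaf [nat_lit 12, nat_lit 13]) (.leaf [nat_lit 1, nat_lit 13, nat_lit 1, nat_lit 13]))) (.node (nat_lit 5) (.node (nat_lit 4) (.leaf [nat_lit 0, nat_lit 1]) (.leaf [nat_lit 3, nat_lit 13, nat_lit 3, nat_lit 13])) (.node (nat_lit 6) (.leaf [nat_lit 2, nat_lit 3]) (.leaf [nat_lit 5, nat_lit 13, nat_lit 5, nat_lit 13])))) (.node (nat_lit 10) (.node (nat_lit 8) (.leaf [nat_lit 4, nat_lit 5]) (.node (nat_lit 9) (.leaf [nat_lit 7, nat_lit 13, nat_lit 7, nat_lit 13]) (.leaf [nat_lit 6, nat_lit 7]))) (.node (nat_lit 12) (.node (nat_lit 11) (.leaf [nat_lit 9, nat_lit 13, nat_lit 9, nat_lit 13]) (.leaf [nat_lit 8, nat_lit 9])) (.node (nat_lit 13) (.leaf [nat_lit 11, nat_lit 13, nat_lit 11, nat_lit 13]) (.leaf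 [nat_lit 10, nat_lit 11]))))) (.node (nat_lit 21) (.node (nat_lit 17) (.node (nat_lit 15) (.leaf [nat_lit 1, nat_lit 1, nat_lit 1]) (.node (nat_lit 16) (.leaf [nat_lit 3, nat_lit 1, nat_lit 3, nat_lit 1]) (.leaf [nat_lit 5, nat_lit 1, nat_lit 5, nat_lit 1]))) (.node (nat_lit 19) (.node (nat_lit 18) (.leaf [nat_lit 7, nat_lit 1, nat_lit 7, nat_lit 1]) (.leaf [nat_lit 9, nat_lit 1, nat_lit 9, nat_lit 1])) (.node (nat_lit 20) (.leaf [nat_lit 11, nat_lit 1, nat_lit 11, nat_lit 1]) (.leaf [nat_lit 13, nat_lit 1, nat_lit 13, nat_lit 1])))) (.node (nat_lit 24) (.node (nat_lit 22) (.leaf [nat_lit 3, nat_lit 3, nat_lit 3]) (.node (nat_lit 23) (.leaf [nat_lit 1, nat_lit 3, nat_lit 1, nat_lit 3]) (.leaf [nat_lit 5, nat_lit 3, nat_lit 5, nat_lit 3]))) (.node (nat_lit 26) (.node (nat_lit 25) (.leaf [nat_lit 7, nat_lit 3, nat_lit 7, nat_lit 3]) (.leaf [nat_lit 9, nat_lit 3, nat_lit 9, nat_lit 3])) (.node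 (nat_lit 27) (.leaf [nat_lit 11, nat_lit 3, nat_lit 11, nat_lit 3]) (.leaf [nat_lit 13, nat_lit 3, nat_lit 13, nat_lit 3])))))) (.node (nat_lit 42) (.node (nat_lit 35) (.node (nat_lit 31) (.node (nat_lit 29) (.leaf [nat_lit 5, nat_lit 5, nat_lit 5]) (.node (nat_lit 30) (.leaf [nat_lit 1, nat_lit 5, nat_lit 1, nat_lit 5]) (.leaf [nat_lit 3, nat_lit 5, nat_lit 3, nat_lit 5]))) (.node (nat_lit 33) (.node (nat_lit 32) (.leaf [nat_lit 7, nat_lit 5, nat_lit 7, nat_lit 5]) (.leaf [nat_lit 9, nat_lit 5, nat_lit 9, nat_lit 5])) (.node (nat_lit 34) (.leaf [nat_lit 11, nat_lit 5, nat_lit 11, nat_lit 5]) (.leaf [nat_lit 13, nat_lit 5, nat_lit 13, nat_lit 5])))) (.node (nat_lit 38) (.node (nat_lit 36) (.leaf [nat_lit 7, nat_lit 7, nat_lit 7]) (.node (nat_lit 37) (.leaf [nat_lit 1, nat_lit 7, nat_lit 1, nat_lit 7]) (.leaf [nat_lit 3, nat_lit 7, nat_lit 3, nat_lit 7]))) (.node (nat_lit 40) (.node (nat_lit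 39) (.leaf [nat_lit 5, nat_lit 7, nat_lit 5, nat_lit 7]) (.leaf [nat_lit 9, nat_lit 7, nat_lit 9, nat_lit 7])) (.node (nat_lit 41) (.leaf [nat_lit 11, nat_lit 7, nat_lit 11, nat_lit 7]) (.leaf [nat_lit 13, nat_lit 7, nat_lit 13, nat_lit 7]))))) (.node (nat_lit 49) (.node (nat_lit 45) (.node (nat_lit 43) (.leaf [nat_lit 9, nat_lit 9, nat_lit 9]) (.node (nat_lit 44) (.leaf [nat_lit 1, nat_lit 9, nat_lit 1, nat_lit 9]) (.leaf [nat_lit 3, nat_lit 9, nat_lit 3, nat_lit 9]))) (.node (nat_lit 47) (.node (nat_lit 46) (.leaf [nat_lit 5, nat_lit 9, nat_lit 5, nat_lit 9]) (.leaf [nat_lit 7, nat_lit 9, nat_lit 7, nat_lit 9])) (.node (nat_lit 48) (.leaf [nat_lit 11, nat_lit 9, nat_lit 11, nat_lit 9]) (.leaf [nat_lit 13, nat_lit 9, nat_lit 13, nat_lit 9])))) (.node (nat_lit 52) (.node (nat_lit 50) (.leaf [nat_lit 11, nat_lit 11, nat_lit 11]) (.node (nat_lit 51) (.leaf [nat_lit 1, nat_lit 11, nat_lit 1,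 nat_lit 11]) (.leaf [nat_lit 3, nat_lit 11, nat_lit 3, nat_lit 11]))) (.node (nat_lit 54) (.node (nat_lit 53) (.leaf [nat_lit 5, nat_lit 11, nat_lit 5, nat_lit 11]) (.leaf [nat_lit 7, nat_lit 11, nat_lit 7, nat_lit 11])) (.node (nat_lit 55) (.leaf [nat_lit 9, nat_lit 11, nat_lit 9, nat_lit 11]) (.leaf [nat_lit 13, nat_lit 11, nat_lit 13, nat_lit 11])))))))
noncomputable def P : TCP where
  lk := lk
  inv := (invT (nat_lit 3688918921696028530323457) (nat_lit 14))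
  wt := wt.get
  gens := [nat_lit 0, nat_lit 1, nat_lit 2, nat_lit 3, nat_lit 4, nat_lit 5, nat_lit 6, nat_lit 7, nat_lit 8, nat_lit 9, nat_lit 10, nat_lit 11, nat_lit 12, nat_lit 13]
  N := nat_lit 9
  n := nat_lit 9
  eps := nat_lit 14
  VM := nat_lit 15
  Wv := nat_lit 4
  MAXB := nat_lit 112
  JM := nat_lit 127
  Wj := nat_lit 7
  Hm := nat_lit 4095
def ls : List Nat := [nat_lit 0, nat_lit 1, nat_lit 2, nat_lit 3, nat_lit 4, nat_lit 5, nat_lit 6, nat_lit 7, nat_lit 8, nat_lit 9, nat_lit 10, nat_lit 11, nat_lit 12, nat_lit 13, nat_lit 14]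
def cl1 : Cl := (.gen (nat_lit 0) (.gen (nat_lit 1) (.gen (nat_lit 2) (.gen (nat_lit 3) (.gen (nat_lit 4) (.gen (nat_lit 5) (.gen (nat_lit 6) (.gen (nat_lit 7) (.gen (nat_lit 8) (.gen (nat_lit 9) (.gen (nat_lit 10) (.gen (nat_lit 11) (.gen (nat_lit 12) (.gen (nat_lit 13) (.opt (nat_lit 14) .nil)))))))))))))))
def cl2 : Cl := (.opt (nat_lit 0) (.opt (nat_lit 1) (.opt (nat_lit 2) (.opt (nat_lit 3) (.opt (nat_lit 4) (.opt (nat_lit 5) (.opt (nat_lit 6) (.opt (nat_lit 7) (.opt (nat_lit 8) (.opt (nat_lit 9) (.opt (nat_lit 10) (.opt (nat_lit 11) (.opt (nat_lit 12) (.opt (nat_lit 13) (.opt (nat_lit 14) .nil)))))))))))))))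
noncomputable def chk : ℕ → List ℕ → ℕ → Bool :=
  rows2 (nat_lit 9) (parOk P) (cols2 lk (nat_lit 112) (nat_lit 9) (nat_lit 9) (ent1 (nat_lit 15) (nat_lit 127) (nat_lit 7) (decJ wt.get)
    (ent2 lk (nat_lit 15) (special P) (slowE lk (invT (nat_lit 3688918921696028530323457) (nat_lit 14)) (nat_lit 9) (nat_lit 14) (nat_lit 15) (nat_lit 6))))) cl1 cl2
theorem rg {x y : ℕ} (Js : List ℕ) (h : chk y Js x = true) : RowsGood P ls x y :=
  rowsGood_of2 (c1 := cl1) (c2 := cl2) (by decide +kernel) h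
def bases : List (List Nat × Nat) := [([0], 3), ([2], 3), ([4], 3), ([6], 3), ([8], 3), ([10], 3), ([12], 3), ([0, 2], 2), ([0, 4], 2), ([0, 6], 2), ([0, 8], 2), ([0, 10], 2), ([0, 12], 2), ([2, 4], 2), ([2, 6], 2), ([2, 8], 2), ([2, 10], 2), ([2, 12], 2), ([4, 6], 2), ([4, 8], 2), ([4, 10], 2), ([4, 12], 2), ([6, 8], 2), ([6, 10], 2), ([6, 12], 2), ([8, 10], 2), ([8, 12], 2), ([10, 12], 2)]
noncomputable def j0 : List ℕ := nat_lit 0x81040810204081020408102 :: nat_lit 0x6027809a0258092023808a :: nat_lit 0x2003878c1a2858812183840a :: nat_lit 0x1606547941a4c592124439000 :: nat_lit 0x1d067079b1a68599125c0180a :: nat_lit 0x24068c7a21a8459e008039f0a :: nat_lit 0x2b06a87a91a94028129c3a60a :: nat_lit 0x3206c47ac00c05af12b83ad0a :: nat_lit 0x3906cc0381adc5b612d43b40a :: []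
theorem c0 : RowsGood P ls 0 9 := rg j0 (by decide +kernel)
theorem f0 : RowsGood P ls 0 9 :=
  c0
theorem good : RowsGood P (List.range (P.eps + 1)) 0 P.N :=
  (f0 : RowsGood P ls 0 9)
theorem idx {G : Type*} [Group G] {E : ℕ → G} {inv : ℕ → ℕ} (hi : ∀ l, E (inv l) = (E l)⁻¹)
    {B : List (List ℕ × ℕ)} (hB : ∀ p ∈ B, lprod E p.1 ^ p.2 = 1) (σ : List (List ℕ))
    {hs ks : List (List ℕ)} (hc : certOk P wt bases inv B σ hs ks = true) :
    (gp E hs).relIndex (gp E ks) ≠ 0 ∧ (gp E hs).relIndex (gp E ks) ≤ 9 :=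
  tc_gp hi hB rfl (fun _ h => invT_of_le h) good σ hc

end Cfsg.Agent.H15.Alt11T6
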