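import Cfsg.Agent.H15.TC3
set_option autoImplicit false
set_option maxRecDepth 100000

namespace Cfsg.Agent.H15.Alt11T7
open Cfsg.Agent.H15 Cfsg.Agent.H14

noncomputable def t0_0 (_i : ℕ) : ℕ := (nat_lit 0xd41e0698942016989698969896989698969890b41e0688868884201688868886888688868880941e0678767876787420167876787678767870741e0668666866686668642016686668666860541e0658565856585658565854201658565850341e0648464846484648464846484420164840141e0638363836383638363836383638342010f20e0210021692168216721662165216421630e20e0004209420842074206420542044203420000e002010000000000000000000000000000)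
noncomputable def blk (i : ℕ) : ℕ := (t0_0 i)
noncomputable def row (x : ℕ) : ℕ := frcN (Nat.shiftRight x (nat_lit 4)) fun b =>
  Nat.land (Nat.shiftRight (blk b) (Nat.mul (Nat.land x (nat_lit 15)) (nat_lit 152))) (nat_lit 0xffffffffffffffffffffffffffffffffffffff)
noncomputable def lk (x l : ℕ) : ℕ :=
  Nat.land (Nat.shiftRight (row x) (Nat.mul l (nat_lit 8))) (nat_lit 255)
noncomputable def ap (x l : ℕ) : ℕ :=
  Nat.land (Nat.shiftRight (row x) (Nat.mul l (nat_lit 8))) (nat_lit 31)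
noncomputable def wt : Wt := (.node (nat_lit 36) (.node (nat_lit 18) (.node (nat_lit 9) (.node (nat_lit 4) (.node (nat_lit 2) (.node (nat_lit 1) (.leaf [nat_lit 15, nat_lit 15, nat_lit 15]) (.leaf [nat_lit 14, nat_lit 15])) (.node (nat_lit 3) (.leaf [nat_lit 1, nat_lit 15, nat_lit 1, nat_lit 15]) (.leaf [nat_lit 0, nat_lit 1]))) (.node (nat_lit 6) (.node (nat_lit 5) (.leaf [nat_lit 3, nat_lit 15, nat_lit 3, nat_lit 15]) (.leaf [nat_lit 2, nat_lit 3])) (.node (nat_lit 7) (.leaf [nat_lit 5, nat_lit 15, nat_lit 5, nat_lit 15]) (.node (nat_lit 8) (.leaf [nat_lit 4, nat_lit 5]) (.leaf [nat_lit 7, nat_lit 15, nat_lit 7, nat_lit 15]))))) (.node (nat_lit 13) (.node (nat_lit 11) (.node (nat_lit 10) (.leaf [nat_lit 6, nat_lit 7]) (.leaf [nat_lit 9, nat_lit 15, nat_lit 9, nat_lit 15])) (.node (nat_lit 12) (.leaf [nat_lit 8, nat_lit 9]) (.leaf [nat_lit 11, nat_lit 15, nat_lit 11, nat_lit 15]))) (.node (nat_lit 15)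 (.node (nat_lit 14) (.leaf [nat_lit 10, nat_lit 11]) (.leaf [nat_lit 13, nat_lit 15, nat_lit 13, nat_lit 15])) (.node (nat_lit 16) (.leaf [nat_lit 12, nat_lit 13]) (.node (nat_lit 17) (.leaf [nat_lit 1, nat_lit 1, nat_lit 1]) (.leaf [nat_lit 3, nat_lit 1, nat_lit 3, nat_lit 1])))))) (.node (nat_lit 27) (.node (nat_lit 22) (.node (nat_lit 20) (.node (nat_lit 19) (.leaf [nat_lit 5, nat_lit 1, nat_lit 5, nat_lit 1]) (.leaf [nat_lit 7, nat_lit 1, nat_lit 7, nat_lit 1])) (.node (nat_lit 21) (.leaf [nat_lit 9, nat_lit 1, nat_lit 9, nat_lit 1]) (.leaf [nat_lit 11, nat_lit 1, nat_lit 11, nat_lit 1]))) (.node (nat_lit 24) (.node (nat_lit 23) (.leaf [nat_lit 13, nat_lit 1, nat_lit 13, nat_lit 1]) (.leaf [nat_lit 15, nat_lit 1, nat_lit 15, nat_lit 1])) (.node (nat_lit 25) (.leaf [nat_lit 3, nat_lit 3, nat_lit 3]) (.node (nat_lit 26) (.leaf [nat_lit 1, nat_lit 3, nat_lit 1, nat_lit 3]) (.leaf [nat_lit 5, nat_lit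 3, nat_lit 5, nat_lit 3]))))) (.node (nat_lit 31) (.node (nat_lit 29) (.node (nat_lit 28) (.leaf [nat_lit 7, nat_lit 3, nat_lit 7, nat_lit 3]) (.leaf [nat_lit 9, nat_lit 3, nat_lit 9, nat_lit 3])) (.node (nat_lit 30) (.leaf [nat_lit 11, nat_lit 3, nat_lit 11, nat_lit 3]) (.leaf [nat_lit 13, nat_lit 3, nat_lit 13, nat_lit 3]))) (.node (nat_lit 33) (.node (nat_lit 32) (.leaf [nat_lit 15, nat_lit 3, nat_lit 15, nat_lit 3]) (.leaf [nat_lit 5, nat_lit 5, nat_lit 5])) (.node (nat_lit 34) (.leaf [nat_lit 1, nat_lit 5, nat_lit 1, nat_lit 5]) (.node (nat_lit 35) (.leaf [nat_lit 3, nat_lit 5, nat_lit 3, nat_lit 5]) (.leaf [nat_lit 7, nat_lit 5, nat_lit 7, nat_lit 5]))))))) (.node (nat_lit 54) (.node (nat_lit 45) (.node (nat_lit 40) (.node (nat_lit 38) (.node (nat_lit 37) (.leaf [nat_lit 9, nat_lit 5, nat_lit 9, nat_lit 5]) (.leaf [nat_lit 11, nat_lit 5, nat_lit 11, nat_lit 5])) (.node (nat_lit 39) (.leaf [nat_lit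 13, nat_lit 5, nat_lit 13, nat_lit 5]) (.leaf [nat_lit 15, nat_lit 5, nat_lit 15, nat_lit 5]))) (.node (nat_lit 42) (.node (nat_lit 41) (.leaf [nat_lit 7, nat_lit 7, nat_lit 7]) (.leaf [nat_lit 1, nat_lit 7, nat_lit 1, nat_lit 7])) (.node (nat_lit 43) (.leaf [nat_lit 3, nat_lit 7, nat_lit 3, nat_lit 7]) (.node (nat_lit 44) (.leaf [nat_lit 5, nat_lit 7, nat_lit 5, nat_lit 7]) (.leaf [nat_lit 9, nat_lit 7, nat_lit 9, nat_lit 7]))))) (.node (nat_lit 49) (.node (nat_lit 47) (.node (nat_lit 46) (.leaf [nat_lit 11, nat_lit 7, nat_lit 11, nat_lit 7]) (.leaf [nat_lit 13, nat_lit 7, nat_lit 13, nat_lit 7])) (.node (nat_lit 48) (.leaf [nat_lit 15, nat_lit 7, nat_lit 15, nat_lit 7]) (.leaf [nat_lit 9, nat_lit 9, nat_lit 9]))) (.node (nat_lit 51) (.node (nat_lit 50) (.leaf [nat_lit 1, nat_lit 9, nat_lit 1, nat_lit 9]) (.leaf [nat_lit 3, nat_lit 9, nat_lit 3, nat_lit 9])) (.node (nat_lit 52) (.leaf [nat_lit 5, nat_lit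 9, nat_lit 5, nat_lit 9]) (.node (nat_lit 53) (.leaf [nat_lit 7, nat_lit 9, nat_lit 7, nat_lit 9]) (.leaf [nat_lit 11, nat_lit 9, nat_lit 11, nat_lit 9])))))) (.node (nat_lit 63) (.node (nat_lit 58) (.node (nat_lit 56) (.node (nat_lit 55) (.leaf [nat_lit 13, nat_lit 9, nat_lit 13, nat_lit 9]) (.leaf [nat_lit 15, nat_lit 9, nat_lit 15, nat_lit 9])) (.node (nat_lit 57) (.leaf [nat_lit 11, nat_lit 11, nat_lit 11]) (.leaf [nat_lit 1, nat_lit 11, nat_lit 1, nat_lit 11]))) (.node (nat_lit 60) (.node (nat_lit 59) (.leaf [nat_lit 3, nat_lit 11, nat_lit 3, nat_lit 11]) (.leaf [nat_lit 5, nat_lit 11, nat_lit 5, nat_lit 11])) (.node (nat_lit 61) (.leaf [nat_lit 7, nat_lit 11, nat_lit 7, nat_lit 11]) (.node (nat_lit 62) (.leaf [nat_lit 9, nat_lit 11, nat_lit 9, nat_lit 11]) (.leaf [nat_lit 13, nat_lit 11, nat_lit 13, nat_lit 11]))))) (.node (nat_lit 67) (.node (nat_lit 65) (.node (nat_lit 64) (.leaf [nat_lit 15,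 nat_lit 11, nat_lit 15, nat_lit 11]) (.leaf [nat_lit 13, nat_lit 13, nat_lit 13])) (.node (nat_lit 66) (.leaf [nat_lit 1, nat_lit 13, nat_lit 1, nat_lit 13]) (.leaf [nat_lit 3, nat_lit 13, nat_lit 3, nat_lit 13]))) (.node (nat_lit 69) (.node (nat_lit 68) (.leaf [nat_lit 5, nat_lit 13, nat_lit 5, nat_lit 13]) (.leaf [nat_lit 7, nat_lit 13, nat_lit 7, nat_lit 13])) (.node (nat_lit 70) (.leaf [nat_lit 9, nat_lit 13, nat_lit 9, nat_lit 13]) (.node (nat_lit 71) (.leaf [nat_lit 11, nat_lit 13, nat_lit 11, nat_lit 13]) (.leaf [nat_lit 15, nat_lit 13, nat_lit 15, nat_lit 13]))))))))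
noncomputable def P : TCP where
  lk := lk
  inv := (invT (nat_lit 17624991665624530879047544833) (nat_lit 16))
  wt := wt.get
  gens := [nat_lit 0, nat_lit 1, nat_lit 2, nat_lit 3, nat_lit 4, nat_lit 5, nat_lit 6, nat_lit 7, nat_lit 8, nat_lit 9, nat_lit 10, nat_lit 11, nat_lit 12, nat_lit 13, nat_lit 14, nat_lit 15]
  N := nat_lit 10
  n := nat_lit 10
  eps := nat_lit 16
  VM := nat_lit 31
  Wv := nat_lit 5
  MAXB := nat_lit 224
  JM := nat_lit 255
  Wj := nat_lit 8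
  Hm := nat_lit 16383
def ls : List Nat := [nat_lit 0, nat_lit 1, nat_lit 2, nat_lit 3, nat_lit 4, nat_lit 5, nat_lit 6, nat_lit 7, nat_lit 8, nat_lit 9, nat_lit 10, nat_lit 11, nat_lit 12, nat_lit 13, nat_lit 14, nat_lit 15, nat_lit 16]
def cl1 : Cl := (.gen (nat_lit 0) (.gen (nat_lit 1) (.gen (nat_lit 2) (.gen (nat_lit 3) (.gen (nat_lit 4) (.gen (nat_lit 5) (.gen (nat_lit 6) (.gen (nat_lit 7) (.gen (nat_lit 8) (.gen (nat_lit 9) (.gen (nat_lit 10) (.gen (nat_lit 11) (.gen (nat_lit 12) (.gen (nat_lit 13) (.gen (nat_lit 14) (.gen (nat_lit 15) (.opt (nat_lit 16) .nil)))))))))))))))))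
def cl2 : Cl := (.opt (nat_lit 0) (.opt (nat_lit 1) (.opt (nat_lit 2) (.opt (nat_lit 3) (.opt (nat_lit 4) (.opt (nat_lit 5) (.opt (nat_lit 6) (.opt (nat_lit 7) (.opt (nat_lit 8) (.opt (nat_lit 9) (.opt (nat_lit 10) (.opt (nat_lit 11) (.opt (nat_lit 12) (.opt (nat_lit 13) (.opt (nat_lit 14) (.opt (nat_lit 15) (.opt (nat_lit 16) .nil)))))))))))))))))
noncomputable def chk : ℕ → List ℕ → ℕ → Bool :=
  rows2 (nat_lit 10) (parOk P) (cols2 lk (nat_lit 224) (nat_lit 10) (nat_lit 10) (ent1 (nat_lit 31) (nat_lit 255) (nat_lit 8) (decJ wt.get)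
    (ent2 lk (nat_lit 31) (special P) (slowE lk (invT (nat_lit 17624991665624530879047544833) (nat_lit 16)) (nat_lit 10) (nat_lit 16) (nat_lit 31) (nat_lit 7))))) cl1 cl2
theorem rg {x y : ℕ} (Js : List ℕ) (h : chk y Js x = true) : RowsGood P ls x y :=
  rowsGood_of2 (c1 := cl1) (c2 := cl2) (by decide +kernel) h
def bases : List (List Nat × Nat) := [([0], 3), ([2], 3), ([4], 3), ([6], 3), ([8], 3), ([10], 3), ([12], 3), ([14], 3), ([0, 2], 2), ([0, 4], 2), ([0, 6], 2), ([0, 8], 2), ([0, 10], 2), ([0, 12], 2), ([0, 14], 2), ([2, 4], 2), ([2, 6], 2), ([2, 8], 2), ([2, 10], 2), ([2, 12], 2), ([2, 14], 2), ([4, 6], 2), ([4, 8], 2), ([4, 10], 2), ([4, 12], 2), ([4, 14], 2), ([6, 8], 2), ([6, 10], 2), ([6, 12], 2), ([6, 14], 2), ([8, 10], 2), ([8, 12], 2), ([8, 14], 2), ([10, 12], 2), ([10, 14], 2), ([12, 14], 2)]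
noncomputable def j0 : List ℕ := nat_lit 0x1010202020202020202020202020202 :: nat_lit 0x60122011e011a01160112010e010a :: nat_lit 0x40020221c1e181a141610120c0e080a :: nat_lit 0x320630222e1e2c1a2a162812260e2400 :: nat_lit 0x420640223e1e3c1a3a1638123400360a :: nat_lit 0x520650224e1e4c1a4a164400480e460a :: nat_lit 0x620660225e1e5c1a54005a12580e560a :: nat_lit 0x720670226e1e64006c166a12680e660a :: nat_lit 0x8206802274007e1a7c167a12780e760a :: nat_lit 0x92068400901e8e1a8c168a12880e860a :: []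
theorem c0 : RowsGood P ls 0 10 := rg j0 (by decide +kernel)
theorem f0 : RowsGood P ls 0 10 :=
  c0
theorem good : RowsGood P (List.range (P.eps + 1)) 0 P.N :=
  (f0 : RowsGood P ls 0 10)
theorem idx {G : Type*} [Group G] {E : ℕ → G} {inv : ℕ → ℕ} (hi : ∀ l, E (inv l) = (E l)⁻¹)
    {B : List (List ℕ × ℕ)} (hB : ∀ p ∈ B, lprod E p.1 ^ p.2 = 1) (σ : List (List ℕ))
    {hs ks : List (List ℕ)} (hc : certOk P wt bases inv B σ hs ks = true) :
    (gp E hs).relIndex (gp E ks) ≠ 0 ∧ (gp E hs).relIndex (gp E ks) ≤ 10 :=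
  tc_gp hi hB rfl (fun _ h => invT_of_le h) good σ hc

end Cfsg.Agent.H15.Alt11T7
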