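import Cfsg.Agent.H15.TC3
set_option autoImplicit false
set_option maxRecDepth 100000

namespace Cfsg.Agent.H15.Alt12T3
open Cfsg.Agent.H15 Cfsg.Agent.H14

noncomputable def t0_0 (_i : ℕ) : ℕ := (nat_lit 0x2a1e0d62a202d62b58a0d0f06911a444405a44028783386ce1b3868808721c088022d48b422cc310e0011054411103440007004040000000000)
noncomputable def blk (i : ℕ) : ℕ := (t0_0 i)
noncomputable def row (x : ℕ) : ℕ := frcN (Nat.shiftRight x (nat_lit 3)) fun b =>
  Nat.land (Nat.shiftRight (blk b) (Nat.mul (Nat.land x (nat_lit 7)) (nat_lit 77))) (nat_lit 0x1fffffffffffffffffff)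
noncomputable def lk (x l : ℕ) : ℕ :=
  Nat.land (Nat.shiftRight (row x) (Nat.mul l (nat_lit 7))) (nat_lit 127)
noncomputable def ap (x l : ℕ) : ℕ :=
  Nat.land (Nat.shiftRight (row x) (Nat.mul l (nat_lit 7))) (nat_lit 15)
noncomputable def wt : Wt := (.node (nat_lit 10) (.node (nat_lit 5) (.node (nat_lit 2) (.node (nat_lit 1) (.leaf [nat_lit 7, nat_lit 7, nat_lit 7]) (.leaf [nat_lit 6, nat_lit 7])) (.node (nat_lit 3) (.leaf [nat_lit 1, nat_lit 7, nat_lit 1, nat_lit 7]) (.node (nat_lit 4) (.leaf [nat_lit 0, nat_lit 1]) (.leaf [nat_lit 3, nat_lit 7, nat_lit 3, nat_lit 7])))) (.node (nat_lit 7) (.node (nat_lit 6) (.leaf [nat_lit 2, nat_lit 3]) (.leaf [nat_lit 5, nat_lit 7, nat_lit 5, nat_lit 7])) (.node (nat_lit 8) (.leaf [nat_lit 4, nat_lit 5]) (.node (nat_lit 9) (.leaf [nat_lit 1, nat_lit 1, nat_lit 1]) (.leaf [nat_lit 3, nat_lit 1, nat_lit 3, nat_lit 1]))))) (.node (nat_lit 15) (.node (nat_lit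 12) (.node (nat_lit 11) (.leaf [nat_lit 5, nat_lit 1, nat_lit 5, nat_lit 1]) (.leaf [nat_lit 7, nat_lit 1, nat_lit 7, nat_lit 1])) (.node (nat_lit 13) (.leaf [nat_lit 3, nat_lit 3, nat_lit 3]) (.node (nat_lit 14) (.leaf [nat_lit 1, nat_lit 3, nat_lit 1, nat_lit 3]) (.leaf [nat_lit 5, nat_lit 3, nat_lit 5, nat_lit 3])))) (.node (nat_lit 17) (.node (nat_lit 16) (.leaf [nat_lit 7, nat_lit 3, nat_lit 7, nat_lit 3]) (.leaf [nat_lit 5, nat_lit 5, nat_lit 5])) (.node (nat_lit 18) (.leaf [nat_lit 1, nat_lit 5, nat_lit 1, nat_lit 5]) (.node (nat_lit 19) (.leaf [nat_lit 3, nat_lit 5, nat_lit 3, nat_lit 5]) (.leaf [nat_lit 7, nat_lit 5, nat_lit 7, nat_lit 5]))))))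
noncomputable def P : TCP where
  lk := lk
  inv := (invT (nat_lit 26873694793729) (nat_lit 8))
  wt := wt.get
  gens := [nat_lit 0, nat_lit 1, nat_lit 2, nat_lit 3, nat_lit 4, nat_lit 5, nat_lit 6, nat_lit 7]
  N := nat_lit 6
  n := nat_lit 6
  eps := nat_lit 8
  VM := nat_lit 15
  Wv := nat_lit 4
  MAXB := nat_lit 112
  JM := nat_lit 63
  Wj := nat_lit 6
  Hm := nat_lit 63
def ls : List Nat := [nat_lit 0, nat_lit 1, nat_lit 2, nat_lit 3, nat_lit 4, nat_lit 5, nat_lit 6, nat_lit 7, nat_lit 8]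
def cl1 : Cl := (.gen (nat_lit 0) (.gen (nat_lit 1) (.gen (nat_lit 2) (.gen (nat_lit 3) (.gen (nat_lit 4) (.gen (nat_lit 5) (.gen (nat_lit 6) (.gen (nat_lit 7) (.opt (nat_lit 8) .nil)))))))))
def cl2 : Cl := (.opt (nat_lit 0) (.opt (nat_lit 1) (.opt (nat_lit 2) (.opt (nat_lit 3) (.opt (nat_lit 4) (.opt (nat_lit 5) (.opt (nat_lit 6) (.opt (nat_lit 7) (.opt (nat_lit 8) .nil)))))))))
noncomputable def chk : ℕ → List ℕ → ℕ → Bool :=
  rows2 (nat_lit 6) (parOk P) (cols2 lk (nat_lit 112) (nat_lit 6) (nat_lit 6) (ent1 (nat_lit 15) (nat_lit 63) (nat_lit 6) (decJ wt.get)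
    (ent2 lk (nat_lit 15) (special P) (slowE lk (invT (nat_lit 26873694793729) (nat_lit 8)) (nat_lit 6) (nat_lit 8) (nat_lit 15) (nat_lit 6))))) cl1 cl2
theorem rg {x y : ℕ} (Js : List ℕ) (h : chk y Js x = true) : RowsGood P ls x y :=
  rowsGood_of2 (c1 := cl1) (c2 := cl2) (by decide +kernel) h
def bases : List (List Nat × Nat) := [([0], 3), ([2], 3), ([4], 3), ([6], 3), ([0, 2], 2), ([0, 4], 2), ([0, 6], 2), ([2, 4], 2), ([2, 6], 2), ([4, 6], 2)]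
noncomputable def j0 : List ℕ := nat_lit 0x41082082082 :: nat_lit 0x605204e04a :: nat_lit 0x10041230e20a :: nat_lit 0x68661258e500 :: nat_lit 0x88681270078a :: nat_lit 0xa86900a0e98a :: []
theorem c0 : RowsGood P ls 0 6 := rg j0 (by decide +kernel)
theorem f0 : RowsGood P ls 0 6 :=
  c0
theorem good : RowsGood P (List.range (P.eps + 1)) 0 P.N :=
  (f0 : RowsGood P ls 0 6)
theorem idx {G : Type*} [Group G] {E : ℕ → G} {inv : ℕ → ℕ} (hi : ∀ l, E (inv l) = (E l)⁻¹)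
    {B : List (List ℕ × ℕ)} (hB : ∀ p ∈ B, lprod E p.1 ^ p.2 = 1) (σ : List (List ℕ))
    {hs ks : List (List ℕ)} (hc : certOk P wt bases inv B σ hs ks = true) :
    (gp E hs).relIndex (gp E ks) ≠ 0 ∧ (gp E hs).relIndex (gp E ks) ≤ 6 :=
  tc_gp hi hB rfl (fun _ h => invT_of_le h) good σ hc

end Cfsg.Agent.H15.Alt12T3
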