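import Cfsg.Agent.H15.TC3
set_option autoImplicit false
set_option maxRecDepth 100000

namespace Cfsg.Agent.H15.Alt12T5
open Cfsg.Agent.H15 Cfsg.Agent.H14

noncomputable def t0_0 (_i : ℕ) : ℕ := (nat_lit 0x12878378e880b78ede3b78ede38743c1b466d191016d19b466d182a1e0d62b58ad62a202d62b58a0d0f06911a446911a444405a44028783386ce1b386ce1b3868808b21c088022dc8b622d48b422cc510e001107441910544111034400070040400000000000000000)
noncomputable def blk (i : ℕ) : ℕ := (t0_0 i)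
noncomputable def row (x : ℕ) : ℕ := frcN (Nat.shiftRight x (nat_lit 3)) fun b =>
  Nat.land (Nat.shiftRight (blk b) (Nat.mul (Nat.land x (nat_lit 7)) (nat_lit 105))) (nat_lit 0x1ffffffffffffffffffffffffff)
noncomputable def lk (x l : ℕ) : ℕ :=
  Nat.land (Nat.shiftRight (row x) (Nat.mul l (nat_lit 7))) (nat_lit 127)
noncomputable def ap (x l : ℕ) : ℕ :=
  Nat.land (Nat.shiftRight (row x) (Nat.mul l (nat_lit 7))) (nat_lit 15)
noncomputable def wt : Wt := (.node (nat_lit 21) (.node (nat_lit 10) (.node (nat_lit 5) (.node (nat_lit 2) (.node (nat_lit 1) (.leaf [nat_lit 11, nat_lit 11, nat_lit 11]) (.leaf [nat_lit 10, nat_lit 11])) (.node (nat_lit 3) (.leaf [nat_lit 1, nat_lit 11, nat_lit 1, nat_lit 11]) (.node (nat_lit 4) (.leaf [nat_lit 0, nat_lit 1]) (.leaf [nat_lit 3, nat_lit 11, nat_lit 3, nat_lit 11])))) (.node (nat_lit 7) (.node (nat_lit 6) (.leaf [nat_lit 2, nat_lit 3]) (.leaf [nat_lit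 5, nat_lit 11, nat_lit 5, nat_lit 11])) (.node (nat_lit 8) (.leaf [nat_lit 4, nat_lit 5]) (.node (nat_lit 9) (.leaf [nat_lit 7, nat_lit 11, nat_lit 7, nat_lit 11]) (.leaf [nat_lit 6, nat_lit 7]))))) (.node (nat_lit 15) (.node (nat_lit 12) (.node (nat_lit 11) (.leaf [nat_lit 9, nat_lit 11, nat_lit 9, nat_lit 11]) (.leaf [nat_lit 8, nat_lit 9])) (.node (nat_lit 13) (.leaf [nat_lit 1, nat_lit 1, nat_lit 1]) (.node (nat_lit 14) (.leaf [nat_lit 3, nat_lit 1, nat_lit 3, nat_lit 1]) (.leaf [nat_lit 5, nat_lit 1, nat_lit 5, nat_lit 1])))) (.node (nat_lit 18) (.node (nat_lit 16) (.leaf [nat_lit 7, nat_lit 1, nat_lit 7, nat_lit 1]) (.node (nat_lit 17) (.leaf [nat_lit 9, nat_lit 1, nat_lit 9, nat_lit 1]) (.leaf [nat_lit 11, nat_lit 1, nat_lit 11, nat_lit 1]))) (.node (nat_lit 19) (.leaf [nat_lit 3, nat_lit 3, nat_lit 3]) (.node (nat_lit 20) (.leaf [nat_lit 1, nat_lit 3, nat_lit 1, nat_lit 3]) (.leaf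 [nat_lit 5, nat_lit 3, nat_lit 5, nat_lit 3])))))) (.node (nat_lit 31) (.node (nat_lit 26) (.node (nat_lit 23) (.node (nat_lit 22) (.leaf [nat_lit 7, nat_lit 3, nat_lit 7, nat_lit 3]) (.leaf [nat_lit 9, nat_lit 3, nat_lit 9, nat_lit 3])) (.node (nat_lit 24) (.leaf [nat_lit 11, nat_lit 3, nat_lit 11, nat_lit 3]) (.node (nat_lit 25) (.leaf [nat_lit 5, nat_lit 5, nat_lit 5]) (.leaf [nat_lit 1, nat_lit 5, nat_lit 1, nat_lit 5])))) (.node (nat_lit 28) (.node (nat_lit 27) (.leaf [nat_lit 3, nat_lit 5, nat_lit 3, nat_lit 5]) (.leaf [nat_lit 7, nat_lit 5, nat_lit 7, nat_lit 5])) (.node (nat_lit 29) (.leaf [nat_lit 9, nat_lit 5, nat_lit 9, nat_lit 5]) (.node (nat_lit 30) (.leaf [nat_lit 11, nat_lit 5, nat_lit 11, nat_lit 5]) (.leaf [nat_lit 7, nat_lit 7, nat_lit 7]))))) (.node (nat_lit 36) (.node (nat_lit 33) (.node (nat_lit 32) (.leaf [nat_lit 1, nat_lit 7, nat_lit 1, nat_lit 7]) (.leaf [nat_lit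 3, nat_lit 7, nat_lit 3, nat_lit 7])) (.node (nat_lit 34) (.leaf [nat_lit 5, nat_lit 7, nat_lit 5, nat_lit 7]) (.node (nat_lit 35) (.leaf [nat_lit 9, nat_lit 7, nat_lit 9, nat_lit 7]) (.leaf [nat_lit 11, nat_lit 7, nat_lit 11, nat_lit 7])))) (.node (nat_lit 39) (.node (nat_lit 37) (.leaf [nat_lit 9, nat_lit 9, nat_lit 9]) (.node (nat_lit 38) (.leaf [nat_lit 1, nat_lit 9, nat_lit 1, nat_lit 9]) (.leaf [nat_lit 3, nat_lit 9, nat_lit 3, nat_lit 9]))) (.node (nat_lit 40) (.leaf [nat_lit 5, nat_lit 9, nat_lit 5, nat_lit 9]) (.node (nat_lit 41) (.leaf [nat_lit 7, nat_lit 9, nat_lit 7, nat_lit 9]) (.leaf [nat_lit 11, nat_lit 9, nat_lit 11, nat_lit 9])))))))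
noncomputable def P : TCP where
  lk := lk
  inv := (invT (nat_lit 750698574835618426881) (nat_lit 12))
  wt := wt.get
  gens := [nat_lit 0, nat_lit 1, nat_lit 2, nat_lit 3, nat_lit 4, nat_lit 5, nat_lit 6, nat_lit 7, nat_lit 8, nat_lit 9, nat_lit 10, nat_lit 11]
  N := nat_lit 8
  n := nat_lit 8
  eps := nat_lit 12
  VM := nat_lit 15
  Wv := nat_lit 4
  MAXB := nat_lit 112
  JM := nat_lit 127
  Wj := nat_lit 7
  Hm := nat_lit 1023
def ls : List Nat := [nat_lit 0, nat_lit 1, nat_lit 2, nat_lit 3, nat_lit 4, nat_lit 5, nat_lit 6, nat_lit 7, nat_lit 8, nat_lit 9, nat_lit 10, nat_lit 11, nat_lit 12]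
def cl1 : Cl := (.gen (nat_lit 0) (.gen (nat_lit 1) (.gen (nat_lit 2) (.gen (nat_lit 3) (.gen (nat_lit 4) (.gen (nat_lit 5) (.gen (nat_lit 6) (.gen (nat_lit 7) (.gen (nat_lit 8) (.gen (nat_lit 9) (.gen (nat_lit 10) (.gen (nat_lit 11) (.opt (nat_lit 12) .nil)))))))))))))
def cl2 : Cl := (.opt (nat_lit 0) (.opt (nat_lit 1) (.opt (nat_lit 2) (.opt (nat_lit 3) (.opt (nat_lit 4) (.opt (nat_lit 5) (.opt (nat_lit 6) (.opt (nat_lit 7) (.opt (nat_lit 8) (.opt (nat_lit 9) (.opt (nat_lit 10) (.opt (nat_lit 11) (.opt (nat_lit 12) .nil)))))))))))))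
noncomputable def chk : ℕ → List ℕ → ℕ → Bool :=
  rows2 (nat_lit 8) (parOk P) (cols2 lk (nat_lit 112) (nat_lit 8) (nat_lit 8) (ent1 (nat_lit 15) (nat_lit 127) (nat_lit 7) (decJ wt.get)
    (ent2 lk (nat_lit 15) (special P) (slowE lk (invT (nat_lit 750698574835618426881) (nat_lit 12)) (nat_lit 8) (nat_lit 12) (nat_lit 15) (nat_lit 6))))) cl1 cl2
theorem rg {x y : ℕ} (Js : List ℕ) (h : chk y Js x = true) : RowsGood P ls x y :=
  rowsGood_of2 (c1 := cl1) (c2 := cl2) (by decide +kernel) h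
def bases : List (List Nat × Nat) := [([0], 3), ([2], 3), ([4], 3), ([6], 3), ([8], 3), ([10], 3), ([0, 2], 2), ([0, 4], 2), ([0, 6], 2), ([0, 8], 2), ([0, 10], 2), ([2, 4], 2), ([2, 6], 2), ([2, 8], 2), ([2, 10], 2), ([4, 6], 2), ([4, 8], 2), ([4, 10], 2), ([6, 8], 2), ([6, 10], 2), ([8, 10], 2)]
noncomputable def j0 : List ℕ := nat_lit 0x20410204081020408102 :: nat_lit 0x1809a0258092023808a :: nat_lit 0x800c1a2858812183840a :: nat_lit 0x4c1921a44590123c38e00 :: nat_lit 0x641981a5c59612500150a :: nat_lit 0x7c19e1a7459a007039b0a :: nat_lit 0x941a41a8002312883a10a :: nat_lit 0xac1a600a85a912a03a70a :: []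
theorem c0 : RowsGood P ls 0 8 := rg j0 (by decide +kernel)
theorem f0 : RowsGood P ls 0 8 :=
  c0
theorem good : RowsGood P (List.range (P.eps + 1)) 0 P.N :=
  (f0 : RowsGood P ls 0 8)
theorem idx {G : Type*} [Group G] {E : ℕ → G} {inv : ℕ → ℕ} (hi : ∀ l, E (inv l) = (E l)⁻¹)
    {B : List (List ℕ × ℕ)} (hB : ∀ p ∈ B, lprod E p.1 ^ p.2 = 1) (σ : List (List ℕ))
    {hs ks : List (List ℕ)} (hc : certOk P wt bases inv B σ hs ks = true) :
    (gp E hs).relIndex (gp E ks) ≠ 0 ∧ (gp E hs).relIndex (gp E ks) ≤ 8 :=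
  tc_gp hi hB rfl (fun _ h => invT_of_le h) good σ hc

end Cfsg.Agent.H15.Alt12T5
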