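import Cfsg.Agent.H15.TC3
set_option autoImplicit false
set_option maxRecDepth 100000

namespace Cfsg.Agent.H15.Alt12T9
open Cfsg.Agent.H15 Cfsg.Agent.H14

noncomputable def t0_0 (_i : ℕ) : ℕ := (nat_lit 0x1141e06b8b42016b8b6b8b6b8b6b8b6b8b6b8b6b8b6b8b0f41e06a8a6a8a42016a8a6a8a6a8a6a8a6a8a6a8a6a8a0d41e069896989698942016989698969896989698969890b41e068886888688868884201688868886888688868880941e067876787678767876787420167876787678767870741e066866686668666866686668642016686668666860541e065856585658565856585658565854201658565850341e064846484648464846484648464846484420164840141e063836383638363836383638363836383638342011320e02100216b216a21692168216721662165216421631220e000420b420a4209420842074206420542044203420000e00201000000000000000000000000000000000000)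
noncomputable def blk (i : ℕ) : ℕ := (t0_0 i)
noncomputable def row (x : ℕ) : ℕ := frcN (Nat.shiftRight x (nat_lit 4)) fun b =>
  Nat.land (Nat.shiftRight (blk b) (Nat.mul (Nat.land x (nat_lit 15)) (nat_lit 184))) (nat_lit 0xffffffffffffffffffffffffffffffffffffffffffffff)
noncomputable def lk (x l : ℕ) : ℕ :=
  Nat.land (Nat.shiftRight (row x) (Nat.mul l (nat_lit 8))) (nat_lit 255)
noncomputable def ap (x l : ℕ) : ℕ :=
  Nat.land (Nat.shiftRight (row x) (Nat.mul l (nat_lit 8))) (nat_lit 31)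
noncomputable def wt : Wt := (.node (nat_lit 55) (.node (nat_lit 27) (.node (nat_lit 13) (.node (nat_lit 6) (.node (nat_lit 3) (.node (nat_lit 1) (.leaf [nat_lit 19, nat_lit 19, nat_lit 19]) (.node (nat_lit 2) (.leaf [nat_lit 18, nat_lit 19]) (.leaf [nat_lit 1, nat_lit 19, nat_lit 1, nat_lit 19]))) (.node (nat_lit 4) (.leaf [nat_lit 0, nat_lit 1]) (.node (nat_lit 5) (.leaf [nat_lit 3, nat_lit 19, nat_lit 3, nat_lit 19]) (.leaf [nat_lit 2, nat_lit 3])))) (.node (nat_lit 9) (.node (nat_lit 7) (.leaf [nat_lit 5, nat_lit 19, nat_lit 5, nat_lit 19]) (.node (nat_lit 8) (.leaf [nat_lit 4, nat_lit 5]) (.leaf [nat_lit 7, nat_lit 19, nat_lit 7, nat_lit 19]))) (.node (nat_lit 11) (.node (nat_lit 10) (.leaf [nat_lit 6, nat_lit 7]) (.leaf [nat_lit 9, nat_lit 19, nat_lit 9, nat_lit 19])) (.node (nat_lit 12) (.leaf [nat_lit 8, nat_lit 9]) (.leaf [nat_lit 11, nat_lit 19, nat_lit 11, nat_lit 19]))))) (.node (nat_lit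 20) (.node (nat_lit 16) (.node (nat_lit 14) (.leaf [nat_lit 10, nat_lit 11]) (.node (nat_lit 15) (.leaf [nat_lit 13, nat_lit 19, nat_lit 13, nat_lit 19]) (.leaf [nat_lit 12, nat_lit 13]))) (.node (nat_lit 18) (.node (nat_lit 17) (.leaf [nat_lit 15, nat_lit 19, nat_lit 15, nat_lit 19]) (.leaf [nat_lit 14, nat_lit 15])) (.node (nat_lit 19) (.leaf [nat_lit 17, nat_lit 19, nat_lit 17, nat_lit 19]) (.leaf [nat_lit 16, nat_lit 17])))) (.node (nat_lit 23) (.node (nat_lit 21) (.leaf [nat_lit 1, nat_lit 1, nat_lit 1]) (.node (nat_lit 22) (.leaf [nat_lit 3, nat_lit 1, nat_lit 3, nat_lit 1]) (.leaf [nat_lit 5, nat_lit 1, nat_lit 5, nat_lit 1]))) (.node (nat_lit 25) (.node (nat_lit 24) (.leaf [nat_lit 7, nat_lit 1, nat_lit 7, nat_lit 1]) (.leaf [nat_lit 9, nat_lit 1, nat_lit 9, nat_lit 1])) (.node (nat_lit 26) (.leaf [nat_lit 11, nat_lit 1, nat_lit 11, nat_lit 1]) (.leaf [nat_lit 13, nat_lit 1, nat_lit 13, nat_lit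 1])))))) (.node (nat_lit 41) (.node (nat_lit 34) (.node (nat_lit 30) (.node (nat_lit 28) (.leaf [nat_lit 15, nat_lit 1, nat_lit 15, nat_lit 1]) (.node (nat_lit 29) (.leaf [nat_lit 17, nat_lit 1, nat_lit 17, nat_lit 1]) (.leaf [nat_lit 19, nat_lit 1, nat_lit 19, nat_lit 1]))) (.node (nat_lit 32) (.node (nat_lit 31) (.leaf [nat_lit 3, nat_lit 3, nat_lit 3]) (.leaf [nat_lit 1, nat_lit 3, nat_lit 1, nat_lit 3])) (.node (nat_lit 33) (.leaf [nat_lit 5, nat_lit 3, nat_lit 5, nat_lit 3]) (.leaf [nat_lit 7, nat_lit 3, nat_lit 7, nat_lit 3])))) (.node (nat_lit 37) (.node (nat_lit 35) (.leaf [nat_lit 9, nat_lit 3, nat_lit 9, nat_lit 3]) (.node (nat_lit 36) (.leaf [nat_lit 11, nat_lit 3, nat_lit 11, nat_lit 3]) (.leaf [nat_lit 13, nat_lit 3, nat_lit 13, nat_lit 3]))) (.node (nat_lit 39) (.node (nat_lit 38) (.leaf [nat_lit 15, nat_lit 3, nat_lit 15, nat_lit 3]) (.leaf [nat_lit 17, nat_lit 3, nat_lit 17, nat_lit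 3])) (.node (nat_lit 40) (.leaf [nat_lit 19, nat_lit 3, nat_lit 19, nat_lit 3]) (.leaf [nat_lit 5, nat_lit 5, nat_lit 5]))))) (.node (nat_lit 48) (.node (nat_lit 44) (.node (nat_lit 42) (.leaf [nat_lit 1, nat_lit 5, nat_lit 1, nat_lit 5]) (.node (nat_lit 43) (.leaf [nat_lit 3, nat_lit 5, nat_lit 3, nat_lit 5]) (.leaf [nat_lit 7, nat_lit 5, nat_lit 7, nat_lit 5]))) (.node (nat_lit 46) (.node (nat_lit 45) (.leaf [nat_lit 9, nat_lit 5, nat_lit 9, nat_lit 5]) (.leaf [nat_lit 11, nat_lit 5, nat_lit 11, nat_lit 5])) (.node (nat_lit 47) (.leaf [nat_lit 13, nat_lit 5, nat_lit 13, nat_lit 5]) (.leaf [nat_lit 15, nat_lit 5, nat_lit 15, nat_lit 5])))) (.node (nat_lit 51) (.node (nat_lit 49) (.leaf [nat_lit 17, nat_lit 5, nat_lit 17, nat_lit 5]) (.node (nat_lit 50) (.leaf [nat_lit 19, nat_lit 5, nat_lit 19, nat_lit 5]) (.leaf [nat_lit 7, nat_lit 7, nat_lit 7]))) (.node (nat_lit 53) (.node (nat_lit 52) (.leaf [nat_lit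 1, nat_lit 7, nat_lit 1, nat_lit 7]) (.leaf [nat_lit 3, nat_lit 7, nat_lit 3, nat_lit 7])) (.node (nat_lit 54) (.leaf [nat_lit 5, nat_lit 7, nat_lit 5, nat_lit 7]) (.leaf [nat_lit 9, nat_lit 7, nat_lit 9, nat_lit 7]))))))) (.node (nat_lit 82) (.node (nat_lit 68) (.node (nat_lit 61) (.node (nat_lit 58) (.node (nat_lit 56) (.leaf [nat_lit 11, nat_lit 7, nat_lit 11, nat_lit 7]) (.node (nat_lit 57) (.leaf [nat_lit 13, nat_lit 7, nat_lit 13, nat_lit 7]) (.leaf [nat_lit 15, nat_lit 7, nat_lit 15, nat_lit 7]))) (.node (nat_lit 59) (.leaf [nat_lit 17, nat_lit 7, nat_lit 17, nat_lit 7]) (.node (nat_lit 60) (.leaf [nat_lit 19, nat_lit 7, nat_lit 19, nat_lit 7]) (.leaf [nat_lit 9, nat_lit 9, nat_lit 9])))) (.node (nat_lit 64) (.node (nat_lit 62) (.leaf [nat_lit 1, nat_lit 9, nat_lit 1, nat_lit 9]) (.node (nat_lit 63) (.leaf [nat_lit 3, nat_lit 9, nat_lit 3, nat_lit 9]) (.leaf [nat_lit 5, nat_lit 9, nat_lit 5,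 nat_lit 9]))) (.node (nat_lit 66) (.node (nat_lit 65) (.leaf [nat_lit 7, nat_lit 9, nat_lit 7, nat_lit 9]) (.leaf [nat_lit 11, nat_lit 9, nat_lit 11, nat_lit 9])) (.node (nat_lit 67) (.leaf [nat_lit 13, nat_lit 9, nat_lit 13, nat_lit 9]) (.leaf [nat_lit 15, nat_lit 9, nat_lit 15, nat_lit 9]))))) (.node (nat_lit 75) (.node (nat_lit 71) (.node (nat_lit 69) (.leaf [nat_lit 17, nat_lit 9, nat_lit 17, nat_lit 9]) (.node (nat_lit 70) (.leaf [nat_lit 19, nat_lit 9, nat_lit 19, nat_lit 9]) (.leaf [nat_lit 11, nat_lit 11, nat_lit 11]))) (.node (nat_lit 73) (.node (nat_lit 72) (.leaf [nat_lit 1, nat_lit 11, nat_lit 1, nat_lit 11]) (.leaf [nat_lit 3, nat_lit 11, nat_lit 3, nat_lit 11])) (.node (nat_lit 74) (.leaf [nat_lit 5, nat_lit 11, nat_lit 5, nat_lit 11]) (.leaf [nat_lit 7, nat_lit 11, nat_lit 7, nat_lit 11])))) (.node (nat_lit 78) (.node (nat_lit 76) (.leaf [nat_lit 9, nat_lit 11, nat_lit 9, nat_lit 11])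 (.node (nat_lit 77) (.leaf [nat_lit 13, nat_lit 11, nat_lit 13, nat_lit 11]) (.leaf [nat_lit 15, nat_lit 11, nat_lit 15, nat_lit 11]))) (.node (nat_lit 80) (.node (nat_lit 79) (.leaf [nat_lit 17, nat_lit 11, nat_lit 17, nat_lit 11]) (.leaf [nat_lit 19, nat_lit 11, nat_lit 19, nat_lit 11])) (.node (nat_lit 81) (.leaf [nat_lit 13, nat_lit 13, nat_lit 13]) (.leaf [nat_lit 1, nat_lit 13, nat_lit 1, nat_lit 13])))))) (.node (nat_lit 96) (.node (nat_lit 89) (.node (nat_lit 85) (.node (nat_lit 83) (.leaf [nat_lit 3, nat_lit 13, nat_lit 3, nat_lit 13]) (.node (nat_lit 84) (.leaf [nat_lit 5, nat_lit 13, nat_lit 5, nat_lit 13]) (.leaf [nat_lit 7, nat_lit 13, nat_lit 7, nat_lit 13]))) (.node (nat_lit 87) (.node (nat_lit 86) (.leaf [nat_lit 9, nat_lit 13, nat_lit 9, nat_lit 13]) (.leaf [nat_lit 11, nat_lit 13, nat_lit 11, nat_lit 13])) (.node (nat_lit 88) (.leaf [nat_lit 15, nat_lit 13, nat_lit 15, nat_lit 13])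 (.leaf [nat_lit 17, nat_lit 13, nat_lit 17, nat_lit 13])))) (.node (nat_lit 92) (.node (nat_lit 90) (.leaf [nat_lit 19, nat_lit 13, nat_lit 19, nat_lit 13]) (.node (nat_lit 91) (.leaf [nat_lit 15, nat_lit 15, nat_lit 15]) (.leaf [nat_lit 1, nat_lit 15, nat_lit 1, nat_lit 15]))) (.node (nat_lit 94) (.node (nat_lit 93) (.leaf [nat_lit 3, nat_lit 15, nat_lit 3, nat_lit 15]) (.leaf [nat_lit 5, nat_lit 15, nat_lit 5, nat_lit 15])) (.node (nat_lit 95) (.leaf [nat_lit 7, nat_lit 15, nat_lit 7, nat_lit 15]) (.leaf [nat_lit 9, nat_lit 15, nat_lit 9, nat_lit 15]))))) (.node (nat_lit 103) (.node (nat_lit 99) (.node (nat_lit 97) (.leaf [nat_lit 11, nat_lit 15, nat_lit 11, nat_lit 15]) (.node (nat_lit 98) (.leaf [nat_lit 13, nat_lit 15, nat_lit 13, nat_lit 15]) (.leaf [nat_lit 17, nat_lit 15, nat_lit 17, nat_lit 15]))) (.node (nat_lit 101) (.node (nat_lit 100) (.leaf [nat_lit 19, nat_lit 15, nat_lit 19, nat_lit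 15]) (.leaf [nat_lit 17, nat_lit 17, nat_lit 17])) (.node (nat_lit 102) (.leaf [nat_lit 1, nat_lit 17, nat_lit 1, nat_lit 17]) (.leaf [nat_lit 3, nat_lit 17, nat_lit 3, nat_lit 17])))) (.node (nat_lit 106) (.node (nat_lit 104) (.leaf [nat_lit 5, nat_lit 17, nat_lit 5, nat_lit 17]) (.node (nat_lit 105) (.leaf [nat_lit 7, nat_lit 17, nat_lit 7, nat_lit 17]) (.leaf [nat_lit 9, nat_lit 17, nat_lit 9, nat_lit 17]))) (.node (nat_lit 108) (.node (nat_lit 107) (.leaf [nat_lit 11, nat_lit 17, nat_lit 11, nat_lit 17]) (.leaf [nat_lit 13, nat_lit 17, nat_lit 13, nat_lit 17])) (.node (nat_lit 109) (.leaf [nat_lit 15, nat_lit 17, nat_lit 15, nat_lit 17]) (.leaf [nat_lit 19, nat_lit 17, nat_lit 19, nat_lit 17]))))))))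
noncomputable def P : TCP where
  lk := lk
  inv := (invT (nat_lit 380093720476186711863041458394640385) (nat_lit 20))
  wt := wt.get
  gens := [nat_lit 0, nat_lit 1, nat_lit 2, nat_lit 3, nat_lit 4, nat_lit 5, nat_lit 6, nat_lit 7, nat_lit 8, nat_lit 9, nat_lit 10, nat_lit 11, nat_lit 12, nat_lit 13, nat_lit 14, nat_lit 15, nat_lit 16, nat_lit 17, nat_lit 18, nat_lit 19]
  N := nat_lit 12
  n := nat_lit 12
  eps := nat_lit 20
  VM := nat_lit 31
  Wv := nat_lit 5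
  MAXB := nat_lit 224
  JM := nat_lit 255
  Wj := nat_lit 8
  Hm := nat_lit 262143
def ls : List Nat := [nat_lit 0, nat_lit 1, nat_lit 2, nat_lit 3, nat_lit 4, nat_lit 5, nat_lit 6, nat_lit 7, nat_lit 8, nat_lit 9, nat_lit 10, nat_lit 11, nat_lit 12, nat_lit 13, nat_lit 14, nat_lit 15, nat_lit 16, nat_lit 17, nat_lit 18, nat_lit 19, nat_lit 20]
def cl1 : Cl := (.gen (nat_lit 0) (.gen (nat_lit 1) (.gen (nat_lit 2) (.gen (nat_lit 3) (.gen (nat_lit 4) (.gen (nat_lit 5) (.gen (nat_lit 6) (.gen (nat_lit 7) (.gen (nat_lit 8) (.gen (nat_lit 9) (.gen (nat_lit 10) (.gen (nat_lit 11) (.gen (nat_lit 12) (.gen (nat_lit 13) (.gen (nat_lit 14) (.gen (nat_lit 15) (.gen (nat_lit 16) (.gen (nat_lit 17) (.gen (nat_lit 18) (.gen (nat_lit 19) (.opt (nat_lit 20) .nil)))))))))))))))))))))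
def cl2 : Cl := (.opt (nat_lit 0) (.opt (nat_lit 1) (.opt (nat_lit 2) (.opt (nat_lit 3) (.opt (nat_lit 4) (.opt (nat_lit 5) (.opt (nat_lit 6) (.opt (nat_lit 7) (.opt (nat_lit 8) (.opt (nat_lit 9) (.opt (nat_lit 10) (.opt (nat_lit 11) (.opt (nat_lit 12) (.opt (nat_lit 13) (.opt (nat_lit 14) (.opt (nat_lit 15) (.opt (nat_lit 16) (.opt (nat_lit 17) (.opt (nat_lit 18) (.opt (nat_lit 19) (.opt (nat_lit 20) .nil)))))))))))))))))))))
noncomputable def chk : ℕ → List ℕ → ℕ → Bool :=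
  rows2 (nat_lit 12) (parOk P) (cols2 lk (nat_lit 224) (nat_lit 12) (nat_lit 12) (ent1 (nat_lit 31) (nat_lit 255) (nat_lit 8) (decJ wt.get)
    (ent2 lk (nat_lit 31) (special P) (slowE lk (invT (nat_lit 380093720476186711863041458394640385) (nat_lit 20)) (nat_lit 12) (nat_lit 20) (nat_lit 31) (nat_lit 7))))) cl1 cl2
theorem rg {x y : ℕ} (Js : List ℕ) (h : chk y Js x = true) : RowsGood P ls x y :=
  rowsGood_of2 (c1 := cl1) (c2 := cl2) (by decide +kernel) h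
def bases : List (List Nat × Nat) := [([0], 3), ([2], 3), ([4], 3), ([6], 3), ([8], 3), ([10], 3), ([12], 3), ([14], 3), ([16], 3), ([18], 3), ([0, 2], 2), ([0, 4], 2), ([0, 6], 2), ([0, 8], 2), ([0, 10], 2), ([0, 12], 2), ([0, 14], 2), ([0, 16], 2), ([0, 18], 2), ([2, 4], 2), ([2, 6], 2), ([2, 8], 2), ([2, 10], 2), ([2, 12], 2), ([2, 14], 2), ([2, 16], 2), ([2, 18], 2), ([4, 6], 2), ([4, 8], 2), ([4, 10], 2), ([4, 12], 2), ([4, 14], 2), ([4, 16], 2), ([4, 18], 2), ([6, 8], 2), ([6, 10], 2), ([6, 12], 2), ([6, 14], 2), ([6, 16], 2), ([6, 18], 2), ([8, 10], 2), ([8, 12], 2), ([8, 14], 2), ([8, 16], 2), ([8, 18], 2), ([10, 12], 2), ([10, 14], 2), ([10, 16], 2), ([10, 18], 2), ([12, 14], 2), ([12, 16], 2), ([12, 18], 2), ([14, 16], 2), ([14, 18], 2), ([16, 18], 2)]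
noncomputable def j0 : List ℕ := nat_lit 0x101020202020202020202020202020202020202 :: nat_lit 0x6012a01260122011e011a01160112010e010a :: nat_lit 0x400282a242620221c1e181a141610120c0e080a :: nat_lit 0x3e063c2a3a263822361e341a321630122e0e2c00 :: nat_lit 0x5206502a4e264c224a1e481a461644124000420a :: nat_lit 0x6606642a622660225e1e5c1a5a165400580e560a :: nat_lit 0x7a06782a76267422721e701a68006e126c0e6a0a :: nat_lit 0x8e068c2a8a268822861e7c0084168212800e7e0a :: nat_lit 0xa206a02a9e269c2290009a1a98169612940e920a :: nat_lit 0xb606b42ab226a400b01eae1aac16aa12a80ea60a :: nat_lit 0xca06c82ab800c622c41ec21ac016be12bc0eba0a :: nat_lit 0xde06cc00dc26da22d81ed61ad416d212d00ece0a :: []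
theorem c0 : RowsGood P ls 0 12 := rg j0 (by decide +kernel)
theorem f0 : RowsGood P ls 0 12 :=
  c0
theorem good : RowsGood P (List.range (P.eps + 1)) 0 P.N :=
  (f0 : RowsGood P ls 0 12)
theorem idx {G : Type*} [Group G] {E : ℕ → G} {inv : ℕ → ℕ} (hi : ∀ l, E (inv l) = (E l)⁻¹)
    {B : List (List ℕ × ℕ)} (hB : ∀ p ∈ B, lprod E p.1 ^ p.2 = 1) (σ : List (List ℕ))
    {hs ks : List (List ℕ)} (hc : certOk P wt bases inv B σ hs ks = true) :
    (gp E hs).relIndex (gp E ks) ≠ 0 ∧ (gp E hs).relIndex (gp E ks) ≤ 12 :=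
  tc_gp hi hB rfl (fun _ h => invT_of_le h) good σ hc

end Cfsg.Agent.H15.Alt12T9
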