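import Cfsg.Agent.H15.Big4
import Cfsg.Agent.H15.Alt12T0
import Cfsg.Agent.H15.Alt12T1
import Cfsg.Agent.H15.Alt12T2
import Cfsg.Agent.H15.Alt12T3
import Cfsg.Agent.H15.Alt12T4
import Cfsg.Agent.H15.Alt12T5
import Cfsg.Agent.H15.Alt12T6
import Cfsg.Agent.H15.Alt12T7
import Cfsg.Agent.H15.Alt12T8
import Cfsg.Agent.H15.Alt12T9
set_option autoImplicit false
set_option maxRecDepth 100000

namespace Cfsg.Agent.H15.Alt12
open Cfsg.Agent.H15 Cfsg.Agent.H14

def pT : ℕ := 380093720476186711863041458394640385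
def pB : List (List ℕ × ℕ) := [([0], 3), ([2], 3), ([4], 3), ([6], 3), ([8], 3), ([10], 3), ([12], 3), ([14], 3), ([16], 3), ([18], 3), ([0, 2], 2), ([0, 4], 2), ([0, 6], 2), ([0, 8], 2), ([0, 10], 2), ([0, 12], 2), ([0, 14], 2), ([0, 16], 2), ([0, 18], 2), ([2, 4], 2), ([2, 6], 2), ([2, 8], 2), ([2, 10], 2), ([2, 12], 2), ([2, 14], 2), ([2, 16], 2), ([2, 18], 2), ([4, 6], 2), ([4, 8], 2), ([4, 10], 2), ([4, 12], 2), ([4, 14], 2), ([4, 16], 2), ([4, 18], 2), ([6, 8], 2), ([6, 10], 2), ([6, 12], 2), ([6, 14], 2), ([6, 16], 2), ([6, 18], 2), ([8, 10], 2), ([8, 12], 2), ([8, 14], 2), ([8, 16], 2), ([8, 18], 2), ([10, 12], 2), ([10, 14], 2), ([10, 16], 2), ([10, 18], 2), ([12, 14], 2), ([12, 16], 2), ([12, 18], 2), ([14, 16], 2), ([14, 18], 2), ([16, 18], 2)]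
theorem bound {H : Type*} [Group H] {E : ℕ → H} (h : Sat E (invT pT 20) pB) : CardLe (cl E 20) 239500800 := by
  have c0 : CardLe (gp E [[0], [1]]) (3 * 1) :=
    cardLe_nil.step (Alt12T0.idx h.hi h.hB [[0], [1]] (by decide +kernel)) (by decide +kernel)
  have c1 : CardLe (gp E [[0], [1], [2], [3]]) (4 * 3) :=
    c0.step (Alt12T1.idx h.hi h.hB [[0], [1], [2], [3]] (by decide +kernel)) (by decide +kernel)
  have c2 : CardLe (gp E [[0], [1], [2], [3], [4], [5]]) (5 * 12) :=
    c1.step (Alt12T2.idx h.hi h.hB [[0], [1], [2], [3], [4], [5]] (by decide +kernel)) (by decide +kernel)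
  have c3 : CardLe (gp E [[0], [1], [2], [3], [4], [5], [6], [7]]) (6 * 60) :=
    c2.step (Alt12T3.idx h.hi h.hB [[0], [1], [2], [3], [4], [5], [6], [7]] (by decide +kernel)) (by decide +kernel)
  have c4 : CardLe (gp E [[0], [1], [2], [3], [4], [5], [6], [7], [8], [9]]) (7 * 360) :=
    c3.step (Alt12T4.idx h.hi h.hB [[0], [1], [2], [3], [4], [5], [6], [7], [8], [9]] (by decide +kernel)) (by decide +kernel)
  have c5 : CardLe (gp E [[0], [1], [2], [3], [4], [5], [6], [7], [8], [9], [10], [11]]) (8 * 2520) :=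
    c4.step (Alt12T5.idx h.hi h.hB [[0], [1], [2], [3], [4], [5], [6], [7], [8], [9], [10], [11]] (by decide +kernel)) (by decide +kernel)
  have c6 : CardLe (gp E [[0], [1], [2], [3], [4], [5], [6], [7], [8], [9], [10], [11], [12], [13]]) (9 * 20160) :=
    c5.step (Alt12T6.idx h.hi h.hB [[0], [1], [2], [3], [4], [5], [6], [7], [8], [9], [10], [11], [12], [13]] (by decide +kernel)) (by decide +kernel)
  have c7 : CardLe (gp E [[0], [1], [2], [3], [4], [5], [6], [7], [8], [9], [10], [11], [12], [13], [14], [15]]) (10 * 181440) :=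
    c6.step (Alt12T7.idx h.hi h.hB [[0], [1], [2], [3], [4], [5], [6], [7], [8], [9], [10], [11], [12], [13], [14], [15]] (by decide +kernel)) (by decide +kernel)
  have c8 : CardLe (gp E [[0], [1], [2], [3], [4], [5], [6], [7], [8], [9], [10], [11], [12], [13], [14], [15], [16], [17]]) (11 * 1814400) :=
    c7.step (Alt12T8.idx h.hi h.hB [[0], [1], [2], [3], [4], [5], [6], [7], [8], [9], [10], [11], [12], [13], [14], [15], [16], [17]] (by decide +kernel)) (by decide +kernel)
  have c9 : CardLe (gp E [[0], [1], [2], [3], [4], [5], [6], [7], [8], [9], [10], [11], [12], [13], [14], [15], [16], [17], [18], [19]]) (12 * 19958400) :=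
    c8.step (Alt12T9.idx h.hi h.hB [[0], [1], [2], [3], [4], [5], [6], [7], [8], [9], [10], [11], [12], [13], [14], [15], [16], [17], [18], [19]] (by decide +kernel)) (by decide +kernel)
  rw [cl_eq_gp (ws := [[0], [1], [2], [3], [4], [5], [6], [7], [8], [9], [10], [11], [12], [13], [14], [15], [16], [17], [18], [19]]) (by decide +kernel)]; exact c9
noncomputable def t0_0 (_i : ℕ) : ℕ := (nat_lit 0x10bbbbbbbbbbbbbbbbbbaa10aaaaaaaaaaaaaaaa99991099999999999999888888108888888888887777777710777777777766666666661066666666555555555555105555554444444444444410444433333333333333331033222222222222222222100b0a0908070605040302b1a19181716151413121)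
noncomputable def blk (i : ℕ) : ℕ := (t0_0 i)
noncomputable def row (x : ℕ) : ℕ := frcN (Nat.shiftRight x (nat_lit 4)) fun b =>
  Nat.land (Nat.shiftRight (blk b) (Nat.mul (Nat.land x (nat_lit 15)) (nat_lit 80))) (nat_lit 0xffffffffffffffffffff)
noncomputable def ap (x l : ℕ) : ℕ :=
  Nat.land (Nat.shiftRight (row x) (Nat.mul l (nat_lit 4))) (nat_lit 15)
theorem pok : PermOk ap (invT pT 20) 12 20 := PermOk.of (RAll.of (by decide +kernel)) (by decide +kernel)
noncomputable abbrev A := pok.tab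
def loS9 : List (List ℕ) := [[0]]
def loT9 : List (List ℕ) := loS9 ++ []
theorem lok9 : stepOk ap 20 12 id loS9 [] 2 3 = true := by decide +kernel
def loS8 : List (List ℕ) := [[0], [2]]
def loT8 : List (List ℕ) := loS8 ++ loT9
theorem lok8 : stepOk ap 20 12 id loS8 loT9 3 4 = true := by decide +kernel
def loS7 : List (List ℕ) := [[0], [2], [4]]
def loT7 : List (List ℕ) := loS7 ++ loT8
theorem lok7 : stepOk ap 20 12 id loS7 loT8 4 5 = true := by decide +kernel
def loS6 : List (List ℕ) := [[0], [2], [4], [6]]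
def loT6 : List (List ℕ) := loS6 ++ loT7
theorem lok6 : stepOk ap 20 12 id loS6 loT7 5 6 = true := by decide +kernel
def loS5 : List (List ℕ) := [[0], [2], [4], [6], [8]]
def loT5 : List (List ℕ) := loS5 ++ loT6
theorem lok5 : stepOk ap 20 12 id loS5 loT6 6 7 = true := by decide +kernel
def loS4 : List (List ℕ) := [[0], [2], [4], [6], [8], [10]]
def loT4 : List (List ℕ) := loS4 ++ loT5
theorem lok4 : stepOk ap 20 12 id loS4 loT5 7 8 = true := by decide +kernel
def loS3 : List (List ℕ) := [[0], [2], [4], [6], [8], [10], [12]]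
def loT3 : List (List ℕ) := loS3 ++ loT4
theorem lok3 : stepOk ap 20 12 id loS3 loT4 8 9 = true := by decide +kernel
def loS2 : List (List ℕ) := [[0], [2], [4], [6], [8], [10], [12], [14]]
def loT2 : List (List ℕ) := loS2 ++ loT3
theorem lok2 : stepOk ap 20 12 id loS2 loT3 9 10 = true := by decide +kernel
def loS1 : List (List ℕ) := [[0], [2], [4], [6], [8], [10], [12], [14], [16]]
def loT1 : List (List ℕ) := loS1 ++ loT2
theorem lok1 : stepOk ap 20 12 id loS1 loT2 10 11 = true := by decide +kernel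
def loS0 : List (List ℕ) := [[0], [2], [4], [6], [8], [10], [12], [14], [16], [18]]
def loT0 : List (List ℕ) := loS0 ++ loT1
theorem lok0 : stepOk ap 20 12 id loS0 loT1 11 12 = true := by decide +kernel
theorem lo9 : A.Lower (gp A.e loT9) [2] 3 := TabAct.Lower.step (k := 3) (A.lower_nil _) lok9
theorem lo8 : A.Lower (gp A.e loT8) [3, 2] 12 := TabAct.Lower.step (k := 4) lo9 lok8
theorem lo7 : A.Lower (gp A.e loT7) [4, 3, 2] 60 := TabAct.Lower.step (k := 5) lo8 lok7
theorem lo6 : A.Lower (gp A.e loT6) [5, 4, 3, 2] 360 := TabAct.Lower.step (k := 6) lo7 lok6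
theorem lo5 : A.Lower (gp A.e loT5) [6, 5, 4, 3, 2] 2520 := TabAct.Lower.step (k := 7) lo6 lok5
theorem lo4 : A.Lower (gp A.e loT4) [7, 6, 5, 4, 3, 2] 20160 := TabAct.Lower.step (k := 8) lo5 lok4
theorem lo3 : A.Lower (gp A.e loT3) [8, 7, 6, 5, 4, 3, 2] 181440 := TabAct.Lower.step (k := 9) lo4 lok3
theorem lo2 : A.Lower (gp A.e loT2) [9, 8, 7, 6, 5, 4, 3, 2] 1814400 := TabAct.Lower.step (k := 10) lo3 lok2
theorem lo1 : A.Lower (gp A.e loT1) [10, 9, 8, 7, 6, 5, 4, 3, 2] 19958400 := TabAct.Lower.step (k := 11) lo2 lok1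
theorem lo0 : A.Lower (gp A.e loT0) [11, 10, 9, 8, 7, 6, 5, 4, 3, 2] 239500800 := TabAct.Lower.step (k := 12) lo1 lok0
theorem pack : ∃ e : ℕ → alternatingGroup (Fin 12), cl e 20 = ⊤ ∧ Sat e (invT pT 20) pB :=
  own_pack (A := A) (pok.sat (by decide +kernel) (RAll.of (by decide +kernel))) (by decide +kernel)
    (alt_eq (fun l hl => lprod_single (E := A.e) l ▸ pok.rels (B := (List.range 20).map fun l => ([l], 3)) (by decide +kernel)
      (RAll.of (by decide +kernel)) _ (List.mem_map_of_mem (List.mem_range.mpr hl))) (by norm_num)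
      (le_trans (by decide +kernel) (Nat.mul_le_mul_left 2 (lo0.mono (gp_le_cl (by decide +kernel))).le_card)))
theorem card : Nat.card (alternatingGroup (Fin 12)) = 239500800 := card_alt (by norm_num) (by decide +kernel)
theorem bnd (H : Type) [Group H] (E : ℕ → H) (h : Sat E (invT pT 20) pB) :
    CardLe (cl E 20) (Nat.card (alternatingGroup (Fin 12))) := card ▸ bound h

end Cfsg.Agent.H15.Alt12
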