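import Mathlib
import Cfsg.Agent.H15.Nm8
import Cfsg.Prelude.Def_Chevalley

/-!
# Isomorphisms through common presentations; centralisers through stabiliser chains
-/

set_option autoImplicit false

namespace Cfsg.Agent.H15

open Cfsg.Agent.H14 Subgroup MulAction Matrix

variable {G T X : Type*} [Group G] [Group T]

/-- the letters satisfy a presentation -/
structure Sat (E : ℕ → G) (inv : ℕ → ℕ) (B : List (List ℕ × ℕ)) : Prop where
  hi : ∀ l, E (inv l) = (E l)⁻¹
  hB : ∀ p ∈ B, lprod E p.1 ^ p.2 = 1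

theorem Sat.prod {e : ℕ → G} {e' : ℕ → T} {inv : ℕ → ℕ} {B : List (List ℕ × ℕ)} (h : Sat e inv B)
    (h' : Sat e' inv B) : Sat (fun l => (e l, e' l)) inv B :=
  ⟨fun l => Prod.ext (h.hi l) (h'.hi l), fun p hp => Prod.ext
    ((map_pow (MonoidHom.fst G T) _ _).trans (by rw [map_lprod]; exact h.hB p hp))
    ((map_pow (MonoidHom.snd G T) _ _).trans (by rw [map_lprod]; exact h'.hB p hp))⟩

theorem Sat.app {e : ℕ → G} {inv : ℕ → ℕ} {B B' : List (List ℕ × ℕ)} (h : Sat e inv B) (h' : Sat e inv B') :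
    Sat e inv (B ++ B') := ⟨h.hi, fun p hp => (List.mem_append.mp hp).elim (h.hB p) (h'.hB p)⟩

theorem cl_eq_gp {E : ℕ → G} {L : ℕ} {ws : List (List ℕ)}
    (H : (okS L ws && allLt L fun l => memW ws [l]) = true) : cl E L = gp E ws := by
  rw [Bool.and_eq_true, allLt_iff] at H
  exact le_antisymm (cl_le.mpr fun l hl => by simpa using mem_gp (E := E) (memW_true (H.2 l hl))) (gp_le_cl H.1)

theorem iso_of_card {e : ℕ → G} {e' : ℕ → T} {L n : ℕ} (h : CardLe (cl (fun l => (e l, e' l)) L) n)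
    (h1 : n ≤ Nat.card (cl e L)) (h2 : n ≤ Nat.card (cl e' L)) :
    Nonempty (cl e L ≃* cl e' L) ∧ Nat.card (cl e L) = n := by
  have := h.finite
  have a := map_cl (MonoidHom.fst G T) (fun l => (e l, e' l)) L
  have b := map_cl (MonoidHom.snd G T) (fun l => (e l, e' l)) L
  have a1 := MulEquiv.ofBijective _ (((MonoidHom.fst G T).subgroupMap_surjective _).bijective_of_nat_card_le
    (h.2.trans (a ▸ h1)))
  have b1 := MulEquiv.ofBijective _ (((MonoidHom.snd G T).subgroupMap_surjective _).bijective_of_nat_card_le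
    (h.2.trans (b ▸ h2)))
  rw [a] at a1
  rw [b] at b1
  exact ⟨⟨a1.symm.trans b1⟩, le_antisymm ((Nat.card_congr a1.toEquiv).ge.trans h.2) h1⟩

theorem index_two_of [Finite G] {K H : Subgroup G} (h : K ≤ H) {c : ℕ} (hK : Nat.card K = c)
    (hH : Nat.card H = 2 * c) : (K.subgroupOf H).index = 2 := by
  have := (K.subgroupOf H).index_mul_card
  rw [Nat.card_congr (subgroupOfEquivOfLe h).toEquiv, hH, ← hK] at this
  exact Nat.eq_of_mul_eq_mul_right Nat.card_pos this

theorem eq_range [Finite T] {U : Type*} [Group U] {f : U →* T} (hf : Function.Injective f) {K : Subgroup T}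
    (h : K ≤ f.range) (hc : Nat.card U ≤ Nat.card K) : K = f.range ∧ Nonempty (K ≃* U) := by
  obtain rfl := eq_of_le_of_card_ge h ((Nat.card_congr (MonoidHom.ofInjective hf).toEquiv).ge.trans hc)
  exact ⟨rfl, ⟨(MonoidHom.ofInjective hf).symm⟩⟩

/-- the relators hold up to the words `zs` -/
noncomputable def satChk (ap : ℕ → ℕ → ℕ) (L : ℕ) (bs : List ℕ) (σ zs : List (List ℕ)) (t : ℕ)
    (B : List (List ℕ × ℕ)) : Bool :=
  allLt σ.length (fun l => anyL zs (eqOn ap L bs (xw σ [l, invT t σ.length l]))) &&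
    allL B fun p => anyL zs (eqOn ap L bs (xw σ (repL p.1 p.2)))

namespace TabAct

variable [MulAction G X] {A : TabAct G X}

theorem Base.sat {bs : List ℕ} (hb : A.Base ⊤ bs) (π : G →* T) {σ zs : List (List ℕ)}
    (hz : ∀ z ∈ zs, π (lprod A.e z) = 1) {t : ℕ} {B : List (List ℕ × ℕ)}
    (H : satChk A.ap A.L bs σ zs t B = true) :
    Sat (fun l => π (lprod A.e (nthW σ l))) (invT t σ.length) B := by
  have key : ∀ w, anyL zs (eqOn A.ap A.L bs (xw σ w)) = true →
      lprod (fun l => π (lprod A.e (nthW σ l))) w = 1 := fun w h => by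
    obtain ⟨z, a, b⟩ := anyL_iff.mp h
    rw [← map_lprod, ← lprod_subst, show lprod A.e (subst _ w) = _ from hb.eq b, hz z a]
  rw [satChk, Bool.and_eq_true, allLt_iff, allL_iff] at H
  refine ⟨fun l => ?_, fun p hp => by rw [← lprod_repL]; exact key _ (H.2 p hp)⟩
  by_cases hl : l < σ.length
  · have := key _ (H.1 l hl)
    rw [lprod_cons, lprod_single] at this
    exact eq_inv_of_mul_eq_one_right this
  · rw [invT_of_le (not_lt.mp hl), nthW_of_le (not_lt.mp hl)]; simp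

theorem Base.sat1 {bs : List ℕ} (hb : A.Base ⊤ bs) {σ : List (List ℕ)} {t : ℕ} {B : List (List ℕ × ℕ)}
    (H : satChk A.ap A.L bs σ [[]] t B = true) : Sat (fun l => lprod A.e (nthW σ l)) (invT t σ.length) B :=
  hb.sat (MonoidHom.id G) (by simp) H

theorem Base.mem_cl {bs : List ℕ} (hb : A.Base ⊤ bs) {σ : List (List ℕ)} {u t : List ℕ}
    (H : (okW σ.length t && eqOn A.ap A.L bs u (xw σ t)) = true) :
    lprod A.e u ∈ cl (fun l => lprod A.e (nthW σ l)) σ.length := by
  rw [Bool.and_eq_true] at H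
  rw [hb.eq H.2, xw, lprod_subst]
  exact lprod_mem_cl H.1

theorem Lower.le_gp [Finite G] {σ : List (List ℕ)} {h : okS A.L σ = true} {ts : List (List ℕ)} {bs : List ℕ}
    {m : ℕ} (hl : (A.comp σ h).Lower (gp (A.comp σ h).e ts) bs m) (H : okS σ.length ts = true) :
    m ≤ Nat.card (cl (fun l => lprod A.e (nthW σ l)) σ.length) :=
  hl.le_card.trans (card_le_of_le (gp_le_cl H))

/-- one level of an exact stabiliser chain -/
theorem ex_step [Finite G] {S R : List (List ℕ)} {b k m : ℕ} {hs : ℕ → ℕ}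
    (hK : Nat.card (gp A.e (S ++ R)) ≤ k * m) (hc : stepOk A.ap A.L A.n hs S R b k = true) (h0 : 0 < k)
    (hm : m ≤ Nat.card (gp A.e R)) :
    gp A.e (S ++ R) ⊓ stabilizer G (A.c b) = gp A.e R ∧ Nat.card (gp A.e R) ≤ m := by
  simp only [stepOk, Bool.and_eq_true, Nat.blt_eq] at hc
  obtain ⟨⟨⟨⟨h1, h2⟩, h3⟩, h4⟩, h5⟩ := hc
  have a := A.le_ncard_orbit h2 (K := gp A.e (S ++ R)) (gp_le.mpr fun w hw => mem_gp (by simp [hw])) h1 hs h5
  have c : gp A.e R ≤ gp A.e (S ++ R) ⊓ stabilizer G (A.c b) :=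
    le_inf (gp_le.mpr fun w hw => mem_gp (by simp [hw])) (A.gp_le_stabilizer h3 h1 h4)
  rw [card_eq_orbit_mul_inf _ (A.c b)] at hK
  have d := Nat.le_of_mul_le_mul_left ((Nat.mul_le_mul_right _ a).trans hK) h0
  exact ⟨(eq_of_le_of_card_ge c (d.trans hm)).symm, (card_le_of_le c).trans d⟩

variable (A) in
/-- a bound for a centraliser -/
def CB (z : List ℕ) (R : List (List ℕ)) (c : ℕ) : Prop :=
  Nat.card ↥(gp A.e R ⊓ centralizer {lprod A.e z}) ≤ c

theorem CB.of_le [Finite G] {z : List ℕ} {R : List (List ℕ)} {c : ℕ} (h : Nat.card (gp A.e R) ≤ c) : A.CB z R c :=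
  (card_le_of_le inf_le_left).trans h

theorem CB.der [Finite G] {z : List ℕ} {S R : List (List ℕ)} {b c : ℕ}
    (e : gp A.e S ⊓ stabilizer G (A.c b) = gp A.e R) (h : A.CB z R c) (p : ℕ)
    (H : (okW A.L z && okS A.L S && Nat.blt p A.n && fixAt A.ap S p && Nat.beq (tr A.ap z p) b) = true) :
    A.CB z S c := by
  simp only [Bool.and_eq_true, Nat.blt_eq, nbeq_iff] at H
  obtain ⟨⟨⟨⟨h1, h2⟩, h3⟩, h4⟩, rfl⟩ := H
  refine le_trans (card_le_of_le fun g hg => mem_inf.mpr ⟨e.le ⟨hg.1, ?_⟩, hg.2⟩) h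
  have c : Commute g (lprod A.e z) := mem_centralizer_singleton_iff.mp hg.2
  show g • _ = _
  rw [← (A.tr_spec h1 h3).2, ← mul_smul, c.inv_right.eq, mul_smul, A.gp_le_stabilizer h2 h3 h4 hg.1]

theorem CB.step [Finite G] {z : List ℕ} {S R : List (List ℕ)} {b c : ℕ}
    (e : gp A.e S ⊓ stabilizer G (A.c b) = gp A.e R) (h : A.CB z R c) (fuel f : ℕ)
    (H : (okW A.L z && okS A.L S && Nat.blt b A.n && orbRun id (S.map (tr A.ap)) fuel b fun U _ =>
      Nat.ble (cntLt A.n fun y => tb U y && beqB (Nat.beq (tr A.ap z y) y) (Nat.beq (tr A.ap z b) b)) f) = true) :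
    A.CB z S (f * c) := by
  classical
  simp only [Bool.and_eq_true, Nat.blt_eq] at H
  obtain ⟨⟨⟨h1, h2⟩, h3⟩, h4⟩ := H
  obtain ⟨L, U, h0, -, hm, hP, hc, hk⟩ := orbRun_list h4 (fun y => y < A.n) h3 (by
    intro y hy f hf
    obtain ⟨w, hw, rfl⟩ := List.mem_map.mp hf
    exact (A.tr_spec (okS_iff.mp h2 w hw) hy).1)
  simp only [List.map_id, id] at hm hc
  rw [CB, card_eq_orbit_mul_inf _ (A.c b), inf_right_comm, e]
  refine Nat.mul_le_mul ?_ h
  rw [nble_iff, cntLt_eq] at hk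
  refine le_trans ?_ (Finset.card_image_le.trans hk : (Finset.image A.c _).card ≤ f)
  rw [← Set.ncard_coe_finset]
  refine Set.ncard_le_ncard (fun x hx => ?_) (Finset.finite_toSet _)
  obtain ⟨g, hg, rfl⟩ := mem_orbit_sub.mp hx
  have hg' : g ∈ closure {g | ∃ w ∈ S, g = (lprod A.e w)⁻¹} :=
    (gp_le.mpr fun w hw => (Subgroup.inv_mem_iff _).mp
      (Subgroup.subset_closure (k := {g | ∃ w ∈ S, g = (lprod A.e w)⁻¹}) ⟨w, hw, rfl⟩)) hg.1
  obtain ⟨y, hy, e1⟩ := smul_mem_of_closed (O := A.c '' {y | y ∈ L}) (L.finite_toSet.image _) (by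
    rintro _ ⟨w, hw, rfl⟩ _ ⟨y, hy, rfl⟩
    exact ⟨_, hc y hy _ (List.mem_map_of_mem hw), (A.tr_spec (okS_iff.mp h2 w hw) (hP y hy)).2.symm⟩)
    hg' _ ⟨b, h0, rfl⟩
  have c : Commute g (lprod A.e z) := mem_centralizer_singleton_iff.mp hg.2
  refine Finset.mem_coe.mpr (Finset.mem_image.mpr ⟨y, Finset.mem_filter.mpr ⟨Finset.mem_range.mpr (hP y hy), ?_⟩, e1⟩)
  rw [Bool.and_eq_true, tb_eq, hm, beqB_iff, Bool.eq_iff_iff, nbeq_iff, nbeq_iff, ← A.fix_iff h1 (hP y hy),
    ← A.fix_iff h1 h3, e1, ← mul_smul, ← c.eq, mul_smul, smul_left_cancel_iff]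
  exact ⟨hy, Iff.rfl⟩

theorem Base.le_cen {bs : List ℕ} (hb : A.Base ⊤ bs) {z : List ℕ} {σ : List (List ℕ)}
    (H : allL σ (fun w => eqOn A.ap A.L bs (appL w z) (appL z w)) = true) :
    gp A.e σ ≤ centralizer {lprod A.e z} :=
  gp_le.mpr fun w hw => mem_centralizer_singleton_iff.mpr (hb.comm (allL_iff.mp H w hw))

end TabAct

namespace Crd

variable {K ι : Type} [Field K] [Fintype ι] [DecidableEq ι] (c : Crd K ι) {Css invs : List (List ℕ)}

theorem e_inv (h : all2 Css c.okM invs = true) {l : ℕ} (hl : l < Css.length) :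
    ((((c.tab Css invs h).e l)⁻¹ : GL ι K) : Matrix ι ι K) = c.mat (nthW Css l) :=
  let ⟨_, hi⟩ := c.okM_nth h hl; c.gl_inv hi

theorem mem_sl (h : all2 Css c.okM invs = true) {l : ℕ} (hl : l < Css.length) (H : (c.mat (nthW Css l)).det = 1) :
    (c.tab Css invs h).e l ∈ (SpecialLinearGroup.toGL (n := ι) (R := K)).range :=
  (Subgroup.inv_mem_iff _).mp ⟨⟨_, H⟩, Units.ext (c.e_inv h hl).symm⟩

theorem mem_center (h : all2 Css c.okM invs = true) {l : ℕ} (hl : l < Css.length) (r : K)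
    (H : c.mat (nthW Css l) = r • (1 : Matrix ι ι K)) : (c.tab Css invs h).e l ∈ center (GL ι K) :=
  (Subgroup.inv_mem_iff _).mp (mem_center_iff.mpr fun g => Units.ext (by
    rw [Units.val_mul, Units.val_mul, c.e_inv h hl, H]; simp))

end Crd

/-- the symplectic group inside the general linear group -/
noncomputable def spGL (l K : Type) [Fintype l] [DecidableEq l] [Field K] : symplecticGroup l K →* GL (l ⊕ l) K :=
  (Units.map (symplecticGroup l K).subtype).comp toUnits.toMonoidHom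

theorem spGL_inj (l K : Type) [Fintype l] [DecidableEq l] [Field K] : Function.Injective (spGL l K) :=
  (Units.map_injective Subtype.val_injective).comp toUnits.injective

theorem Crd.mem_sp {K l : Type} [Field K] [Fintype l] [DecidableEq l] (c : Crd K (l ⊕ l)) {Css invs : List (List ℕ)}
    (h : all2 Css c.okM invs = true) {i : ℕ} (hl : i < Css.length)
    (H : c.mat (nthW Css i) * J l K * (c.mat (nthW Css i))ᵀ = J l K) : (c.tab Css invs h).e i ∈ (spGL l K).range :=
  (Subgroup.inv_mem_iff _).mp ⟨⟨_, H⟩, Units.ext (c.e_inv h hl).symm⟩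

theorem Crd.chev_le {K : Type} [Field K] {D : Lie.ChevalleyDatum} (c : Crd K D.Idx) {Css invs : List (List ℕ)}
    (h : all2 Css c.okM invs = true) {q : ℕ} (val : ℕ → K) (hv : ∀ t, ∃ i < q, val i = t) (s : ℕ)
    (H : ∀ r : Fin D.nroots, ∀ i < q, s + (q * r + i) < Css.length ∧
      c.mat (nthW Css (s + (q * r + i))) = D.xMat K r (val i)) {σ : List (List ℕ)} (ts : List (List ℕ))
    (H' : allLt (q * D.nroots) (fun j => okW σ.length (nthW ts j) &&
      eqOn (c.tab Css invs h).ap Css.length (basC c.p c.m) [s + j] (xw σ (nthW ts j))) = true) :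
    D.group K ≤ cl (fun l => lprod (c.tab Css invs h).e (nthW σ l)) σ.length := by
  refine (closure_le _).mpr ?_
  rintro g ⟨r, t, e⟩
  obtain ⟨i, hi, rfl⟩ := hv t
  obtain ⟨a, b⟩ := H r i hi
  have := (c.base h).mem_cl (allLt_iff.mp H' (q * r + i) (by have := r.2; nlinarith))
  rw [lprod_single] at this
  rw [show g = ((c.tab Css invs h).e _)⁻¹ from Units.ext (e.trans (b.symm.trans (c.e_inv h a).symm))]
  exact inv_mem this

theorem psl_of_sl {ι K : Type} [Fintype ι] [DecidableEq ι] [Field K] {e : ℕ → GL ι K} {L : ℕ}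
    (h : cl e L = (SpecialLinearGroup.toGL (n := ι) (R := K)).range) :
    Nonempty (cl (fun l => ProjGenLinGroup.mk (e l)) L ≃* ProjectiveSpecialLinearGroup ι K) := by
  have : cl (fun l => ProjGenLinGroup.mk (e l)) L = (ProjectiveSpecialLinearGroup.toPGL (n := ι) (R := K)).range := by
    rw [← map_cl, h, ← MonoidHom.range_comp]
    refine le_antisymm ?_ ?_
    · rintro _ ⟨g, rfl⟩; exact ⟨g, rfl⟩
    · rintro _ ⟨g, rfl⟩
      obtain ⟨g, rfl⟩ := QuotientGroup.mk_surjective g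
      exact ⟨g, rfl⟩
  rw [this]
  exact ⟨(MonoidHom.ofInjective ProjectiveSpecialLinearGroup.toPGL_injective).symm⟩

end Cfsg.Agent.H15
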