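import Mathlib
import Cfsg.Agent.H15.Iso

/-!
# Certificates for double coset enumerations
-/

set_option autoImplicit false

namespace Cfsg.Agent.H15

open Cfsg.Agent.H14 MulAction

/-- the claim `p i · u · z ^ e = p j · v` -/
structure DF where
  i : ℕ
  u : List ℕ
  e : Bool
  j : ℕ
  v : List ℕ

/-- one move: the fact used, the gains applied first, and the shift -/
structure DO where
  f : ℕ
  sw : List ℕ
  c : List ℕ

/-- the justification of a fact -/
structure DJ where
  r : ℕ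
  c : List ℕ
  sw : List ℕ
  ops : List DO

/-- search tree of facts -/
inductive DT : Type
  | leaf : DF → DT
  | node : ℕ → DT → DT → DT

/-- lookup in a search tree of facts -/
noncomputable def DT.get (t : DT) : ℕ → DF :=
  DT.rec (motive := fun _ => ℕ → DF) (fun a _ => a)
    (fun k _ _ l r i => Bool.rec (l i) (r i) (Nat.ble k i)) t

/-- the data of an enumeration -/
structure DP where
  ap : ℕ → ℕ → ℕ
  L : ℕ
  bs : List ℕ
  inv : ℕ → ℕ
  ks : List (List ℕ)
  kt : List (List ℕ)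
  rel : ℕ → List (List ℕ)
  ft : ℕ → DF
  W : ℕ → List (List ℕ)

/-- `n`-th member of a list of lists of words -/
noncomputable def nthR (rs : List (List (List ℕ))) : ℕ → List (List ℕ) :=
  List.rec (motive := fun _ => ℕ → List (List ℕ)) (fun _ => [])
    (fun w _ ih i => Nat.rec (motive := fun _ => List (List ℕ)) w (fun j _ => ih j) i) rs

theorem nthR_all {rs : List (List (List ℕ))} {Q : List (List ℕ) → Prop} (h0 : Q []) (h : ∀ r ∈ rs, Q r) (i : ℕ) :
    Q (nthR rs i) := by
  induction rs generalizing i with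
  | nil => exact h0
  | cons r rs ih =>
    cases i with
    | zero => exact h r (by simp)
    | succ j => exact ih (fun s hs => h s (by simp [hs])) j

/-- equality test for lists of words -/
noncomputable def eqLL (a : List (List ℕ)) : List (List ℕ) → Bool :=
  List.rec (motive := fun _ => List (List ℕ) → Bool)
    (fun b => List.rec (motive := fun _ => Bool) true (fun _ _ _ => false) b)
    (fun u _ ih b => List.rec (motive := fun _ => Bool) false (fun v t _ => eqL u v && ih t) b) a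

theorem eqLL_true {a b : List (List ℕ)} (h : eqLL a b = true) : a = b := by
  induction a generalizing b with
  | nil =>
    cases b with
    | nil => rfl
    | cons _ _ => exact absurd h (by simp [eqLL])
  | cons u a ih =>
    cases b with
    | nil => exact absurd h (by simp [eqLL])
    | cons v b =>
      have h' : (eqL u v && eqLL a b) = true := h
      rw [Bool.and_eq_true] at h'
      rw [eqL_true h'.1, ih h'.2]

namespace DP

variable (P : DP)

/-- the product of a list of gains -/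
noncomputable def gW (i : ℕ) (sw : List ℕ) : List ℕ :=
  Bool.rec (subst (fun c => Bool.rec (invW P.inv (P.ft (Nat.shiftRight c 1)).u) (P.ft (Nat.shiftRight c 1)).u
    (Nat.beq (Nat.land c 1) 0)) sw) sw (Nat.beq i 0)

/-- the listed facts are gains -/
noncomputable def gOk (n i : ℕ) (sw : List ℕ) : Bool :=
  Nat.beq i 0 || allL sw fun c => Nat.blt (Nat.shiftRight c 1) n &&
    DF.rec (motive := fun _ => Bool) (fun a _ e b v => Nat.beq a i && Nat.beq b i && !e && nilL v)
      (P.ft (Nat.shiftRight c 1))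

/-- shift one side of a fact -/
noncomputable def sh (ks : List (List ℕ)) (e : Bool) (u c : List ℕ) : List ℕ :=
  appL u (Bool.rec c (subst (nthW ks) c) e)

/-- follow a list of moves -/
noncomputable def run (n : ℕ) (k : ℕ → List ℕ → Bool) (ops : List DO) : ℕ → List ℕ → List (List ℕ) → Bool :=
  List.rec (motive := fun _ => ℕ → List ℕ → List (List ℕ) → Bool)
    (fun i h segs => List.rec (motive := fun _ => Bool) (k i h) (fun _ _ _ => false) segs)
    (fun o _ ih i h segs => DF.rec (motive := fun _ => Bool) (fun a u e b v =>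
      Nat.blt o.f n && Nat.beq a i && P.gOk n i o.sw &&
        eqOn P.ap P.L P.bs h (appL (P.gW i o.sw) (sh P.ks e u o.c)) &&
        Bool.rec (ih b (sh P.kt e v o.c) segs)
          (List.rec (motive := fun _ => Bool) false (fun s rest _ => ih b (appL (sh P.kt e v o.c) s) rest) segs) e)
      (P.ft o.f)) ops

/-- the end of a trace -/
noncomputable def fin (n a : ℕ) (u : List ℕ) (e : Bool) (J : DJ) (i : ℕ) (h : List ℕ) : Bool :=
  Nat.beq i a && P.gOk n i J.sw && eqOn P.ap P.L P.bs h (appL (P.gW i J.sw) (sh P.ks e u J.c))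

/-- check fact number `n` -/
noncomputable def chk (n : ℕ) (J : DJ) : Bool :=
  DF.rec (motive := fun _ => Bool) (fun a u e b v =>
    Nat.rec (motive := fun _ => Bool) (e && nilL v && eqLL (P.W b) (u :: P.W a))
      (fun r _ => Bool.rec (P.run n (P.fin n a u e J) J.ops b (sh P.kt e v J.c) (P.rel r))
        (List.rec (motive := fun _ => Bool) false
          (fun s rest _ => P.run n (P.fin n a u e J) J.ops b (appL (sh P.kt e v J.c) s) rest) (P.rel r)) e)
      J.r) (P.ft n)

/-- check consecutive facts -/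
noncomputable def chks (y : ℕ) (Js : List DJ) : ℕ → Bool :=
  List.rec (motive := fun _ => ℕ → Bool) (fun x => Nat.beq x y)
    (fun J _ ih x => P.chk x J && frc (Nat.add x 1) ih) Js

/-- all facts in `[x, y)` are justified -/
def Good (x y : ℕ) : Prop := ∀ n, x ≤ n → n < y → ∃ J, P.chk n J = true

variable {P}

theorem good_of {y : ℕ} (Js : List DJ) {x : ℕ} (h : P.chks y Js x = true) : P.Good x y := by
  induction Js generalizing x with
  | nil =>
    have : x = y := nbeq_iff.mp h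
    intro z h1 h2; omega
  | cons J Js ih =>
    have h' : (P.chk x J && P.chks y Js (x + 1)) = true := h
    rw [Bool.and_eq_true] at h'
    intro z h1 h2
    rcases Nat.eq_or_lt_of_le h1 with rfl | h3
    · exact ⟨J, h'.1⟩
    · exact ih h'.2 z h3 h2

theorem Good.append {x y z : ℕ} (h1 : P.Good x y) (h2 : P.Good y z) : P.Good x z := fun w hx hz => by
  by_cases h : w < y
  · exact h1 w hx h
  · exact h2 w (not_lt.mp h) hz

variable (P)

/-- the union of the orbits of the roots of the edges -/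
noncomputable def cov (N n i : ℕ) (live : List ℕ) (S : List (List ℕ)) (es : List ℕ) : ℕ → Bool :=
  List.rec (motive := fun _ => ℕ → Bool) (fun U => Nat.beq (Nat.add U 1) (Nat.shiftLeft 1 n))
    (fun f _ ih U => DF.rec (motive := fun _ => Bool) (fun a u e b _ =>
      Nat.blt f N && Nat.beq a i && e && anyL live (Nat.beq b) && okW P.L (invW P.inv u) &&
        orbRun id (S.map (tr P.ap)) (Nat.add n 1) (tr P.ap (invW P.inv u) 0) fun V _ => frc (Nat.lor U V) ih)
      (P.ft f)) es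

/-- the words `T` are the products of gains `sws` -/
noncomputable def gains (N i : ℕ) (T : List (List ℕ)) (sws : List (List ℕ)) : Bool :=
  allL sws (P.gOk N i) && eqLL T (sws.map (P.gW i))

end DP

section sound

variable {Γ Y G X : Type*} [Group Γ] [MulAction Γ Y] [Group G] [MulAction G X]

/-- the value of a relator -/
def relW (E : ℕ → G) (z : G) : List (List ℕ) → G
  | [] => 1
  | s :: r => z * lprod E s * relW E z r

/-- the points -/
def dpt (E : ℕ → G) (z : G) (x0 : X) : List (List ℕ) → X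
  | [] => x0
  | u :: ws => z⁻¹ • (lprod E u)⁻¹ • dpt E z x0 ws

/-- the hypotheses tying the data to a group action -/
structure DHyp (P : DP) (A : TabAct Γ Y) (φ : Γ →* G) (z : G) (x0 : X) : Prop where
  ap : P.ap = A.ap
  L : P.L = A.L
  base : A.Base ⊤ P.bs
  inv : ∀ l, A.e (P.inv l) = (A.e l)⁻¹
  kz : ∀ a, lprod (fun l => φ (A.e l)) (nthW P.ks a) * z = z * lprod (fun l => φ (A.e l)) (nthW P.kt a)
  rel : ∀ r, relW (fun l => φ (A.e l)) z (P.rel r) = 1
  fix : ∀ γ, φ γ • x0 = x0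
  W0 : P.W 0 = []

/-- the meaning of a fact -/
def Holds (E : ℕ → G) (z : G) (p : ℕ → X) (a : ℕ) (u : List ℕ) (e : Bool) (b : ℕ) (v : List ℕ) : Prop :=
  (bif e then z else 1)⁻¹ • (lprod E u)⁻¹ • p a = (lprod E v)⁻¹ • p b

namespace DHyp

variable {P : DP} {A : TabAct Γ Y} {φ : Γ →* G} {z : G} {x0 : X} (H : DHyp P A φ z x0)

/-- the letters -/
abbrev E (_ : DHyp P A φ z x0) : ℕ → G := fun l => φ (A.e l)

/-- the points -/
abbrev p (_ : DHyp P A φ z x0) (i : ℕ) : X := dpt (fun l => φ (A.e l)) z x0 (P.W i)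

/-- fact number `n` holds -/
def Ok (n : ℕ) : Prop := Holds H.E z H.p (P.ft n).i (P.ft n).u (P.ft n).e (P.ft n).j (P.ft n).v

theorem subst_z (c : List ℕ) : lprod H.E (subst (nthW P.ks) c) * z = z * lprod H.E (subst (nthW P.kt) c) := by
  rw [lprod_subst, lprod_subst]
  induction c with
  | nil => simp
  | cons a c ih => rw [lprod_cons, lprod_cons, mul_assoc, ih, ← mul_assoc, H.kz, mul_assoc]

theorem shift {a b : ℕ} {u v : List ℕ} {e : Bool} (c : List ℕ) :
    Holds H.E z H.p a u e b v ↔ Holds H.E z H.p a (DP.sh P.ks e u c) e b (DP.sh P.kt e v c) := by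
  cases e with
  | false =>
    simp only [Holds, DP.sh, lprod_appL, cond_false, inv_one, one_smul, mul_inv_rev, mul_smul, smul_left_cancel_iff]
  | true =>
    simp only [Holds, DP.sh, lprod_appL, cond_true, mul_inv_rev, mul_smul]
    rw [smul_smul z⁻¹ (lprod H.E (subst (nthW P.ks) c))⁻¹, ← mul_inv_rev, H.subst_z, mul_inv_rev, mul_smul,
      smul_left_cancel_iff]

theorem eqv {u v : List ℕ} (h : eqOn P.ap P.L P.bs u v = true) : lprod H.E u = lprod H.E v := by
  rw [H.ap, H.L] at h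
  rw [← map_lprod, ← map_lprod, H.base.eq h]

theorem gain {n i : ℕ} {sw : List ℕ} (ih : ∀ m < n, H.Ok m) (h : P.gOk n i sw = true) :
    lprod H.E (P.gW i sw) • H.p i = H.p i := by
  rw [DP.gOk, Bool.or_eq_true] at h
  cases h0 : Nat.beq i 0 with
  | true =>
    rw [nbeq_iff] at h0
    subst h0
    rw [← map_lprod, p, H.W0]; exact H.fix _
  | false =>
    rw [DP.gW, h0, lprod_subst]
    refine lprod_mem (K := stabilizer G (H.p i)) fun c hc => ?_
    have h1 := allL_iff.mp (h.resolve_left (by simp [h0])) c hc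
    rw [Bool.and_eq_true, Nat.blt_eq] at h1
    have h2 := ih _ h1.1
    have h3 := h1.2
    rw [Ok] at h2
    generalize P.ft (c.shiftRight 1) = F at h2 h3 ⊢
    obtain ⟨a, u, e, b, v⟩ := F
    simp only [Bool.and_eq_true, nbeq_iff, Bool.not_eq_true'] at h3
    obtain ⟨⟨⟨rfl, rfl⟩, rfl⟩, h4⟩ := h3
    obtain rfl := nilL_true h4
    have h5 : (lprod H.E u)⁻¹ ∈ stabilizer G (H.p b) := mem_stabilizer_iff.mpr (by simpa [Holds] using h2)
    cases Nat.beq (Nat.land c 1) 0 with
    | true => exact (Subgroup.inv_mem_iff _).mp h5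
    | false =>
      show lprod H.E (invW P.inv u) ∈ _
      rw [lprod_invW (fun l => by rw [E, H.inv, map_inv])]; exact h5

theorem arrive {n i : ℕ} {sw h w : List ℕ} (ih : ∀ m < n, H.Ok m) (h1 : P.gOk n i sw = true)
    (h2 : eqOn P.ap P.L P.bs h (appL (P.gW i sw) w) = true) :
    (lprod H.E h)⁻¹ • H.p i = (lprod H.E w)⁻¹ • H.p i := by
  rw [H.eqv h2, lprod_appL, mul_inv_rev, mul_smul, inv_smul_eq_iff.mpr (H.gain ih h1).symm]

theorem run_sound {n : ℕ} (ih : ∀ m < n, H.Ok m) {k : ℕ → List ℕ → Bool} (ops : List DO) :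
    ∀ {i : ℕ} {h : List ℕ} {segs : List (List ℕ)}, P.run n k ops i h segs = true →
      ∃ i' h', k i' h' = true ∧
        (relW H.E z segs)⁻¹ • (lprod H.E h)⁻¹ • H.p i = (lprod H.E h')⁻¹ • H.p i' := by
  induction ops with
  | nil =>
    intro i h segs hr
    cases segs with
    | nil => exact ⟨i, h, hr, by simp [relW]⟩
    | cons _ _ => exact absurd hr (by simp [DP.run])
  | cons o ops ihh =>
    intro i h segs hr
    have hr' : (DF.rec (motive := fun _ => Bool) (fun a u e b v =>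
      Nat.blt o.f n && Nat.beq a i && P.gOk n i o.sw &&
        eqOn P.ap P.L P.bs h (appL (P.gW i o.sw) (DP.sh P.ks e u o.c)) &&
        Bool.rec (P.run n k ops b (DP.sh P.kt e v o.c) segs)
          (List.rec (motive := fun _ => Bool) false
            (fun s rest _ => P.run n k ops b (appL (DP.sh P.kt e v o.c) s) rest) segs) e)
      (P.ft o.f) : Bool) = true := hr
    have h2 := fun h => ih o.f h
    rw [Ok] at h2
    generalize P.ft o.f = F at h2 hr'
    obtain ⟨a, u, e, b, v⟩ := F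
    simp only [Bool.and_eq_true, nbeq_iff, Nat.blt_eq] at hr'
    obtain ⟨⟨⟨⟨h1, rfl⟩, h3⟩, h4⟩, h5⟩ := hr'
    have h6 := (H.shift o.c).mp (h2 h1)
    rw [H.arrive ih h3 h4]
    cases e with
    | false =>
      obtain ⟨i', h', a1, a2⟩ := ihh h5
      refine ⟨i', h', a1, ?_⟩
      rw [← a2, ← h6]; simp
    | true =>
      cases segs with
      | nil => exact absurd h5 (by simp)
      | cons s rest =>
        obtain ⟨i', h', a1, a2⟩ := ihh h5
        refine ⟨i', h', a1, ?_⟩
        rw [← a2, lprod_appL, mul_inv_rev, mul_smul, ← h6]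
        simp [relW, mul_smul]

theorem chk_sound {n : ℕ} (ih : ∀ m < n, H.Ok m) {J : DJ} (h : P.chk n J = true) : H.Ok n := by
  rw [DP.chk] at h
  rw [Ok]
  generalize P.ft n = F at h ⊢
  obtain ⟨a, u, e, b, v⟩ := F
  obtain ⟨r, c, sw, ops⟩ := J
  cases r with
  | zero =>
    have h' : (e && nilL v && eqLL (P.W b) (u :: P.W a)) = true := h
    simp only [Bool.and_eq_true] at h'
    obtain ⟨⟨rfl, h1⟩, h2⟩ := h'
    obtain rfl := nilL_true h1
    simp only [Holds, p, eqLL_true h2, dpt, cond_true, lprod_nil, inv_one, one_smul]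
  | succ r =>
    refine (H.shift c).mpr ?_
    have hr := H.rel r
    cases e with
    | false =>
      obtain ⟨i', h', a1, a2⟩ := H.run_sound ih ops h
      simp only [DP.fin, Bool.and_eq_true, nbeq_iff] at a1
      obtain ⟨⟨rfl, a3⟩, a4⟩ := a1
      rw [H.arrive ih a3 a4, hr] at a2
      simpa [Holds] using a2.symm
    | true =>
      have h' : (List.rec (motive := fun _ => Bool) false
          (fun s rest _ => P.run n (P.fin n a u true ⟨r + 1, c, sw, ops⟩) ops b
            (appL (DP.sh P.kt true v c) s) rest) (P.rel r) : Bool) = true := h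
      generalize P.rel r = R at h' hr
      cases R with
      | nil => exact absurd h' (by simp)
      | cons s rest =>
        obtain ⟨i', h', a1, a2⟩ := H.run_sound ih ops h'
        simp only [DP.fin, Bool.and_eq_true, nbeq_iff] at a1
        obtain ⟨⟨rfl, a3⟩, a4⟩ := a1
        rw [H.arrive ih a3 a4] at a2
        simp only [Holds, cond_true]
        rw [← a2, lprod_appL, mul_inv_rev, mul_smul, smul_smul, smul_smul, ← mul_inv_rev, ← mul_inv_rev,
          ← mul_assoc, mul_eq_one_comm.mp (show z * (lprod H.E s * relW H.E z rest) = 1 by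
            rw [← mul_assoc]; exact hr), inv_one, one_smul]

theorem ok_of {a N : ℕ} (h0 : ∀ m < a, H.Ok m) (h : P.Good a N) : ∀ m < N, H.Ok m := by
  intro m
  induction m using Nat.strong_induction_on with
  | _ m ih =>
    intro hm
    by_cases h1 : m < a
    · exact h0 m h1
    · obtain ⟨J, hJ⟩ := h m (not_lt.mp h1) hm
      exact H.chk_sound (fun k hk => ih k hk (hk.trans hm)) hJ

theorem gains_sound {N i : ℕ} (ok : ∀ m < N, H.Ok m) {T sws : List (List ℕ)} (h : P.gains N i T sws = true) :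
    ∀ γ ∈ gp A.e T, φ γ • H.p i = H.p i := by
  rw [DP.gains, Bool.and_eq_true, allL_iff] at h
  refine fun γ hγ => (gp_le (K := (stabilizer G (H.p i)).comap φ)).mpr (fun w hw => ?_) hγ
  rw [eqLL_true h.2] at hw
  obtain ⟨sw, hs, rfl⟩ := List.mem_map.mp hw
  rw [Subgroup.mem_comap, map_lprod]
  exact H.gain ok (h.1 sw hs)

theorem cov_aux {N i : ℕ} (ok : ∀ m < N, H.Ok m) {live : List ℕ} {S : List (List ℕ)} (hS : okS A.L S = true)
    (hn : 0 < A.n) (Q : ℕ → Prop)
    (hQ : ∀ u v b, b ∈ live → Holds H.E z H.p i u true b v → ∀ y < A.n,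
      A.c y ∈ orbit (gp A.e S) (lprod A.e u • A.c 0) → Q y) (es : List ℕ) :
    ∀ U, (∀ y, U.testBit y = true → Q y) → P.cov N A.n i live S es U = true → ∀ y < A.n, Q y := by
  induction es with
  | nil =>
    intro U hU h y hy
    have h' : U + 1 = 1 <<< A.n := nbeq_iff.mp h
    refine hU y ?_
    rw [show U = 2 ^ A.n - 1 by rw [Nat.one_shiftLeft] at h'; omega, Nat.testBit_two_pow_sub_one]
    simpa using hy
  | cons f es ih =>
    intro U hU h
    have h' : (DF.rec (motive := fun _ => Bool) (fun a u e b _ =>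
      Nat.blt f N && Nat.beq a i && e && anyL live (Nat.beq b) && okW P.L (invW P.inv u) &&
        orbRun id (S.map (tr P.ap)) (A.n + 1) (tr P.ap (invW P.inv u) 0) fun V _ =>
          P.cov N A.n i live S es (U ||| V)) (P.ft f) : Bool) = true := h
    have h2 := fun h => ok f h
    rw [Ok] at h2
    generalize P.ft f = F at h2 h'
    obtain ⟨a, u, e, b, v⟩ := F
    simp only [Bool.and_eq_true, nbeq_iff, Nat.blt_eq, anyL_iff, H.ap, H.L] at h'
    obtain ⟨⟨⟨⟨⟨h1, rfl⟩, rfl⟩, b', hb, rfl⟩, h3⟩, h4⟩ := h'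
    obtain ⟨t1, t2⟩ := A.tr_spec h3 hn
    rw [lprod_invW H.inv, inv_inv] at t2
    obtain ⟨Ls, V, -, -, hV, hP, -, hk⟩ := orbRun_list h4
      (fun y => y < A.n ∧ A.c y ∈ orbit (gp A.e S) (lprod A.e u • A.c 0)) ⟨t1, t2 ▸ mem_orbit_self _⟩ (by
      rintro y ⟨hy, g, hg⟩ f hf
      obtain ⟨w, hw, rfl⟩ := List.mem_map.mp hf
      obtain ⟨s1, s2⟩ := A.tr_spec (okS_iff.mp hS w hw) hy
      refine ⟨s1, (⟨_, mem_gp hw⟩ : gp A.e S)⁻¹ * g, ?_⟩
      simp only at hg ⊢
      rw [mul_smul, hg]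
      exact s2)
    refine ih _ (fun y hy => ?_) hk
    rw [Nat.testBit_or, Bool.or_eq_true] at hy
    refine hy.elim (hU y) fun hy => ?_
    have := hP y (by simpa using (hV y).mp hy)
    exact hQ u v b hb (h2 h1) y this.1 this.2

/-- the neighbours of the `i`-th orbit lie in live orbits -/
def Closed (live : List ℕ) (i : ℕ) : Prop := ∀ γ : Γ, ∃ j ∈ live, ∃ δ : Γ, z⁻¹ • φ γ • H.p i = φ δ • H.p j

theorem closed {N i : ℕ} (ok : ∀ m < N, H.Ok m) (hf : A.Full) (hn : 0 < A.n)
    (hK : stabilizer Γ (A.c 0) ≤ gp A.e P.ks) {live es : List ℕ} {S sws : List (List ℕ)}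
    (h : (okS P.L S && P.gains N i S sws && P.cov N A.n i live S es 0) = true) : H.Closed live i := by
  simp only [Bool.and_eq_true, H.L] at h
  intro γ
  obtain ⟨y, hy, e⟩ := hf (γ⁻¹ • A.c 0)
  refine H.cov_aux ok h.1.1 hn (fun y => ∀ γ : Γ, A.c y = γ⁻¹ • A.c 0 →
    ∃ j ∈ live, ∃ δ : Γ, z⁻¹ • φ γ • H.p i = φ δ • H.p j) ?_ es 0 (by simp) h.2 y hy γ e
  rintro u v b hb hh y - ⟨s, hs⟩ γ e
  have h1 : γ * s * lprod A.e u ∈ gp A.e P.ks := hK (by
    rw [mem_stabilizer_iff, mul_smul, mul_smul]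
    exact (congrArg (γ • ·) (hs.trans e)).trans (smul_inv_smul _ _))
  have h2 : ∀ k ∈ gp A.e P.ks, ∃ k', φ k * z = z * φ k' := fun k hk => by
    induction hk using Subgroup.closure_induction with
    | mem x hx =>
      obtain ⟨w, hw, rfl⟩ := hx
      obtain ⟨a, ha, rfl⟩ := List.getElem_of_mem hw
      exact ⟨lprod A.e (nthW P.kt a), by rw [map_lprod, map_lprod, ← nthW_eq ha, H.kz]⟩
    | one => exact ⟨1, by simp⟩
    | mul x y _ _ a b =>
      obtain ⟨s, a⟩ := a
      obtain ⟨t, b⟩ := b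
      exact ⟨s * t, by rw [map_mul, map_mul, mul_assoc, b, ← mul_assoc, a, mul_assoc]⟩
    | inv x _ a =>
      obtain ⟨s, a⟩ := a
      exact ⟨s⁻¹, by rw [map_inv, map_inv, inv_mul_eq_iff_eq_mul, ← mul_assoc, a, mul_inv_cancel_right]⟩
  obtain ⟨k', hk⟩ := h2 _ h1
  refine ⟨b, hb, k' * (lprod A.e v)⁻¹, ?_⟩
  simp only [Holds, cond_true] at hh
  have e1 : φ k' * z⁻¹ * (φ (lprod A.e u))⁻¹ = z⁻¹ * φ γ * φ s := by
    rw [← inv_mul_cancel_left z (φ k'), ← hk, map_mul, map_mul]; group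
  rw [map_mul, mul_smul, map_inv, map_lprod, ← hh, ← map_lprod, smul_smul (φ k'), smul_smul (_ * _), e1, mul_smul,
    H.gains_sound ok h.1.2 s s.2, mul_smul]

theorem ncard_le [Finite Γ] {i b m : ℕ} {T : Subgroup Γ} (hT : ∀ γ ∈ T, φ γ • H.p i = H.p i)
    (hm : m ≤ Nat.card T) (hΓ : Nat.card Γ ≤ b * m) (h0 : 0 < m) :
    (orbit φ.range (H.p i)).ncard ≤ b := by
  have h1 : T.map φ.rangeRestrict ≤ stabilizer φ.range (H.p i) := by
    rintro _ ⟨γ, hγ, rfl⟩; exact hT γ hγ
  have : Finite φ.range := Finite.of_surjective _ φ.rangeRestrict_surjective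
  rw [← index_stabilizer]
  refine (Subgroup.index_antitone h1).trans ((Nat.le_of_dvd (Nat.pos_of_ne_zero Subgroup.index_ne_zero_of_finite)
    (T.index_map_dvd φ.rangeRestrict_surjective)).trans (Nat.le_of_mul_le_mul_right ?_ h0))
  exact ((Nat.mul_le_mul_left _ hm).trans T.index_mul_card.le).trans hΓ

theorem cover [Finite Γ] {live : List ℕ} (h0 : 0 ∈ live) (hc : ∀ i ∈ live, H.Closed live i)
    {K : Subgroup G} (hK : K ≤ φ.range ⊔ Subgroup.zpowers z) :
    ∀ g ∈ K, ∃ i ∈ live, g • x0 ∈ orbit φ.range (H.p i) := by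
  intro g hg
  have : Finite φ.range := Finite.of_surjective _ φ.rangeRestrict_surjective
  have hO : {q | ∃ i ∈ live, q ∈ orbit φ.range (H.p i)}.Finite := by
    refine ((live.finite_toSet).biUnion (t := fun i => orbit φ.range (H.p i)) fun i _ => Set.finite_range _).subset ?_
    rintro q ⟨i, hi, hq⟩
    exact Set.mem_biUnion hi hq
  refine smul_mem_of_closed (s := (φ.range : Set G) ∪ {z⁻¹}) hO ?_ ?_ x0
    ⟨0, h0, by rw [p, H.W0]; exact mem_orbit_self _⟩
  · rintro g (hg | rfl) _ ⟨i, hi, ⟨_, γ, rfl⟩, rfl⟩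
    · exact ⟨i, hi, ⟨g, hg⟩ * ⟨_, γ, rfl⟩, mul_smul _ _ _⟩
    · obtain ⟨j, hj, δ, e⟩ := hc i hi γ
      exact ⟨j, hj, ⟨_, δ, rfl⟩, e.symm⟩
  · refine (hK.trans (sup_le (fun x hx => Subgroup.subset_closure (Or.inl hx)) (Subgroup.zpowers_le.mpr ?_))) hg
    exact (Subgroup.inv_mem_iff _).mp (Subgroup.subset_closure (Or.inr rfl))

end DHyp

/-- the coset space is covered by orbits of bounded size -/
def DCov (K : Subgroup G) (P : List (X × ℕ)) : Prop :=
  (∀ q ∈ P, (orbit K q.1).Finite ∧ (orbit K q.1).ncard ≤ q.2) ∧ ∀ x : X, ∃ q ∈ P, x ∈ orbit K q.1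

/-- all subset sums -/
def subs : List ℕ → List ℕ
  | [] => [0]
  | b :: l => subs l ++ (subs l).map (b + ·)

theorem split_aux {K : Subgroup G} {Z : Set X} (hZ : ∀ g ∈ K, ∀ x ∈ Z, g • x ∈ Z) (P : List (X × ℕ))
    (h : ∀ q ∈ P, (orbit K q.1).Finite ∧ (orbit K q.1).ncard ≤ q.2) :
    {x | ∃ q ∈ P, x ∈ orbit K q.1}.Finite ∧ ∃ s ∈ subs (P.map (·.2)), ∃ t, s + t = (P.map (·.2)).sum ∧
      (Z ∩ {x | ∃ q ∈ P, x ∈ orbit K q.1}).ncard ≤ s ∧ (Zᶜ ∩ {x | ∃ q ∈ P, x ∈ orbit K q.1}).ncard ≤ t := by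
  induction P with
  | nil => simp [subs]
  | cons q P ih =>
    obtain ⟨f, s, hs, t, e, h1, h2⟩ := ih fun r hr => h r (by simp [hr])
    obtain ⟨f1, h3⟩ := h q (by simp)
    have e1 : {x | ∃ r ∈ q :: P, x ∈ orbit K r.1} = orbit K q.1 ∪ {x | ∃ r ∈ P, x ∈ orbit K r.1} := by
      ext x; simp
    have a : ∀ W : Set X, (W ∩ (orbit K q.1 ∪ {x | ∃ r ∈ P, x ∈ orbit K r.1})).ncard ≤
        (W ∩ orbit K q.1).ncard + (W ∩ {x | ∃ r ∈ P, x ∈ orbit K r.1}).ncard := fun W => by
      rw [Set.inter_union_distrib_left]; exact Set.ncard_union_le _ _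
    have b : ∀ W : Set X, (W ∩ orbit K q.1).ncard ≤ q.2 := fun W =>
      (Set.ncard_le_ncard Set.inter_subset_right f1).trans h3
    rw [e1, List.map_cons, List.sum_cons, subs]
    refine ⟨f1.union f, ?_⟩
    by_cases hq : q.1 ∈ Z
    · have : Zᶜ ∩ orbit K q.1 = ∅ := Set.eq_empty_of_forall_notMem fun _ ⟨c, g, d⟩ => c (d ▸ hZ g g.2 _ hq)
      refine ⟨q.2 + s, List.mem_append_right _ (List.mem_map_of_mem hs), t, by omega,
        (a Z).trans (Nat.add_le_add (b Z) h1), (a _).trans ?_⟩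
      rw [this, Set.ncard_empty]; omega
    · have : Z ∩ orbit K q.1 = ∅ := Set.eq_empty_of_forall_notMem fun _ ⟨c, g, d⟩ => hq (by
        have := hZ (g⁻¹ : K) (g⁻¹).2 _ (d ▸ c)
        rwa [← Subgroup.smul_def, inv_smul_smul] at this)
      refine ⟨s, List.mem_append_left _ hs, q.2 + t, by omega, (a _).trans ?_,
        (a _).trans (Nat.add_le_add (b _) h2)⟩
      rw [this, Set.ncard_empty]; omega

namespace DCov

variable {K : Subgroup G} {P : List (X × ℕ)} (h : DCov K P)
include h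

theorem univ : {x | ∃ q ∈ P, x ∈ orbit K q.1} = Set.univ := Set.eq_univ_of_forall h.2

theorem finite : Finite X :=
  Set.finite_univ_iff.mp (h.univ ▸ (split_aux (Z := ∅) (by simp) P h.1).1)

theorem split {Z : Set X} (hZ : ∀ g ∈ K, ∀ x ∈ Z, g • x ∈ Z) : ∃ s ∈ subs (P.map (·.2)), ∃ t,
    s + t = (P.map (·.2)).sum ∧ Z.ncard ≤ s ∧ Zᶜ.ncard ≤ t ∧ Z.ncard + Zᶜ.ncard = Nat.card X := by
  obtain ⟨-, s, hs, t, e, h1, h2⟩ := split_aux hZ P h.1
  rw [h.univ, Set.inter_univ] at h1 h2
  have := h.finite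
  exact ⟨s, hs, t, e, h1, h2, Set.ncard_add_ncard_compl Z⟩

theorem card_le : Nat.card X ≤ (P.map (·.2)).sum := by
  obtain ⟨s, -, t, e, h1, h2, h3⟩ := h.split (Z := ∅) (by simp)
  omega

omit h in
theorem exact {a b : X × ℕ} {P : List (X × ℕ)} (h : DCov K (a :: b :: P))
    (hc : ((a :: b :: P).map (·.2)).sum ≤ Nat.card X) : b.2 ≤ (orbit K b.1).ncard := by
  have h' : DCov K (a :: (b.1, (orbit K b.1).ncard) :: P) :=
    ⟨by simpa using ⟨h.1 a (by simp), (h.1 b (by simp)).1, fun x n hx => h.1 (x, n) (by simp [hx])⟩,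
      fun x => by simpa using h.2 x⟩
  have := h'.card_le
  simp only [List.map_cons, List.sum_cons] at this hc
  omega

end DCov

end sound

section quot

variable {G : Type*} [Group G] {K : Subgroup G} {P : List ((G ⧸ K) × ℕ)}

theorem DCov.coatom (h : DCov K P) {n : ℕ} (hn : (P.map (·.2)).sum = n) (hc : K.index = n) (h1 : 1 < n)
    (hd : ∀ s ∈ subs (P.map (·.2)), s ∣ n → s = 1 ∨ s = n) : IsCoatom K := by
  refine ⟨fun e => by rw [e, Subgroup.index_top] at hc; omega, fun M hM => ?_⟩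
  obtain ⟨s, hs, t, e, h2, h3, h4⟩ := h.split (Z := orbit M ((1 : G) : G ⧸ K)) (by
    rintro g hg _ ⟨m, rfl⟩
    exact ⟨⟨g, hM.le hg⟩ * m, mul_smul _ _ _⟩)
  rw [← Subgroup.index, hc] at h4
  have h5 : (orbit M ((1 : G) : G ⧸ K)).ncard = s := by omega
  have h5 : K.relIndex M = s := by
    have := relIndex_stabilizer M ((1 : G) : G ⧸ K)
    rw [stabilizer_quotient] at this
    exact this.trans h5
  have h6 := Subgroup.relIndex_mul_index hM.le
  rw [hc, h5] at h6
  rcases hd _ hs ⟨_, h6.symm⟩ with h7 | h7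
  · exact absurd (Subgroup.relIndex_eq_one.mp (h5.trans h7)) (not_le_of_gt hM)
  · rw [h7] at h6
    exact Subgroup.index_eq_one.mp (Nat.eq_of_mul_eq_mul_left (by omega) (h6.trans (mul_one _).symm))

end quot

/-- the data for one live double coset: number, generators, gains, edges, a large subgroup with its gains,
a bound for its order and the resulting bound for the orbit -/
structure DL where
  i : ℕ
  S : List (List ℕ)
  sws : List (List ℕ)
  es : List ℕ
  T : List (List ℕ)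
  tws : List (List ℕ)
  m : ℕ
  b : ℕ

namespace DHyp

variable {Γ Y G X : Type*} [Group Γ] [MulAction Γ Y] [Group G] [MulAction G X]
  {P : DP} {A : TabAct Γ Y} {φ : Γ →* G} {z : G} {x0 : X} (H : DHyp P A φ z x0)

/-- what is checked for a live double coset -/
def Live (N c : ℕ) (live : List ℕ) (d : DL) : Prop :=
  (okS P.L d.S && P.gains N d.i d.S d.sws && P.cov N A.n d.i live d.S d.es 0) = true ∧
    (P.gains N d.i d.T d.tws && Nat.ble c (d.b * d.m) && Nat.blt 0 d.m) = true ∧ d.m ≤ Nat.card (gp A.e d.T)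

theorem main [Finite Γ] {N c : ℕ} (ok : ∀ m < N, H.Ok m) (hf : A.Full) (hn : 0 < A.n)
    (hK : stabilizer Γ (A.c 0) ≤ gp A.e P.ks) (hc : Nat.card Γ ≤ c) (ds : List DL) (h0 : 0 ∈ ds.map (·.i))
    (hd : ∀ d ∈ ds, Live (P := P) (A := A) N c (ds.map (·.i)) d) (ht : ∀ x : X, ∃ g : G, g • x0 = x)
    (hG : ⊤ ≤ φ.range ⊔ Subgroup.zpowers z) :
    DCov φ.range (ds.map fun d => (H.p d.i, d.b)) ∧ ∀ d ∈ ds, ∀ γ ∈ gp A.e d.T, φ γ • H.p d.i = H.p d.i := by
  have : Finite φ.range := Finite.of_surjective _ φ.rangeRestrict_surjective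
  have h1 := fun (d : DL) h => (by simpa only [Bool.and_eq_true, nble_iff, Nat.blt_eq] using (hd d h).2.1 :
    (P.gains N d.i d.T d.tws = true ∧ c ≤ d.b * d.m) ∧ 0 < d.m)
  refine ⟨⟨fun q hq => ?_, fun x => ?_⟩, fun d h => H.gains_sound ok (h1 d h).1.1⟩
  · obtain ⟨d, h, rfl⟩ := List.mem_map.mp hq
    exact ⟨Set.finite_range _,
      H.ncard_le (H.gains_sound ok (h1 d h).1.1) (hd d h).2.2 (hc.trans (h1 d h).1.2) (h1 d h).2⟩
  · obtain ⟨g, rfl⟩ := ht x
    obtain ⟨i, hi, hx⟩ := H.cover h0 (fun i hi => by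
      obtain ⟨d, h, rfl⟩ := List.mem_map.mp hi
      exact H.closed ok hf hn hK (hd d h).1) hG g trivial
    obtain ⟨d, h, rfl⟩ := List.mem_map.mp hi
    exact ⟨_, List.mem_map_of_mem h, hx⟩

end DHyp

/-- a normal subgroup inside `φ.range` is trivial -/
theorem core_bot {Γ Y G X : Type*} [Group Γ] [MulAction Γ Y] [Group G] [MulAction G X] [Finite Γ]
    {A : TabAct Γ Y} {bs : List ℕ} (hb : A.Base ⊤ bs) (ht : A.seg 0 A.n ⊆ orbit (⊤ : Subgroup Γ) (A.c 0))
    {φ : Γ →* G} {x0 : X} (hx : ∀ γ, φ γ • x0 = x0) (g : G)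
    (h1 : ∀ γ ∈ stabilizer Γ (A.c 0), φ γ • g • x0 = g • x0) (h2 : A.n ≤ (orbit φ.range (g • x0)).ncard)
    (hf : A.Full) (N : Subgroup G) (hN : N.Normal) (hle : N ≤ φ.range) : N = ⊥ := by
  have h3 : stabilizer Γ (A.c 0) ≤ (stabilizer G (g • x0)).comap φ := h1
  have h4 : ((stabilizer G (g • x0)).comap φ).index = (orbit φ.range (g • x0)).ncard := by
    rw [Subgroup.index_comap, relIndex_stabilizer]
  have h5 : (stabilizer Γ (A.c 0)).index ≤ A.n := by
    rw [index_stabilizer, ← Nat.sub_zero A.n, ← A.ncard_seg le_rfl]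
    refine Set.ncard_le_ncard (fun y _ => ?_) (A.seg_finite _ _)
    obtain ⟨x, hx, rfl⟩ := hf y
    exact ⟨x, ⟨Nat.zero_le _, hx⟩, rfl⟩
  have h6 : stabilizer Γ (A.c 0) = (stabilizer G (g • x0)).comap φ := by
    refine Subgroup.eq_of_le_of_card_ge h3 (Nat.le_of_mul_le_mul_left ?_
      (Nat.pos_of_ne_zero (Subgroup.index_ne_zero_of_finite (H := (stabilizer G (g • x0)).comap φ))))
    rw [Subgroup.index_mul_card, ← (stabilizer Γ (A.c 0)).index_mul_card]
    exact Nat.mul_le_mul_right _ (h5.trans (h4 ▸ h2))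
  have h7 := A.normal_eq_bot hb ht (hN.comap φ) (h6 ▸ fun γ hγ => by
    obtain ⟨δ, e⟩ := hle (hN.conj_mem _ hγ g⁻¹)
    show φ γ • g • x0 = g • x0
    have := hx δ
    rwa [e, inv_inv, mul_smul, mul_smul, inv_smul_eq_iff] at this)
  rw [eq_bot_iff]
  intro n hn
  obtain ⟨γ, rfl⟩ := hle hn
  rw [(h7.le hn : γ ∈ ⊥)]; simp

end Cfsg.Agent.H15
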