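import Mathlib
import Cfsg.Agent.H15.DCE

/-!
# Large matrices over prime fields; exact orbits; graphs of presentations
-/

set_option autoImplicit false

namespace Cfsg.Agent.H15

open Cfsg.Agent.H14 MulAction Matrix Subgroup

/-- forget the letters from `a` on -/
def cut {G : Type*} [Group G] (a : ℕ) (E : ℕ → G) (l : ℕ) : G := if l < a then E l else 1

theorem cut_lt {G : Type*} [Group G] {a l : ℕ} {E : ℕ → G} (h : l < a) : cut a E l = E l := if_pos h

theorem cut_ge {G : Type*} [Group G] {a l : ℕ} {E : ℕ → G} (h : a ≤ l) : cut a E l = 1 := if_neg (not_lt.mpr h)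

theorem lprod_cut {G : Type*} [Group G] {a : ℕ} {E : ℕ → G} {w : List ℕ} (h : okW a w = true) :
    lprod (cut a E) w = lprod E w := lprod_congr fun b hb => cut_lt (okW_iff.mp h b hb)

theorem cl_cut {G : Type*} [Group G] {a : ℕ} {E : ℕ → G} : cl (cut a E) a = cl E a :=
  le_antisymm (cl_le.mpr fun _ hl => cut_lt (E := E) hl ▸ mem_cl hl)
    (cl_le.mpr fun _ hl => cut_lt (E := E) hl ▸ mem_cl (e := cut a E) hl)

/-- a family of matrices given by their columns, with words for their inverses -/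
structure BM where
  p : ℕ
  B : ℕ
  m : ℕ
  L : ℕ
  cs : ℕ → List ℕ
  iw : ℕ → List ℕ

namespace BM

variable (M : BM)

/-- the table -/
noncomputable def ap (x l : ℕ) : ℕ := aff M.B M.p M.m (M.cs l) 0 x

/-- the vector with a given code -/
def v (x : ℕ) : Fin M.m → ZMod M.p := fun i => (vec M.p x i : ℕ)

/-- the matrix with given columns -/
noncomputable def mat (Cs : List ℕ) : Matrix (Fin M.m) (Fin M.m) (ZMod M.p) := Matrix.of fun i j => (vec M.B (nth Cs j) i : ℕ)

/-- well formed columns -/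
noncomputable def col (Cs : List ℕ) : Bool := Nat.beq (lenL Cs) M.m && allL Cs (small M.B M.p M.m)

/-- the basis -/
def bs : List ℕ := basC M.p M.m

/-- the check for one letter -/
noncomputable def okL (l : ℕ) : Bool := M.col (M.cs l) && eqOn M.ap M.L M.bs (l :: M.iw l) []

/-- everything is checked -/
structure Ok : Prop where
  hp : 1 < M.p
  hB : M.p - 1 + M.m * ((M.p - 1) * (M.p - 1)) < M.B
  ok : RAll M.okL 0 M.L

variable {M}

theorem mul_v (hp : 1 < M.p) (hB : M.p - 1 + M.m * ((M.p - 1) * (M.p - 1)) < M.B) {Cs : List ℕ}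
    (h : M.col Cs = true) (x : ℕ) : M.mat Cs *ᵥ M.v x = M.v (aff M.B M.p M.m Cs 0 x) := by
  simp only [col, Bool.and_eq_true, nbeq_iff, allL_iff, lenL_eq] at h
  funext i
  rw [v, aff, frcN_eq, (vec_pack (by omega) _ _).2 i i.2, vec_wide (by omega) Cs (fun C hC => small_spec (h.2 C hC))
    x 0 fun j => by rw [vec_nil, h.1]; omega, vec_nil, zero_add, ZMod.natCast_mod, comb_eq, h.1,
    ← Fin.sum_univ_eq_sum_range (fun j => vec M.p x j • vec M.B (nth Cs j))]
  simp [mulVec, dotProduct, mul_comm, mat, v]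

theorem v_pow (hp : 1 < M.p) (j : Fin M.m) : M.v (M.p ^ (j : ℕ)) = Pi.single j 1 := by
  funext i
  simp [v, vec_pow hp, Pi.single_apply, Fin.ext_iff]

theorem mat_ext (hp : 1 < M.p) {A B : Matrix (Fin M.m) (Fin M.m) (ZMod M.p)}
    (h : ∀ b ∈ M.bs, A *ᵥ M.v b = B *ᵥ M.v b) : A = B := by
  ext i j
  have := congrFun (h _ (List.mem_map_of_mem (List.mem_range.mpr j.2))) i
  rwa [v_pow hp, mulVec_single_one, mulVec_single_one] at this

theorem v_inj (hp : 1 < M.p) {x y : ℕ} (hx : x < M.p ^ M.m) (hy : y < M.p ^ M.m) (e : M.v x = M.v y) : x = y :=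
  vec_inj M.m hx hy fun i hi => by
    simpa only [v, ZMod.natCast_eq_natCast_iff', Nat.mod_eq_of_lt (vec_lt (Nat.zero_lt_of_lt hp) _ _)]
      using congrFun e ⟨i, hi⟩

namespace Ok

variable (h : M.Ok)
include h

theorem col {l : ℕ} (hl : l < M.L) : M.col (M.cs l) = true :=
  (Bool.and_eq_true_iff.mp (h.ok l (Nat.zero_le _) hl)).1

theorem inv {l : ℕ} (hl : l < M.L) : eqOn M.ap M.L M.bs (l :: M.iw l) [] = true :=
  (Bool.and_eq_true_iff.mp (h.ok l (Nat.zero_le _) hl)).2

theorem tr_v {w : List ℕ} (hw : ∀ a ∈ w, a < M.L) :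
    ∃ A : Matrix (Fin M.m) (Fin M.m) (ZMod M.p), ∀ x, A *ᵥ M.v x = M.v (tr M.ap w x) := by
  induction w with
  | nil => exact ⟨1, fun x => one_mulVec _⟩
  | cons a w ih =>
    obtain ⟨A, hA⟩ := ih fun b hb => hw b (by simp [hb])
    exact ⟨A * M.mat (M.cs a), fun x => by
      rw [← mulVec_mulVec, mul_v h.hp h.hB (h.col (hw a (by simp))), hA]; rfl⟩

theorem isUnit {l : ℕ} (hl : l < M.L) : IsUnit (M.mat (M.cs l)) := by
  have h1 := h.inv hl
  simp only [eqOn, Bool.and_eq_true, okW_iff, allL_iff, nbeq_iff] at h1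
  obtain ⟨A, hA⟩ := h.tr_v fun a ha => h1.1.1 a (List.mem_cons_of_mem _ ha)
  refine IsUnit.of_mul_eq_one A (mul_eq_one_comm.mp (mat_ext h.hp fun b hb => ?_))
  rw [← mulVec_mulVec, mul_v h.hp h.hB (h.col hl), hA, one_mulVec]
  exact congrArg M.v (h1.2 b hb)

end Ok

open Classical in
/-- the letters -/
noncomputable def e (M : BM) (l : ℕ) : GL (Fin M.m) (ZMod M.p) :=
  if h : l < M.L ∧ IsUnit (M.mat (M.cs l)) then h.2.unit⁻¹ else 1

theorem e_ge {l : ℕ} (h : M.L ≤ l) : M.e l = 1 := dif_neg fun c => absurd c.1 (not_lt.mpr h)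

theorem Ok.e_inv (h : M.Ok) {l : ℕ} (hl : l < M.L) :
    (((M.e l)⁻¹ : GL _ _) : Matrix _ _ _) = M.mat (M.cs l) := by
  rw [e, dif_pos ⟨hl, h.isUnit hl⟩, inv_inv, IsUnit.unit_spec]

/-- the table action on vectors -/
noncomputable def Ok.tab (h : M.Ok) : TabAct (GL (Fin M.m) (ZMod M.p)) (Fin M.m → ZMod M.p) where
  e := M.e
  L := M.L
  n := M.p ^ M.m
  ap := M.ap
  c := M.v
  lt x _ l _ := (vec_pack (Nat.zero_lt_of_lt h.hp) _ _).1
  act x _ l hl := by rw [Units.smul_def, smul_eq_mulVec, h.e_inv hl, mul_v h.hp h.hB (h.col hl)]; rfl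
  inj x hx y hy e := v_inj h.hp hx hy e

theorem Ok.base (h : M.Ok) : h.tab.Base ⊤ M.bs := by
  refine ⟨fun b hb => ?_, eq_bot_iff.mpr fun g hg => Units.ext (mat_ext h.hp fun b hb => ?_)⟩
  · obtain ⟨j, hj, rfl⟩ := List.mem_map.mp hb
    exact Nat.pow_lt_pow_right h.hp (List.mem_range.mp hj)
  · rw [Units.val_one, one_mulVec]
    exact (TabAct.mem_fx _).mp hg.2 _ hb

theorem Ok.e_eq (h : M.Ok) {l : ℕ} (hl : l < M.L) : M.e l = (lprod M.e (M.iw l))⁻¹ :=
  eq_inv_of_mul_eq_one_left (h.base.eq (h.inv hl))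

/-- the later letters are words in the earlier ones -/
theorem Ok.mem (h : M.Ok) {K : Subgroup (GL (Fin M.m) (ZMod M.p))} {a : ℕ} (h0 : ∀ l < a, M.e l ∈ K)
    (H : allLt M.L (fun l => Nat.blt l a || okW l (M.iw l)) = true) (l : ℕ) : M.e l ∈ K := by
  induction l using Nat.strong_induction_on with
  | _ l ih =>
    by_cases hl : l < M.L
    · rcases Bool.or_eq_true_iff.mp (allLt_iff.mp H l hl) with h1 | h1
      · exact h0 l (Nat.blt_eq.mp h1)
      · rw [h.e_eq hl]
        exact inv_mem (lprod_mem fun b hb => ih b (okW_iff.mp h1 b hb))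
    · rw [e_ge (not_lt.mp hl)]; exact one_mem _

theorem Ok.hi (h : M.Ok) {T a : ℕ} (ha : a ≤ M.L)
    (H : allLt a (fun l => Nat.blt (invT T a l) a && eqL (M.iw l) [invT T a l]) = true) (l : ℕ) :
    cut a M.e (invT T a l) = (cut a M.e l)⁻¹ := by
  by_cases hl : l < a
  · have := allLt_iff.mp H l hl
    rw [Bool.and_eq_true, Nat.blt_eq] at this
    rw [cut_lt hl, cut_lt this.1, h.e_eq (hl.trans_le ha), eqL_true this.2]; simp
  · rw [invT_of_le (not_lt.mp hl), cut_ge (not_lt.mp hl), inv_one]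

theorem Ok.sat (h : M.Ok) {T a : ℕ} (hi : ∀ l, cut a M.e (invT T a l) = (cut a M.e l)⁻¹) {B : List (List ℕ × ℕ)}
    (H : allL B (fun p => okW a p.1 && eqOn M.ap M.L M.bs (repL p.1 p.2) []) = true) :
    Sat (cut a M.e) (invT T a) B := ⟨hi, fun p hp => by
  have := allL_iff.mp H p hp
  rw [Bool.and_eq_true] at this
  rw [lprod_cut this.1]; exact h.base.pow this.2⟩

end BM

/-- position in a list -/
noncomputable def idxL (Ls : List ℕ) (y : ℕ) : ℕ :=
  List.rec (motive := fun _ => ℕ) 0 (fun a _ ih => Bool.rec (Nat.add ih 1) 0 (Nat.beq a y)) Ls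

theorem idxL_inj {Ls : List ℕ} {x y : ℕ} (h : idxL Ls x < Ls.length) (e : idxL Ls x = idxL Ls y) : x = y := by
  induction Ls with
  | nil => exact absurd h (Nat.not_lt_zero _)
  | cons a Ls ih =>
    have e1 : ∀ z, idxL (a :: Ls) z = if a = z then 0 else idxL Ls z + 1 := fun z => by
      show (Bool.rec _ _ (Nat.beq a z) : ℕ) = _
      split
      · rw [nbeq_iff.mpr ‹_›]
      · rw [nbeq_false.mpr ‹_›]; rfl
    rw [e1, e1] at e
    rw [e1, List.length_cons] at h
    split_ifs at e h with h1 h2 h2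
    · rw [← h1, ← h2]
    · exact ih (by omega) (by omega)

/-- one level of a chain with an explicit orbit -/
noncomputable def exOk (ap : ℕ → ℕ → ℕ) (L n : ℕ) (S T : List (List ℕ)) (b k : ℕ) (Ls : List ℕ) : Bool :=
  Nat.blt b n && okS L (S ++ T) && fixAt ap T b && Nat.ble (lenL Ls) k &&
    orbRun (fun y => frcN y (idxL Ls)) ((S ++ T).map (tr ap)) (Nat.add k 1) b
      (fun U j => Nat.beq j k && Nat.blt U (Nat.shiftLeft 1 (lenL Ls)))

namespace TabAct

variable {G X : Type*} [Group G] [MulAction G X] {A : TabAct G X}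

theorem ex_orbit {S T : List (List ℕ)} {b k : ℕ} {Ls : List ℕ} (h : exOk A.ap A.L A.n S T b k Ls = true) :
    (orbit (gp A.e (S ++ T)) (A.c b)).ncard = k ∧ gp A.e T ≤ stabilizer G (A.c b) := by
  classical
  simp only [exOk, Bool.and_eq_true, Nat.blt_eq, lenL_eq] at h
  obtain ⟨⟨⟨⟨h1, h2⟩, h3⟩, -⟩, h4⟩ := h
  refine ⟨?_, A.gp_le_stabilizer (okS_iff.mpr fun w hw => okS_iff.mp h2 w (by simp [hw])) h1 h3⟩
  obtain ⟨L, U, h0, hn, hm, hP, hc, hk⟩ := orbRun_list h4
    (fun y => y < A.n ∧ A.c y ∈ orbit (gp A.e (S ++ T)) (A.c b)) ⟨h1, mem_orbit_self _⟩ (by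
      rintro y ⟨hy, g, hg⟩ f hf
      obtain ⟨w, hw, rfl⟩ := List.mem_map.mp hf
      obtain ⟨t1, t2⟩ := A.tr_spec (okS_iff.mp h2 w hw) hy
      refine ⟨t1, (⟨_, mem_gp hw⟩ : gp A.e _)⁻¹ * g, ?_⟩
      simp only at hg ⊢
      rw [mul_smul, hg]
      exact t2)
  simp only [Bool.and_eq_true, nbeq_iff, Nat.blt_eq, Nat.shiftLeft_eq', Nat.one_shiftLeft, frcN_eq] at hk hm hc
  have h5 : orbit (gp A.e (S ++ T)) (A.c b) = ((L.map A.c).toFinset : Set X) := by
    refine Set.Subset.antisymm ?_ fun p hp => ?_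
    · rintro _ ⟨⟨g, hg⟩, rfl⟩
      have hg' : g ∈ closure {g | ∃ w ∈ S ++ T, g = (lprod A.e w)⁻¹} :=
        (gp_le.mpr fun w hw => (Subgroup.inv_mem_iff _).mp
          (Subgroup.subset_closure (k := {g | ∃ w ∈ S ++ T, g = (lprod A.e w)⁻¹}) ⟨w, hw, rfl⟩)) hg
      refine smul_mem_of_closed (Finset.finite_toSet _) ?_ hg' _ (by simpa using ⟨b, h0, rfl⟩)
      rintro _ ⟨w, hw, rfl⟩ p hp
      simp only [List.coe_toFinset, List.mem_map, Set.mem_ofPred_eq] at hp ⊢
      obtain ⟨y, hy, rfl⟩ := hp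
      obtain ⟨y', hy', e⟩ := List.mem_map.mp (hc y hy _ (List.mem_map_of_mem hw))
      refine ⟨y', hy', ?_⟩
      rw [idxL_inj (not_le.mp fun c => ?_) e, (A.tr_spec (okS_iff.mp h2 w hw) (hP y hy).1).2]
      have := (hm _).mpr (List.mem_map_of_mem hy')
      rw [Nat.testBit_lt_two_pow (hk.2.trans_le (Nat.pow_le_pow_right (by norm_num) c))] at this
      exact absurd this (by simp)
    · simp only [List.coe_toFinset, List.mem_map, Set.mem_ofPred_eq] at hp
      obtain ⟨y, hy, rfl⟩ := hp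
      exact (hP y hy).2
  rw [h5, Set.ncard_coe_finset, List.toFinset_card_of_nodup ((List.Nodup.of_map _ hn).map_on
    fun a ha b hb e => A.inj a (hP a ha).1 b (hP b hb).1 e), List.length_map, hk.1]

theorem dvd_step [Finite G] {S T : List (List ℕ)} {b k m : ℕ} {Ls : List ℕ} (hm : m ∣ Nat.card (gp A.e T))
    (h : exOk A.ap A.L A.n S T b k Ls = true) : k * m ∣ Nat.card (gp A.e (S ++ T)) := by
  obtain ⟨h1, h2⟩ := ex_orbit h
  rw [card_eq_orbit_mul_inf _ (A.c b), h1]
  exact Nat.mul_dvd_mul_left _ (hm.trans (card_dvd_of_le (le_inf (gp_le.mpr fun w hw => mem_gp (by simp [hw])) h2)))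

end TabAct

section graph

variable {G T : Type*} [Group G] [Group T]

/-- the graph of an assignment of letters -/
def grG (E : ℕ → G) (π : ℕ → T) : Subgroup (G × T) := closure (Set.range fun l => (E l, π l))

/-- the letters of the graph -/
def grE (E : ℕ → G) (π : ℕ → T) (l : ℕ) : grG E π := ⟨(E l, π l), subset_closure ⟨l, rfl⟩⟩

/-- first projection -/
def gr1 (E : ℕ → G) (π : ℕ → T) : grG E π →* G := (MonoidHom.fst G T).comp (grG E π).subtype

/-- second projection -/
def gr2 (E : ℕ → G) (π : ℕ → T) : grG E π →* T := (MonoidHom.snd G T).comp (grG E π).subtype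

variable {E : ℕ → G} {π : ℕ → T}

theorem Sat.gr {inv : ℕ → ℕ} {B : List (List ℕ × ℕ)} (h : Sat E inv B) (h' : Sat π inv B) : Sat (grE E π) inv B :=
  ⟨fun l => Subtype.ext ((h.prod h').hi l), fun p hp => (grG E π).subtype_injective (by
    rw [map_pow, map_lprod, map_one]; exact (h.prod h').hB p hp)⟩

theorem gr_top {L : ℕ} (h : ∀ l, L ≤ l → E l = 1) (h' : ∀ l, L ≤ l → π l = 1) : cl (grE E π) L = ⊤ := by
  rw [eq_top_iff]
  rintro ⟨g, hg⟩ -
  induction hg using closure_induction with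
  | mem x hx =>
    obtain ⟨l, rfl⟩ := hx
    by_cases hl : l < L
    · exact mem_cl (e := grE E π) hl
    · have e : grE E π l = 1 := Subtype.ext (Prod.ext (h l (not_lt.mp hl)) (h' l (not_lt.mp hl)))
      exact (e ▸ one_mem _ : grE E π l ∈ cl (grE E π) L)
  | one => exact one_mem _
  | mul x y _ _ a b => exact mul_mem a b
  | inv x _ a => exact inv_mem a

theorem gr1_range {L : ℕ} (h : cl (grE E π) L = ⊤) : (gr1 E π).range = cl E L := by
  rw [MonoidHom.range_eq_map, ← h, map_cl]; rfl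

theorem gr2_range {L : ℕ} (h : cl (grE E π) L = ⊤) : (gr2 E π).range = cl π L := by
  rw [MonoidHom.range_eq_map, ← h, map_cl]; rfl

end graph

section fin

variable {G : Type*} [Group G] {K : Subgroup G} {P : List ((G ⧸ K) × ℕ)}

theorem DCov.order (h : DCov K P) {n c : ℕ} (hn : (P.map (·.2)).sum = n) (hc : CardLe K c)
    (hd : n * c ∣ Nat.card G) : Finite G ∧ Nat.card G = n * c ∧ K.index = n ∧ Nat.card K = c := by
  have := h.finite
  have h1 : K.index ≤ n := hn ▸ h.card_le
  have h2 : 0 < K.index := Nat.card_pos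
  have h3 := K.index_mul_card
  have h4 : 0 < Nat.card G := h3 ▸ Nat.mul_pos h2 (Nat.pos_of_ne_zero hc.1)
  have h5 : Nat.card G = n * c := le_antisymm (h3 ▸ Nat.mul_le_mul h1 hc.2) (Nat.le_of_dvd h4 hd)
  exact ⟨Nat.finite_of_card_ne_zero h4.ne', h5,
    index_eq_of_card h5 h1 hc.2 (by omega) ((Nat.pos_of_ne_zero hc.1).trans_le hc.2)⟩

theorem simple_dce [Finite G] {Γ : Type*} [Group Γ] {φ : Γ →* G} (hH : IsCoatom φ.range)
    (hcore : ∀ N : Subgroup G, N.Normal → N ≤ φ.range → N = ⊥) {g : G} {q c : ℕ} (hg : g ^ q = 1)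
    (hc : Nat.card φ.range = c) (hq : Nat.Coprime c q) (h1 : 1 < c) (u : G) (γ : Γ) {m k : ℕ}
    (h2 : (u⁻¹ * g * u * φ γ) ^ m = 1) (h3 : γ ^ k = 1) (h4 : Nat.Coprime m k)
    (h5 : ∀ N : Subgroup Γ, N.Normal → γ ∈ N → N = ⊤) : IsSimpleGroup G := by
  refine simple_of_coatom hH hcore hg (hc ▸ hq) fun N hN hgN => ?_
  have h6 : φ.range ≤ N := by
    rintro _ ⟨δ, rfl⟩
    exact (h5 _ (hN.comap φ) (mem_of_mul_pow hN (conj_mem' hN hgN u) h2 (by rw [← map_pow, h3, map_one]) h4)).ge
      (mem_top δ)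
  refine hH.2 N (lt_of_le_of_ne h6 fun e => ?_)
  rw [e, hcore N hN e.ge, card_bot] at hc
  omega

end fin

/-! ### presentations with auxiliary generators -/

section aux

open Cfsg.Spor

variable {α : Type} [DecidableEq α] (W : α → List ℕ) (inv : ℕ → ℕ)

/-- substitute words for generators -/
noncomputable def exL (r : List (α × Bool)) : List ℕ :=
  List.rec (motive := fun _ => List ℕ) [] (fun p _ ih => appL (Bool.rec (invW inv (W p.1)) (W p.1) p.2) ih) r

/-- the words are forced by the relators -/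
noncomputable def defOk (rs : List (FreeGroup α)) : List α → Bool :=
  List.rec (motive := fun _ => List α → Bool) (fun _ => true)
    (fun r _ ih known => List.rec (motive := fun _ => Bool) false (fun p t _ =>
      p.2 && t.all (fun q => decide (q.1 ∈ known)) && nilL (redL inv (exL W inv (p :: t))) && ih (p.1 :: known))
      r.toWord) rs

variable {W inv} {H : Type*} [Group H] {E : ℕ → H}

omit [DecidableEq α] in
theorem lprod_exL (hi : ∀ l, E (inv l) = (E l)⁻¹) {f : α → H} (r : List (α × Bool))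
    (h : ∀ p ∈ r, f p.1 = lprod E (W p.1)) : FreeGroup.lift f (FreeGroup.mk r) = lprod E (exL W inv r) := by
  induction r with
  | nil => rfl
  | cons p r ih =>
    show _ = lprod E (appL _ (exL W inv r))
    rw [lprod_appL, ← ih fun q hq => h q (by simp [hq]), FreeGroup.lift_mk, FreeGroup.lift_mk, List.map_cons,
      List.prod_cons, h p (by simp)]
    obtain ⟨x, b⟩ := p
    cases b <;> simp [lprod_invW hi]

theorem defOk_sound (hi : ∀ l, E (inv l) = (E l)⁻¹) {f : α → H} (rs : List (FreeGroup α))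
    (hr : ∀ r ∈ rs, FreeGroup.lift f r = 1) : ∀ known, (∀ x ∈ known, f x = lprod E (W x)) →
      defOk W inv rs known = true → ∀ r ∈ rs, ∀ p ∈ r.toWord.head?, f p.1 = lprod E (W p.1) := by
  induction rs with
  | nil => simp
  | cons r rs ih =>
    intro known hk h
    have h' : (List.rec (motive := fun _ => Bool) false (fun p t _ =>
      p.2 && t.all (fun q => decide (q.1 ∈ known)) && nilL (redL inv (exL W inv (p :: t))) &&
        defOk W inv rs (p.1 :: known)) r.toWord : Bool) = true := h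
    have h1 := hr r (by simp)
    rw [← FreeGroup.mk_toWord (x := r)] at h1
    rw [List.forall_mem_cons]
    generalize r.toWord = w at h' h1 ⊢
    cases w with
    | nil => exact absurd h' (by simp)
    | cons p t =>
      obtain ⟨x, b⟩ := p
      simp only [Bool.and_eq_true, List.all_eq_true, decide_eq_true_iff] at h'
      obtain ⟨⟨⟨rfl, h2⟩, h3⟩, h4⟩ := h'
      have h5 : f x = lprod E (W x) := by
        have h6 := lprod_exL (W := W) hi t fun q hq => hk _ (h2 q hq)
        have h7 : lprod E (appL (W x) (exL W inv t)) = 1 := by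
          rw [← lprod_redL hi]; exact congrArg (lprod E) (nilL_true h3)
        rw [lprod_appL, ← h6, ← h1] at h7
        simpa [FreeGroup.lift_mk] using h7.symm
      exact ⟨by simpa using h5, ih (fun s hs => hr s (by simp [hs])) _ (by simpa [h5] using hk) h4⟩

variable {extra : List (FreeGroup α)}

variable (W inv extra) in
/-- the relators as words -/
noncomputable def auxB : List (List ℕ × ℕ) := extra.map fun r => (redL inv (exL W inv r.toWord), 1)

theorem aux_rels {E : ℕ → CoxPresented α [] extra} (hi : ∀ l, E (inv l) = (E l)⁻¹)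
    (h : ∀ x, PresentedGroup.of x = lprod E (W x)) : Sat E inv (auxB W inv extra) := ⟨hi, fun p hp => by
  obtain ⟨r, hr, rfl⟩ := List.mem_map.mp hp
  rw [pow_one, lprod_redL hi, ← lprod_exL hi _ fun p _ => h p.1, FreeGroup.mk_toWord, ← PD.mk_eq_lift]
  exact extra_rel hr⟩

theorem aux_hom (h : Sat E inv (auxB W inv extra)) :
    ∃ ψ : CoxPresented α [] extra →* H, ∀ x, ψ (PresentedGroup.of x) = lprod E (W x) :=
  ⟨PresentedGroup.toGroup (cox_lift (edges := []) (extra := extra) (fun x => lprod E (W x)) (by simp [coxNodes])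
    fun r hr => by
      rw [← FreeGroup.mk_toWord (x := r), lprod_exL h.hi _ fun _ _ => rfl, ← lprod_redL h.hi]
      exact (pow_one _).symm.trans (h.hB _ (List.mem_map_of_mem hr))), fun x => PresentedGroup.toGroup.of _⟩

theorem aux_def {E : ℕ → CoxPresented α [] extra} (hi : ∀ l, E (inv l) = (E l)⁻¹) (rs : List (FreeGroup α))
    (known : List α) (h1 : ∀ x ∈ known, PresentedGroup.of x = lprod E (W x)) (h2 : ∀ r ∈ rs, r ∈ extra)
    (h3 : defOk W inv rs known = true) (x : α) (h4 : x ∈ known ∨ ∃ r ∈ rs, ∃ p ∈ r.toWord.head?, p.1 = x) :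
    PresentedGroup.of x = lprod E (W x) := by
  rcases h4 with h | ⟨r, a, p, b, rfl⟩
  · exact h1 x h
  · exact defOk_sound hi rs (fun r hr => by rw [← PD.mk_eq_lift]; exact extra_rel (h2 r hr)) known h1 h3 r a p b

theorem aux_top {E : ℕ → CoxPresented α [] extra} (h : ∀ x, PresentedGroup.of x = lprod E (W x)) {L : ℕ}
    (h' : ∀ x, okW L (W x) = true) : cl E L = ⊤ := by
  rw [eq_top_iff, ← PresentedGroup.closure_range_of, Subgroup.closure_le]
  rintro _ ⟨x, rfl⟩
  rw [h]; exact lprod_mem_cl (h' x)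

end aux

theorem Sat.triv {G : Type*} [Group G] {E : ℕ → G} {inv : ℕ → ℕ} {B B' : List (List ℕ × ℕ)} (h : Sat E inv B)
    (H : allL B' (fun p => trivW inv B (repL p.1 p.2)) = true) : Sat E inv B' :=
  ⟨h.hi, fun p hp => by rw [← lprod_repL]; exact trivW_sound h.hi h.hB (allL_iff.mp H p hp)⟩

/-- the `n`-th relator -/
noncomputable def nthB (B : List (List ℕ × ℕ)) : ℕ → List ℕ :=
  List.rec (motive := fun _ => ℕ → List ℕ) (fun _ => [])
    (fun p _ ih i => Nat.rec (motive := fun _ => List ℕ) (repL p.1 p.2) (fun j _ => ih j) i) B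

/-- `w` is the inverse of a product of conjugates of relators -/
noncomputable def vk (inv : ℕ → ℕ) (B : List (List ℕ × ℕ)) (w : List ℕ) (c : List (List ℕ × ℕ × Bool)) : Bool :=
  nilL (redL inv (appL w (List.rec (motive := fun _ => List ℕ) [] (fun q _ ih =>
    appL q.1 (appL (Bool.rec (nthB B q.2.1) (invW inv (nthB B q.2.1)) q.2.2) (appL (invW inv q.1) ih))) c)))

/-- the relator of an enumeration as a word -/
noncomputable def relL (z : ℕ) (r : List (List ℕ)) : List ℕ :=
  List.rec (motive := fun _ => List ℕ) [] (fun s _ ih => z :: appL s ih) r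

/-- a test on two lists -/
noncomputable def allP {α β : Type} (f : α → β → Bool) (l : List α) : List β → Bool :=
  List.rec (motive := fun _ => List β → Bool) (fun _ => true)
    (fun a _ ih m => List.rec (motive := fun _ => Bool) false (fun b t _ => f a b && ih t) m) l

theorem allP_spec {α β : Type} {f : α → β → Bool} {l : List α} : ∀ {m : List β}, allP f l m = true →
    ∀ a ∈ l, ∃ b, f a b = true := by
  induction l with
  | nil => simp
  | cons a l ih =>
    intro m h
    cases m with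
    | nil => exact absurd h (by simp [allP])
    | cons b m =>
      have h' : (f a b && allP f l m) = true := h
      rw [Bool.and_eq_true] at h'
      rw [List.forall_mem_cons]
      exact ⟨⟨b, h'.1⟩, ih h'.2⟩

section vk

variable {G : Type*} [Group G] {E : ℕ → G} {inv : ℕ → ℕ} {B : List (List ℕ × ℕ)}

theorem Sat.nth (h : Sat E inv B) (i : ℕ) : lprod E (nthB B i) = 1 := by
  induction B generalizing i with
  | nil => rfl
  | cons p B ih =>
    cases i with
    | zero => exact (lprod_repL ..).trans (h.hB p (by simp))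
    | succ j => exact ih ⟨h.hi, fun q hq => h.hB q (by simp [hq])⟩ j

theorem Sat.vk (h : Sat E inv B) {w : List ℕ} {c : List (List ℕ × ℕ × Bool)} (H : vk inv B w c = true) :
    lprod E w = 1 := by
  have h1 := congrArg (lprod E) (nilL_true H)
  rw [lprod_redL h.hi, lprod_appL] at h1
  refine (mul_eq_left.mpr ?_).symm.trans h1
  clear h1 H
  induction c with
  | nil => rfl
  | cons q c ih =>
    obtain ⟨u, i, b⟩ := q
    show lprod E (appL _ (appL _ (appL _ _))) = 1
    rw [lprod_appL, lprod_appL, lprod_appL, ih, lprod_invW h.hi]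
    cases b <;> simp [lprod_invW h.hi, h.nth]

theorem Sat.cut (h : Sat E inv B) {T a : ℕ} {B' : List (List ℕ × ℕ)} (cs : List (List (List ℕ × ℕ × Bool)))
    (H : (allLt a (fun l => Nat.blt (invT T a l) a && Nat.beq (invT T a l) (inv l)) &&
      allP (fun p c => okW a p.1 && H15.vk inv B (repL p.1 p.2) c) B' cs) = true) : Sat (cut a E) (invT T a) B' := by
  simp only [Bool.and_eq_true, allLt_iff, Nat.blt_eq, nbeq_iff] at H
  refine ⟨fun l => ?_, fun p hp => ?_⟩
  · by_cases hl : l < a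
    · rw [cut_lt hl, cut_lt (H.1 l hl).1, (H.1 l hl).2, h.hi]
    · rw [invT_of_le (not_lt.mp hl), cut_ge (not_lt.mp hl), inv_one]
  · obtain ⟨c, hc⟩ := allP_spec H.2 p hp
    rw [Bool.and_eq_true] at hc
    rw [lprod_cut hc.1, ← lprod_repL]; exact h.vk hc.2

theorem relW_cut {a z : ℕ} {r : List (List ℕ)} (h : okS a r = true) :
    relW (H15.cut a E) (E z) r = lprod E (relL z r) := by
  induction r with
  | nil => rfl
  | cons s r ih =>
    rw [okS, allL_cons, Bool.and_eq_true] at h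
    show _ = lprod E (z :: appL s (relL z r))
    rw [relW, ih h.2, lprod_cons, lprod_appL, lprod_cut h.1, mul_assoc]

theorem Sat.dhyp (h : Sat E inv B) {Γ Y : Type*} [Group Γ] [MulAction Γ Y] {P : DP} {A : TabAct Γ Y} {φ : Γ →* G}
    (h1 : P.ap = A.ap) (h2 : P.L = A.L) (h3 : A.Base ⊤ P.bs) (h4 : ∀ l, A.e (P.inv l) = (A.e l)⁻¹)
    (hφ : ∀ l, φ (A.e l) = H15.cut P.L E l) (z : ℕ) {rs : List (List (List ℕ))} (h5 : P.rel = nthR rs)
    (c1 c2 : List (List (List ℕ × ℕ × Bool)))
    (H : (nilL ((P.W 0).map lenL) && Nat.beq P.kt.length P.ks.length &&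
      allP (fun i c => okW P.L (nthW P.ks i) && okW P.L (nthW P.kt i) &&
        H15.vk inv B (appL (nthW P.ks i) (z :: appL (invW inv (nthW P.kt i)) [inv z])) c) (List.range P.ks.length) c1 &&
      allP (fun r c => okS P.L r && H15.vk inv B (relL z r) c) rs c2) = true) :
    DHyp P A φ (E z) ((1 : G) : G ⧸ φ.range) := by
  simp only [Bool.and_eq_true, nbeq_iff] at H
  obtain ⟨⟨⟨a1, a2⟩, a3⟩, a4⟩ := H
  refine ⟨h1, h2, h3, h4, fun i => ?_, fun i => ?_, fun γ => ?_, List.map_eq_nil_iff.mp (nilL_true a1)⟩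
  · by_cases hi : i < P.ks.length
    · obtain ⟨c, hc⟩ := allP_spec a3 i (List.mem_range.mpr hi)
      simp only [Bool.and_eq_true] at hc
      have := h.vk hc.2
      rw [lprod_appL, lprod_cons, lprod_appL, lprod_invW h.hi, lprod_single, h.hi, ← mul_assoc, ← mul_assoc,
        mul_inv_eq_one, mul_inv_eq_iff_eq_mul] at this
      rw [funext hφ, lprod_cut hc.1.1, lprod_cut hc.1.2, this]
    · rw [nthW_of_le (not_lt.mp hi), nthW_of_le (a2.trans_le (not_lt.mp hi))]; simp
  · rw [h5, funext hφ]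
    refine nthR_all (Q := fun r => relW (H15.cut P.L E) (E z) r = 1) rfl (fun r hr => ?_) i
    obtain ⟨c, hc⟩ := allP_spec a4 r hr
    rw [Bool.and_eq_true] at hc
    rw [relW_cut hc.1, h.vk hc.2]
  · exact QuotientGroup.eq.mpr (by simp)

theorem letters_hi {α : Type} [DecidableEq α] (f : α → G) {ls : List (α × Bool)} {T : ℕ}
    (H : ∀ l < ls.length, ls[invT T ls.length l]? = ls[l]?.map fun p => (p.1, !p.2)) (l : ℕ) :
    letters f ls (invT T ls.length l) = (letters f ls l)⁻¹ := by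
  by_cases hl : l < ls.length
  · unfold letters
    rw [H l hl, List.getElem?_eq_getElem hl]
    obtain ⟨x, b⟩ := ls[l]
    cases b <;> simp
  · rw [invT_of_le (not_lt.mp hl), letters, List.getElem?_eq_none (not_lt.mp hl), inv_one]

theorem letters_eq {α : Type} {f : α → G} {ls : List (α × Bool)} {W : α → List ℕ} (hi : ∀ l, E (inv l) = (E l)⁻¹)
    (h : ∀ x, f x = lprod E (W x)) {l : ℕ}
    (H : ∃ p ∈ ls[l]?, W p.1 = [bif p.2 then inv l else l]) : letters f ls l = E l := by
  obtain ⟨⟨x, b⟩, h1, h2⟩ := H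
  unfold letters
  rw [show ls[l]? = _ from h1]
  cases b <;> simp_all

end vk

end Cfsg.Agent.H15
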