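import Mathlib
import Cfsg.Agent.H15.Big

/-!
# Covers from presentations, permutation realisations and centraliser orders
-/

set_option autoImplicit false

namespace Cfsg.Agent.H15

open Cfsg.Agent.H14 MulAction Subgroup

theorem inj_simple {A G : Type*} [Group A] [Group G] [IsSimpleGroup A] (ψ : A →* G) {a : A}
    (h : ψ a ≠ 1) : Function.Injective ψ :=
  (MonoidHom.ker_eq_bot_iff ψ).mp ((IsSimpleGroup.eq_bot_or_eq_top_of_normal ψ.ker inferInstance).resolve_right
    fun e => h (e.ge (mem_top a)))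

/-- the letters as words -/
def idW (L : ℕ) : List (List ℕ) := (List.range L).map fun l => [l]

theorem idW_length (L : ℕ) : (idW L).length = L := by simp [idW]

theorem nthW_idW {L l : ℕ} (h : l < L) : nthW (idW L) l = [l] := by
  rw [nthW_eq (by rwa [idW_length])]; simp [idW]

theorem RAll.one {f : ℕ → Bool} {a : ℕ} (h : f a = true) : RAll f a (a + 1) := fun x h1 h2 =>
  (show a = x by omega) ▸ h

theorem cl_subE {G : Type*} [Group G] (E : ℕ → G) (L : ℕ) : cl (subE E (cl E L)) L = ⊤ := by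
  apply map_injective (cl E L).subtype_injective
  rw [map_cl, ← MonoidHom.range_eq_map, range_subtype]
  exact le_antisymm (cl_le.mpr fun l _ => (subE E (cl E L) l).2) (cl_le.mpr fun l hl =>
    subE_coe (E := E) (mem_cl hl) ▸ mem_cl (e := fun l => (cl E L).subtype (subE E (cl E L) l)) hl)

theorem exists_hom_of_card {S Q : Type*} [Group S] [Group Q] {e : ℕ → S} {e' : ℕ → Q} {L : ℕ}
    (h : CardLe (cl (fun l => (e l, e' l)) L) (Nat.card S)) (ht : cl e L = ⊤) :
    ∃ ψ : S →* Q, ∀ l < L, ψ (e l) = e' l := by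
  have := h.finite
  let f := (MonoidHom.fst S Q).comp (cl (fun l => (e l, e' l)) L).subtype
  have a : Function.Surjective f := by
    rw [← MonoidHom.range_eq_top, MonoidHom.range_comp, range_subtype, map_cl]; exact ht
  let g := MulEquiv.ofBijective f (a.bijective_of_nat_card_le h.2)
  refine ⟨((MonoidHom.snd S Q).comp (cl _ L).subtype).comp g.symm.toMonoidHom, fun l hl => ?_⟩
  have : g.symm (e l) = ⟨_, mem_cl hl⟩ := g.symm_apply_eq.mpr rfl
  show (g.symm (e l)).1.2 = _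
  rw [this]

namespace TabAct

variable {T X : Type} [Group T] [MulAction T X] {A : TabAct T X}

/-- the subgroup generated by the letters, with its table -/
noncomputable abbrev own (A : TabAct T X) : TabAct (cl A.e A.L) X := A.sub _ A.L le_rfl fun _ hl => mem_cl hl

theorem own_coe {w : List ℕ} (h : okW A.L w = true) : ((lprod A.own.e w : cl A.e A.L) : T) = lprod A.e w :=
  coe_lprod_subE fun a ha => mem_cl (okW_iff.mp h a ha)

theorem Base.cover {bs : List ℕ} (hb : A.Base ⊤ bs) (z : List ℕ) {t : ℕ} {B : List (List ℕ × ℕ)}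
    (x : ℕ) (H1 : (allL (idW A.L) (fun w => eqOn A.ap A.L bs (appL w z) (appL z w)) &&
      neAt A.ap A.L A.n x [0, A.L - 1] [A.L - 1, 0]) = true)
    (H2 : Sat (fun l => QuotientGroup.mk' (normalClosure {lprod A.own.e z}) (lprod A.own.e (nthW (idW A.L) l)))
      (invT t (idW A.L).length) B)
    {S : Type} [Group S] [IsSimpleGroup S] {e : ℕ → S} (ht : cl e A.L = ⊤) (h : Sat e (invT t A.L) B)
    (bound : ∀ (H : Type) [Group H] (E : ℕ → H), Sat E (invT t A.L) B → CardLe (cl E A.L) (Nat.card S)) :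
    lprod A.own.e z ∈ center _ ∧ ∃ f : cl A.e A.L →* S, Function.Surjective f ∧ f.ker = zpowers (lprod A.own.e z) ∧
      ∀ l < A.L, f (A.own.e l) = e l := by
  rw [Bool.and_eq_true] at H1
  have hb' : A.own.Base ⊤ bs := hb.sub _ _ _ _
  have h0 : gp A.own.e (idW A.L) = ⊤ :=
    top_le_iff.mp ((cl_subE A.e A.L).ge.trans (cl_le.mpr fun l hl => by
      have := mem_gp (E := A.own.e) (List.mem_map_of_mem (f := fun l => [l]) (List.mem_range.mpr hl))
      rwa [lprod_single] at this))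
  have h1 := mem_center_of_gp h0 (hb'.commAll H1.1)
  have := normal_zpowers_of_center h1
  have h2 : normalClosure {lprod A.own.e z} = zpowers (lprod A.own.e z) :=
    le_antisymm (normalClosure_le_normal (by simp)) (zpowers_le.mpr (subset_normalClosure rfl))
  rw [idW_length] at H2
  obtain ⟨ψ, hψ⟩ := exists_hom_of_card (bound _ _ (h.prod H2)) ht
  have h3 : ∀ l < A.L, ψ (e l) = QuotientGroup.mk' _ (A.own.e l) := fun l hl => by
    rw [hψ l hl, nthW_idW hl, lprod_single]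
  have h4 : Function.Surjective ψ := by
    rw [← MonoidHom.range_eq_top, eq_top_iff,
      ← map_top_of_surjective _ (QuotientGroup.mk'_surjective (normalClosure {lprod A.own.e z})), ← cl_subE, map_cl]
    exact cl_le.mpr fun l hl => ⟨_, h3 l hl⟩
  have h5 := A.own.ne_of_neAt H1.2
  have hL : 0 < A.L := by
    have := H1.2
    simp only [neAt, Bool.and_eq_true, okW_iff] at this
    exact this.1.1.1 0 (by simp)
  have h6 : ψ (e 0) ≠ 1 := fun c => h5 (by
    rw [h3 0 hL, QuotientGroup.mk'_apply, QuotientGroup.eq_one_iff, h2] at c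
    simpa using (mem_center_iff.mp (zpowers_le.mpr h1 c) _).symm)
  let g := MulEquiv.ofBijective ψ ⟨inj_simple ψ h6, h4⟩
  refine ⟨h1, g.symm.toMonoidHom.comp (QuotientGroup.mk' _), g.symm.surjective.comp (QuotientGroup.mk'_surjective _),
    ?_, fun l hl => g.symm_apply_eq.mpr (h3 l hl).symm⟩
  rw [← h2]
  ext y
  simp

theorem Base.satq {bs : List ℕ} (hb : A.Base ⊤ bs) (z : List ℕ) (ks : List ℕ) {t : ℕ} {B : List (List ℕ × ℕ)}
    (H : satChk A.ap A.L bs (idW A.L) (ks.map (repL z)) t B = true) :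
    Sat (fun l => QuotientGroup.mk' (normalClosure {lprod A.own.e z}) (lprod A.own.e (nthW (idW A.L) l)))
      (invT t (idW A.L).length) B :=
  have hb' : A.own.Base ⊤ bs := hb.sub _ _ _ _
  hb'.sat (QuotientGroup.mk' (normalClosure {lprod A.own.e z})) (σ := idW A.L) (zs := ks.map (repL z)) (fun w hw => by
    obtain ⟨k, -, rfl⟩ := List.mem_map.mp hw
    rw [lprod_repL, QuotientGroup.mk'_apply, QuotientGroup.eq_one_iff]
    exact pow_mem (subset_normalClosure (Set.mem_singleton _)) k) H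

theorem own_sat {inv : ℕ → ℕ} {B : List (List ℕ × ℕ)} (h : Sat A.e inv B)
    (hB : allL B (fun p => okW A.L p.1) = true) : Sat A.own.e inv B :=
  ⟨subE_inv h.hi _, fun p hp => Subtype.ext (by
    rw [SubmonoidClass.coe_pow, own_coe (allL_iff.mp hB p hp)]; exact h.hB p hp)⟩

theorem stab_of_card {G X : Type*} [Group G] [MulAction G X] [Finite G] (A : TabAct G X) {hs : List (List ℕ)} {m : ℕ}
    (hc : Nat.card G ≤ A.n * m) (hm : m ≤ Nat.card (gp A.e hs)) (h0 : 0 < m)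
    (ht : A.seg 0 A.n ⊆ orbit (⊤ : Subgroup G) (A.c 0))
    (H : (okS A.L hs && Nat.blt 0 A.n && fixAt A.ap hs 0) = true) :
    gp A.e hs = stabilizer G (A.c 0) ∧ (gp A.e hs).index = A.n := by
  simp only [Bool.and_eq_true, Nat.blt_eq] at H
  refine A.stabilizer_eq (A.gp_le_stabilizer H.1.1 H.1.2 H.2) ⟨index_ne_zero_of_finite, ?_⟩ ht
  exact Nat.le_of_mul_le_mul_right (((Nat.mul_le_mul_left _ hm).trans (index_mul_card _).le).trans hc) h0

end TabAct

theorem PermOk.sat {ap : ℕ → ℕ → ℕ} {inv : ℕ → ℕ} {n L : ℕ} (h : PermOk ap inv n L) {B : List (List ℕ × ℕ)}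
    (hB : allL B (fun p => okW L p.1) = true) (hr : RAll (relsAt ap B) 0 n) : Sat h.perm inv B :=
  ⟨h.perm_inv, h.rels hB hr⟩

theorem PermOk.of {ap : ℕ → ℕ → ℕ} {T n L : ℕ} (hp : RAll (permAt ap (invT T L) n L) 0 n)
    (H : (Nat.blt 0 n && allLt L fun l => Nat.blt (invT T L l) L && Nat.beq (invT T L (invT T L l)) l) = true) :
    PermOk ap (invT T L) n L := by
  simp only [Bool.and_eq_true, Nat.blt_eq, allLt_iff, nbeq_iff] at H
  exact ⟨H.1, H.2, fun l hl => by rw [invT_of_le hl]; exact hl, hp⟩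

theorem PermOk.perm_ge {ap : ℕ → ℕ → ℕ} {inv : ℕ → ℕ} {n L : ℕ} (h : PermOk ap inv n L) (l : ℕ) (hl : L ≤ l) :
    h.perm l = 1 := dif_neg (not_lt.mpr hl)

theorem alt_eq {n L : ℕ} {e : ℕ → Equiv.Perm (Fin n)} (h3 : ∀ l < L, e l ^ 3 = 1) (hn : 1 < n)
    (hc : n.factorial ≤ 2 * Nat.card (cl e L)) : cl e L = alternatingGroup (Fin n) := by
  have : Nontrivial (Fin n) := Fin.nontrivial_iff_two_le.mpr hn
  refine eq_of_le_of_card_ge (cl_le.mpr fun l hl => ?_) ?_
  · have := congrArg Equiv.Perm.sign (h3 l hl)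
    rw [map_pow, map_one, pow_succ, Int.units_sq, one_mul] at this
    exact this
  · have := two_mul_nat_card_alternatingGroup (α := Fin n)
    rw [Nat.card_perm, Nat.card_eq_fintype_card (α := Fin n), Fintype.card_fin] at this
    omega

section real

variable {G : Type} [Group G]

theorem exists_perm_real [Finite G] [IsSimpleGroup G] (K : Subgroup G) {n : ℕ} [NeZero n] (hK : K.index = n)
    (h1 : 1 < n) : ∃ H : Subgroup (Equiv.Perm (Fin n)), Nonempty (G ≃* H) ∧ IsPretransitive H (Fin n) ∧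
      Nonempty (stabilizer H (0 : Fin n) ≃* K) := by
  classical
  let a : (G ⧸ K) ≃ Fin n := Finite.equivFinOfCardEq hK
  let σ : (G ⧸ K) ≃ Fin n := a.trans (Equiv.swap (a ((1 : G) : G ⧸ K)) 0)
  have h0 : σ ((1 : G) : G ⧸ K) = 0 := Equiv.swap_apply_left _ _
  let ρ : G →* Equiv.Perm (Fin n) := σ.permCongrHom.toMonoidHom.comp (toPermHom G (G ⧸ K))
  have hρ : ∀ g x, ρ g (σ x) = σ (g • x) := fun g x => by simp [ρ]
  have hs : ∀ g, ρ g 0 = 0 ↔ g ∈ K := fun g => by
    rw [← h0, hρ, σ.apply_eq_iff_eq, ← mem_stabilizer_iff, stabilizer_quotient]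
  have hi : Function.Injective ρ := by
    rcases IsSimpleGroup.eq_bot_or_eq_top_of_normal ρ.ker inferInstance with h | h
    · exact (MonoidHom.ker_eq_bot_iff _).mp h
    · have : K = ⊤ := top_le_iff.mp fun g _ => (hs g).mp (by rw [(h.ge (mem_top g) : ρ g = 1)]; rfl)
      rw [this, index_top] at hK
      omega
  refine ⟨ρ.range, ⟨MonoidHom.ofInjective hi⟩, ⟨fun x y => ?_⟩, ⟨?_⟩⟩
  · obtain ⟨g, hg⟩ := exists_smul_eq G (σ.symm x) (σ.symm y)
    refine ⟨⟨_, g, rfl⟩, ?_⟩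
    show ρ g x = y
    rw [← σ.apply_symm_apply x, hρ, hg, σ.apply_symm_apply]
  · refine (MulEquiv.subgroupCongr ?_).trans ((MonoidHom.ofInjective hi).subgroupMap K).symm
    ext ⟨_, g, rfl⟩
    exact (hs g).trans ⟨fun h => ⟨g, h, rfl⟩, fun ⟨k, h, e⟩ => hi (congrArg Subtype.val e) ▸ h⟩

theorem cen_iso [Finite G] {T : Type} [Group T] {ψ : G →* T} (hψ : Function.Injective ψ) {K : Subgroup T}
    (h1 : K ≤ ψ.range) {g : G} (h2 : K ≤ centralizer {ψ g}) (h3 : Nat.card (centralizer {g}) < 2 * Nat.card K) :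
    ∃ e : centralizer {g} ≃* K, ∀ x, (e x : T) = ψ x := by
  have a : K ≤ (centralizer {g}).map ψ := fun k hk => by
    obtain ⟨y, rfl⟩ := h1 hk
    exact ⟨y, mem_centralizer_singleton_iff.mpr (hψ (by
      rw [map_mul, map_mul]; exact mem_centralizer_singleton_iff.mp (h2 hk))), rfl⟩
  have b := card_map_of_injective (K := centralizer {g}) hψ
  have : Finite ((centralizer {g}).map ψ) := Nat.finite_of_card_ne_zero (b ▸ Nat.card_pos.ne')
  obtain ⟨k, hk⟩ := card_dvd_of_le a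
  have c : 0 < Nat.card ((centralizer {g}).map ψ) := Nat.card_pos
  obtain rfl : K = (centralizer {g}).map ψ := eq_of_le_of_card_ge a (by
    rw [← b, hk, mul_comm 2] at h3
    have := Nat.lt_of_mul_lt_mul_left h3
    rw [hk] at c ⊢
    interval_cases k <;> simp_all)
  exact ⟨equivMapOfInjective _ ψ hψ, fun _ => rfl⟩

end real

section count

variable {Γ X : Type*} [Group Γ] [MulAction Γ X]

theorem card_conj_eq (γ : Γ) (p : X) :
    Nat.card {g : Γ | g⁻¹ * γ * g ∈ stabilizer Γ p} =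
      Nat.card (stabilizer Γ p) * (fixedBy X γ ∩ orbit Γ p).ncard := by
  have h1 : {g : Γ | g⁻¹ * γ * g ∈ stabilizer Γ p} =
      QuotientGroup.mk ⁻¹' (ofQuotientStabilizer Γ p ⁻¹' fixedBy X γ) := by
    ext g
    simp only [Set.mem_ofPred_eq, mem_stabilizer_iff, Set.mem_preimage, ofQuotientStabilizer_mk, mem_fixedBy, mul_smul,
      inv_smul_eq_iff]
  rw [h1, QuotientGroup.card_preimage_mk, Nat.card_coe_set_eq,
    ← Set.ncard_image_of_injective _ (injective_ofQuotientStabilizer Γ p), Set.image_preimage_eq_inter_range]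
  congr 3
  ext x
  exact ⟨fun ⟨q, e⟩ => e ▸ ofQuotientStabilizer_mem_orbit Γ p q, fun ⟨g, e⟩ => ⟨g, e⟩⟩

theorem card_conj_le [Finite Γ] (γ : Γ) (S : Subgroup Γ) :
    Nat.card {g : Γ | g⁻¹ * γ * g ∈ S} ≤ {s | s ∈ S ∧ IsConj γ s}.ncard * Nat.card (centralizer {γ}) := by
  rw [← Nat.card_coe_set_eq, ← Nat.card_prod]
  have h : ∀ s : {s | s ∈ S ∧ IsConj γ s}, ∃ c : Γ, c * γ * c⁻¹ = s := fun s => isConj_iff.mp s.2.2
  choose c hc using h
  let f : {g : Γ | g⁻¹ * γ * g ∈ S} → {s | s ∈ S ∧ IsConj γ s} := fun g =>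
    ⟨_, g.2, isConj_iff.mpr ⟨(g : Γ)⁻¹, by rw [inv_inv]⟩⟩
  refine Nat.card_le_card_of_injective (fun g => (f g, ⟨g * c (f g), mem_centralizer_singleton_iff.mpr ?_⟩))
    fun g g' e => ?_
  · have : c (f g) * γ * (c (f g))⁻¹ = (g : Γ)⁻¹ * γ * g := hc (f g)
    rw [mul_assoc, eq_mul_of_mul_inv_eq this]; group
  · have e1 : f g = f g' := congrArg Prod.fst e
    have e2 : (g : Γ) * c (f g) = g' * c (f g') := congrArg (fun x => (x.2 : Γ)) e
    rw [← e1] at e2
    exact Subtype.ext (mul_right_cancel e2)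

/-- fixed points on an orbit from a count in the stabiliser -/
theorem fix_le [Finite Γ] (γ : Γ) (p : X) {k c m f : ℕ} (h1 : {s | s ∈ stabilizer Γ p ∧ IsConj γ s}.ncard ≤ k)
    (h2 : Nat.card (centralizer {γ}) ≤ c) (h3 : m ≤ Nat.card (stabilizer Γ p)) (h : k * c < m * (f + 1)) :
    (fixedBy X γ ∩ orbit Γ p).ncard ≤ f := by
  have := card_conj_le γ (stabilizer Γ p)
  rw [card_conj_eq] at this
  exact Nat.le_of_lt_succ (Nat.lt_of_mul_lt_mul_left
    (((Nat.mul_le_mul_right _ h3).trans (this.trans (Nat.mul_le_mul h1 h2))).trans_lt h))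

theorem fix_eq [Finite Γ] {Y : Type*} [MulAction Γ Y] (γ : Γ) {p : X} {q : Y} (h : stabilizer Γ p = stabilizer Γ q) :
    (fixedBy X γ ∩ orbit Γ p).ncard = (fixedBy Y γ ∩ orbit Γ q).ncard := by
  have h1 := card_conj_eq γ p
  rw [h, card_conj_eq] at h1
  exact (Nat.eq_of_mul_eq_mul_left Nat.card_pos h1).symm

theorem TabAct.fix_cnt (A : TabAct Γ X) (hf : A.Full) {w : List ℕ} {f : ℕ} (p : X)
    (H : (okW A.L w && Nat.ble (cntLt A.n fun y => Nat.beq (tr A.ap w y) y) f) = true) :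
    (fixedBy X (lprod A.e w) ∩ orbit Γ p).ncard ≤ f := by
  classical
  rw [Bool.and_eq_true, nble_iff, cntLt_eq] at H
  refine le_trans ?_ (Finset.card_image_le.trans H.2 : (Finset.image A.c _).card ≤ f)
  rw [← Set.ncard_coe_finset]
  refine Set.ncard_le_ncard (fun x hx => ?_) (Finset.finite_toSet _)
  obtain ⟨y, hy, rfl⟩ := hf x
  exact Finset.mem_coe.mpr (Finset.mem_image_of_mem _ (Finset.mem_filter.mpr
    ⟨Finset.mem_range.mpr hy, nbeq_iff.mpr ((A.fix_iff H.1 hy).mp hx.1)⟩))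

variable {G Y : Type*} [Group G] [MulAction G Y] {K : Subgroup G} {P : List (Y × ℕ)}

theorem DCov.exact' (h : DCov K P) (hc : (P.map (·.2)).sum ≤ Nat.card Y) {q : Y × ℕ} (hq : q ∈ P) :
    q.2 ≤ (orbit K q.1).ncard := by
  obtain ⟨s, t, rfl⟩ := List.append_of_mem hq
  have h' : DCov K (s ++ (q.1, (orbit K q.1).ncard) :: t) := ⟨fun r hr => by
    rcases List.mem_append.mp hr with a | a
    · exact h.1 r (by simp [a])
    · rcases List.mem_cons.mp a with rfl | a
      · exact ⟨(h.1 q hq).1, le_rfl⟩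
      · exact h.1 r (by simp [a]), fun x => by
    obtain ⟨r, hr, hx⟩ := h.2 x
    rcases List.mem_append.mp hr with a | a
    · exact ⟨r, by simp [a], hx⟩
    · rcases List.mem_cons.mp a with rfl | a
      · exact ⟨(r.1, _), List.mem_append_right _ List.mem_cons_self, hx⟩
      · exact ⟨r, by simp [a], hx⟩⟩
  have := h'.card_le
  simp only [List.map_append, List.map_cons, List.sum_append, List.sum_cons] at this hc
  omega

variable {φ : Γ →* G}

/-- a bound for the number of fixed points on an orbit -/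
def FixLe (φ : Γ →* G) (γ : Γ) (p : Y) (f : ℕ) : Prop := (fixedBy Y (φ γ) ∩ orbit φ.range p).ncard ≤ f

theorem stab_eq [Finite Γ] {p : Y} {T : Subgroup Γ} (h1 : ∀ γ ∈ T, φ γ • p = p) {b m : ℕ}
    (h2 : b ≤ (orbit φ.range p).ncard) (h3 : m ≤ Nat.card T) (h4 : Nat.card Γ ≤ b * m) :
    T = (stabilizer G p).comap φ ∧ Nat.card T ≤ m := by
  have e : T = (stabilizer G p).comap φ := by
    refine eq_of_le_of_card_ge h1 (Nat.le_of_mul_le_mul_left ?_
      (Nat.pos_of_ne_zero (index_ne_zero_of_finite (H := (stabilizer G p).comap φ))))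
    rw [index_mul_card, index_comap, relIndex_stabilizer]
    exact h4.trans (Nat.mul_le_mul h2 h3)
  refine ⟨e, Nat.le_of_mul_le_mul_left ?_ (Nat.pos_of_ne_zero (index_ne_zero_of_finite (H := T)))⟩
  rw [index_mul_card, e, index_comap, relIndex_stabilizer]
  exact h4.trans (Nat.mul_le_mul_right _ h2)

theorem FixLe.cnt [Finite Γ] {p : Y} {T : Subgroup Γ} (hT : T = (stabilizer G p).comap φ) {γ : Γ} {k c m f : ℕ}
    (h1 : {s | s ∈ T ∧ IsConj γ s}.ncard ≤ k) (h2 : Nat.card (centralizer {γ}) ≤ c) (h3 : m ≤ Nat.card T)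
    (h : k * c < m * (f + 1)) : FixLe φ γ p f := by
  subst hT
  let _ := MulAction.compHom Y φ
  have e : orbit φ.range p = orbit Γ p :=
    Set.ext fun _ => ⟨fun ⟨⟨_, g, rfl⟩, e⟩ => ⟨g, e⟩, fun ⟨g, e⟩ => ⟨⟨_, g, rfl⟩, e⟩⟩
  rw [FixLe, e]
  exact fix_le γ p h1 h2 h3 h

theorem FixLe.tab [Finite Γ] {p : Y} (A : TabAct Γ X) (hf : A.Full)
    (hT : stabilizer Γ (A.c 0) = (stabilizer G p).comap φ) {w : List ℕ} {f : ℕ}
    (H : (okW A.L w && Nat.ble (cntLt A.n fun y => Nat.beq (tr A.ap w y) y) f) = true) :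
    FixLe φ (lprod A.e w) p f := by
  let _ := MulAction.compHom Y φ
  have e : orbit φ.range p = orbit Γ p :=
    Set.ext fun _ => ⟨fun ⟨⟨_, g, rfl⟩, e⟩ => ⟨g, e⟩, fun ⟨g, e⟩ => ⟨⟨_, g, rfl⟩, e⟩⟩
  rw [FixLe, e]
  exact (fix_eq _ hT).ge.trans (A.fix_cnt hf _ H)

theorem FixLe.triv {P : List (Y × ℕ)} (h : DCov φ.range P) {q : Y × ℕ} (hq : q ∈ P) (γ : Γ) : FixLe φ γ q.1 q.2 :=
  (Set.ncard_le_ncard Set.inter_subset_right (h.1 q hq).1).trans (h.1 q hq).2

/-- the order of a centraliser from the fixed points on the orbits -/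
theorem DCov.cen_le [Finite G] (h : DCov φ.range P) (hφ : Function.Injective φ) {x0 : Y}
    (hx : stabilizer G x0 = φ.range) (γ : Γ) (fs : List ℕ) (hf : List.Forall₂ (fun q f => FixLe φ γ q.1 f) P fs)
    {c : ℕ} (hc : Nat.card (centralizer {γ}) ≤ c) : Nat.card (centralizer {φ γ}) ≤ fs.sum * c := by
  have h1 : (fixedBy Y (φ γ) ∩ {x | ∃ q ∈ P, x ∈ orbit φ.range q.1}).ncard ≤ fs.sum := by
    clear h
    induction hf with
    | nil => simp
    | @cons q f P fs a _ ih =>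
      have e1 : {x | ∃ r ∈ q :: P, x ∈ orbit φ.range r.1} =
          orbit φ.range q.1 ∪ {x | ∃ r ∈ P, x ∈ orbit φ.range r.1} := by
        ext x; simp
      rw [e1, Set.inter_union_distrib_left, List.sum_cons]
      exact (Set.ncard_union_le _ _).trans (Nat.add_le_add a ih)
  rw [h.univ, Set.inter_univ] at h1
  have := h.finite
  rw [card_eq_orbit_mul_inf _ x0, hx]
  refine Nat.mul_le_mul (le_trans (Set.ncard_le_ncard ?_) h1) (le_trans ?_ hc)
  · rintro _ ⟨⟨g, hg⟩, rfl⟩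
    show φ γ • g • x0 = g • x0
    rw [← mul_smul, ← mem_centralizer_singleton_iff.mp hg, mul_smul, (show φ γ • x0 = x0 from hx.ge ⟨γ, rfl⟩)]
  · rw [← card_map_of_injective hφ]
    have : Finite Γ := Finite.of_injective φ hφ
    refine card_le_of_le ?_
    rintro _ ⟨hg, δ, rfl⟩
    exact ⟨δ, mem_centralizer_singleton_iff.mpr (hφ (by
      rw [map_mul, map_mul]; exact mem_centralizer_singleton_iff.mp hg)), rfl⟩

end count

theorem top_le_sup {G : Type*} [Group G] {E : ℕ → G} {a : ℕ} (ht : cl E (a + 2) = ⊤) (h : E (a + 1) = (E a)⁻¹) :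
    ⊤ ≤ cl (cut a E) a ⊔ zpowers (E a) := by
  rw [← ht, cl_cut]
  refine cl_le.mpr fun l hl => ?_
  rcases (by omega : l < a ∨ l = a ∨ l = a + 1) with c | rfl | rfl
  · exact mem_sup_left (mem_cl c)
  · exact mem_sup_right (mem_zpowers _)
  · exact h ▸ mem_sup_right (inv_mem (mem_zpowers _))

theorem dvd_of_le_range {G T : Type*} [Group G] [Group T] (ψ : G →* T) {K : Subgroup T} (h : K ≤ ψ.range) {d : ℕ}
    (hd : d ∣ Nat.card K) : d ∣ Nat.card G := hd.trans ((card_dvd_of_le h).trans (card_range_dvd ψ))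

theorem card_of_cover {G S : Type*} [Group G] [Group S] {f : G →* S} (hf : Function.Surjective f) {z : G}
    (hk : f.ker = zpowers z) : Nat.card G = orderOf z * Nat.card S := by
  rw [← f.ker.card_mul_index, index_ker, MonoidHom.range_eq_top.mpr hf, card_top_eq, hk, Nat.card_zpowers]

theorem dce_fin {Γ Y G : Type*} [Group Γ] [MulAction Γ Y] [Group G] [Finite Γ] {A : TabAct Γ Y} {bs : List ℕ}
    (hb : A.Base ⊤ bs) (ht : A.seg 0 A.n ⊆ orbit (⊤ : Subgroup Γ) (A.c 0)) (hf : A.Full) {φ : Γ →* G}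
    {P : List ((G ⧸ φ.range) × ℕ)} (h : DCov φ.range P) {n c : ℕ} (hn : (P.map (·.2)).sum = n)
    (hc : Nat.card Γ ≤ c) (hd : n * c ∣ Nat.card G) (h1 : 1 < n)
    (hs : ∀ s ∈ subs (P.map (·.2)), s ∣ n → s = 1 ∨ s = n) {p : G ⧸ φ.range} (hp : (p, A.n) ∈ P)
    (h2 : ∀ γ ∈ stabilizer Γ (A.c 0), φ γ • p = p) :
    Finite G ∧ Nat.card G = n * c ∧ φ.range.index = n ∧ Nat.card φ.range = c ∧ Function.Injective φ ∧
      IsCoatom φ.range ∧ (∀ N : Subgroup G, N.Normal → N ≤ φ.range → N = ⊥) ∧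
      ∀ q ∈ P, ∀ (T : Subgroup Γ) (m : ℕ), (∀ γ ∈ T, φ γ • q.1 = q.1) → m ≤ Nat.card T → c ≤ q.2 * m →
        T = (stabilizer G q.1).comap φ ∧ Nat.card T ≤ m := by
  have a := Nat.card_le_card_of_surjective _ φ.rangeRestrict_surjective
  have : Finite φ.range := Finite.of_surjective _ φ.rangeRestrict_surjective
  obtain ⟨a1, a2, a3, a4⟩ := h.order hn ⟨Nat.card_pos.ne', a.trans hc⟩ hd
  refine ⟨a1, a2, a3, a4, φ.rangeRestrict_injective_iff.mp
    (φ.rangeRestrict_surjective.bijective_of_nat_card_le (hc.trans a4.ge)).1, h.coatom hn a3 h1 hs, ?_,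
    fun q hq T m b1 b2 b3 => stab_eq b1 (h.exact' (hn.trans a3.symm).le hq) b2 (hc.trans b3)⟩
  obtain ⟨g, rfl⟩ := exists_smul_eq G ((1 : G) : G ⧸ φ.range) p
  exact core_bot hb ht (fun γ => QuotientGroup.eq.mpr (by simp)) g h2 (h.exact' (hn.trans a3.symm).le hp) hf

/-- apply a map to the digits -/
noncomputable def mapT (n : ℕ) (f : ℕ → ℕ) (k : ℕ) : ℕ → ℕ :=
  Nat.rec (motive := fun _ => ℕ → ℕ) (fun _ => 0)
    (fun _ ih c => frcN (Nat.mod c n) fun y => Nat.add (f y) (Nat.mul n (frcN (Nat.div c n) ih))) k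

theorem vec_mapT {n : ℕ} {f : ℕ → ℕ} (hf : ∀ y < n, f y < n) (hn : 0 < n) (k : ℕ) :
    ∀ c, ∀ i < k, vec n (mapT n f k c) i = f (vec n c i) := by
  induction k with
  | zero => intro c i hi; omega
  | succ k ih =>
    intro c i hi
    have e : mapT n f (k + 1) c = f (c % n) + n * mapT n f k (c / n) := rfl
    have h1 := hf _ (Nat.mod_lt c hn)
    cases i with
    | zero => rw [vec_zero, vec_zero, e, Nat.add_mul_mod_self_left, Nat.mod_eq_of_lt h1]
    | succ i => rw [vec_succ, vec_succ, e, Nat.add_mul_div_left _ _ hn, Nat.div_eq_of_lt h1, Nat.zero_add,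
        ih _ i (by omega)]

theorem TabAct.count {G X : Type*} [Group G] [MulAction G X] [Finite G] (A : TabAct G X) {S : List (List ℕ)}
    {c0 k m K cnt : ℕ} {q : ℕ → Bool} {Q : G → Prop} {R : Subgroup G} (hR : gp A.e S ≤ R) (hm : Nat.card R ≤ m)
    (hq : ∀ g c, (∀ i < k, g⁻¹ • A.c (vec A.n c0 i) = A.c (vec A.n c i)) → Q g → q c = true)
    (H : (okS A.L S && Nat.blt 0 A.n && Nat.blt 0 k && Nat.blt m K &&
      orbSum (fun c => Nat.mod c A.n) (fun c => Bool.rec 1 (Nat.add K 1) (q c))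
        (S.map fun w c => frcN (mapT A.n (tr A.ap w) k c) id) (Nat.add m 1) c0
        fun _ s => Nat.beq s (Nat.add m (Nat.mul K cnt))) = true) : {g | g ∈ R ∧ Q g}.ncard ≤ cnt := by
  classical
  simp only [Bool.and_eq_true, Nat.blt_eq] at H
  obtain ⟨⟨⟨⟨h1, h2⟩, h3⟩, h4⟩, h5⟩ := H
  obtain ⟨L, U, -, hn, -, hP, -, hk⟩ := orbSum_list h5
    (fun c => ∃ g ∈ R, ∀ i < k, g⁻¹ • A.c (vec A.n c0 i) = A.c (vec A.n c i))
    ⟨1, one_mem _, by simp⟩ (by
      rintro c ⟨g, hg, e⟩ f hf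
      obtain ⟨w, hw, rfl⟩ := List.mem_map.mp hf
      have a := okS_iff.mp h1 w hw
      refine ⟨g * lprod A.e w, mul_mem hg (hR (mem_gp hw)), fun i hi => ?_⟩
      show _ = A.c (vec A.n (mapT A.n (tr A.ap w) k c) i)
      rw [vec_mapT (fun y hy => (A.tr_spec a hy).1) h2 k c i hi, mul_inv_rev, mul_smul, e i hi,
        (A.tr_spec a (vec_lt h2 _ _)).2])
  choose! g g1 g2 using hP
  have h6 : Set.InjOn g L.toFinset := fun a ha b hb e => by
    rw [List.coe_toFinset] at ha hb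
    have := A.inj _ (vec_lt h2 _ _) _ (vec_lt h2 _ _) ((g2 a ha 0 h3).symm.trans (e ▸ g2 b hb 0 h3))
    rw [vec_zero, vec_zero] at this
    exact List.inj_on_of_nodup_map hn ha hb this
  have h7 : (L.toFinset.image g : Set G) ⊆ R := fun x hx => by
    simp only [Finset.coe_image, List.coe_toFinset, Set.mem_image, Set.mem_ofPred_eq] at hx
    obtain ⟨c, hc, rfl⟩ := hx
    exact g1 c hc
  have h8 : (L.toFinset.image g : Set G).ncard = L.length := by
    rw [Set.ncard_coe_finset, Finset.card_image_of_injOn h6, List.toFinset_card_of_nodup (List.Nodup.of_map _ hn)]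
  have h9 : ∀ L : List ℕ, (L.map fun c => (Bool.rec 1 (Nat.add K 1) (q c) : ℕ)).sum =
      L.length + K * (L.filter q).length := fun L => by
    induction L with
    | nil => rfl
    | cons a L ih =>
      rw [List.map_cons, List.sum_cons, ih, List.filter_cons]
      cases q a <;> simp <;> ring
  have h10 : L.length + K * (L.filter q).length = m + K * cnt := (h9 L).symm.trans (nbeq_iff.mp hk)
  have h11 : L.length ≤ m := h8.ge.trans ((Set.ncard_le_ncard h7).trans hm)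
  have h12 : L.length = m := by
    have := congrArg (· % K) h10
    simpa [Nat.mod_eq_of_lt h4, Nat.mod_eq_of_lt (h11.trans_lt h4)] using this
  have h13 := Set.eq_of_subset_of_ncard_le h7 (hm.trans (h8.trans h12).ge)
  rw [h12] at h10
  rw [← Nat.eq_of_mul_eq_mul_left (by omega) (Nat.add_left_cancel h10)]
  refine le_trans ?_ (Finset.card_image_le.trans (List.toFinset_card_le _) :
    ((L.filter q).toFinset.image g).card ≤ _)
  rw [← Set.ncard_coe_finset]
  refine Set.ncard_le_ncard fun x hx => ?_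
  have := h13.ge hx.1
  simp only [Finset.coe_image, List.coe_toFinset, Set.mem_image, Set.mem_ofPred_eq, List.mem_filter] at this ⊢
  obtain ⟨c, hc, rfl⟩ := this
  exact ⟨c, ⟨hc, hq _ c (g2 c hc) hx.2⟩, rfl⟩

/-- finite sums -/
noncomputable def sumLt (m : ℕ) (f : ℕ → ℕ) : ℕ :=
  Nat.rec (motive := fun _ => ℕ) 0 (fun i ih => Nat.add ih (f i)) m

theorem sumLt_eq (m : ℕ) (f : ℕ → ℕ) : sumLt m f = ∑ i : Fin m, f i := by
  rw [Fin.sum_univ_eq_sum_range]
  induction m with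
  | zero => rfl
  | succ m ih => rw [Finset.sum_range_succ, ← ih]; rfl

namespace BM

variable (M : BM)

/-- an entry of a coded matrix -/
noncomputable def ent (c i j : ℕ) : ℕ :=
  Nat.mod (Nat.div c (Nat.pow M.p (Nat.add (Nat.mul M.m (Nat.add j 1)) i))) M.p

/-- the traces of a coded matrix and of its square -/
noncomputable def trq (a b c : ℕ) : Bool := frc c fun c =>
  Nat.beq (Nat.mod (sumLt M.m fun i => M.ent c i i) M.p) a &&
    Nat.beq (Nat.mod (sumLt M.m fun i => sumLt M.m fun j => Nat.mul (M.ent c i j) (M.ent c j i)) M.p) b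

variable {M}

theorem ent_eq (c : ℕ) (i j : Fin M.m) :
    M.v (vec (M.p ^ M.m) c (j + 1)) i = (M.ent c i j : ℕ) := by
  rw [v, ZMod.natCast_eq_natCast_iff']
  show _ = c / M.p ^ (M.m * (j + 1) + i) % M.p % M.p
  rw [vec, vec, ← pow_mul, pow_add, ← Nat.div_div_eq_div_mul, show M.p ^ M.m = M.p ^ (i : ℕ) * M.p ^ (M.m - i) by
    rw [← pow_add]; congr 1; omega, Nat.mod_mul_right_div_self, Nat.mod_mod_of_dvd _ (dvd_pow_self _ (by omega))]

theorem Ok.trq (h : M.Ok) {c0 : ℕ} (h0 : allLt M.m (fun j => Nat.beq (vec (M.p ^ M.m) c0 (j + 1)) (M.p ^ j)) = true)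
    {g : GL (Fin M.m) (ZMod M.p)} {c : ℕ}
    (hc : ∀ i < M.m + 1, g⁻¹ • M.v (vec (M.p ^ M.m) c0 i) = M.v (vec (M.p ^ M.m) c i)) {a b : ℕ}
    (ha : a < M.p) (hb : b < M.p) : M.trq a b c = true ↔
      (g⁻¹ : GL _ _).val.trace = a ∧ ((g⁻¹ : GL _ _).val * (g⁻¹ : GL _ _).val).trace = b := by
  have h1 : ∀ i j, (g⁻¹ : GL _ _).val i j = (M.ent c i j : ℕ) := fun i j => by
    have := congrFun (hc (j + 1) (by omega)) i
    rwa [nbeq_iff.mp (allLt_iff.mp h0 j j.2), v_pow h.hp, Units.smul_def, Matrix.smul_eq_mulVec,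
      Matrix.mulVec_single_one, ent_eq] at this
  have h2 : ∀ x y : ℕ, y < M.p → (Nat.mod x M.p = y ↔ (x : ZMod M.p) = y) := fun x y hy => by
    rw [ZMod.natCast_eq_natCast_iff', Nat.mod_eq_of_lt hy]; rfl
  simp only [BM.trq, frc_eq, Bool.and_eq_true, nbeq_iff, h2 _ _ ha, h2 _ _ hb, sumLt_eq, Matrix.trace, Matrix.diag,
    Matrix.mul_apply, h1, Nat.cast_sum, Nat.mul_eq, Nat.cast_mul]

/-- counting conjugates in a subgroup by traces -/
theorem Ok.count (h : M.Ok) {Γ : Type*} [Group Γ] (ψ : Γ →* GL (Fin M.m) (ZMod M.p)) (hψ : Function.Injective ψ)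
    {T : Subgroup Γ} {S : List (List ℕ)} (hT : gp M.e S ≤ T.map ψ) {γ : Γ} {w : List ℕ} (hw : ψ γ = lprod M.e w)
    {c0 m K cnt a b n : ℕ} (hn : M.p ^ M.m = n) (hm : Nat.card T ≤ m)
    (H : (allLt M.m (fun j => Nat.beq (vec n c0 (j + 1)) (M.p ^ j)) && okW M.L w && Nat.blt a M.p &&
      Nat.blt b M.p && M.trq a b (mapT n (tr M.ap w) (M.m + 1) c0)) = true)
    (H' : (okS M.L S && Nat.blt 0 n && Nat.blt 0 (M.m + 1) && Nat.blt m K &&
      orbSum (fun c => Nat.mod c n) (fun c => Bool.rec 1 (Nat.add K 1) (M.trq a b c))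
        (S.map fun w c => frcN (mapT n (tr M.ap w) (M.m + 1) c) id) (Nat.add m 1) c0
        fun _ s => Nat.beq s (Nat.add m (Nat.mul K cnt))) = true) : {s | s ∈ T ∧ IsConj γ s}.ncard ≤ cnt := by
  subst hn
  simp only [Bool.and_eq_true, Nat.blt_eq] at H
  obtain ⟨⟨⟨⟨h1, h2⟩, h3⟩, h4⟩, h5⟩ := H
  have : NeZero M.p := ⟨by omega⟩
  have hn : 0 < M.p ^ M.m := Nat.pow_pos (by omega)
  have h6 := (h.trq h1 (g := lprod M.e w) (fun i hi => by
    rw [vec_mapT (n := M.p ^ M.m) (f := tr M.ap w) (fun y hy => (h.tab.tr_spec h2 hy).1) hn _ _ i hi]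
    exact (h.tab.tr_spec h2 (vec_lt hn _ _)).2) h3 h4).mp h5
  refine le_trans ?_ (h.tab.count (Q := IsConj (lprod M.e w)) hT ((card_map_of_injective hψ).le.trans hm)
    (fun g c hc hg => (h.trq h1 hc h3 h4).mpr ?_) H')
  · rw [← Set.ncard_image_of_injective _ hψ]
    refine Set.ncard_le_ncard ?_
    rintro _ ⟨s, hs, rfl⟩
    exact ⟨⟨s, hs.1, rfl⟩, hw ▸ ψ.map_isConj hs.2⟩
  · obtain ⟨u, rfl⟩ := isConj_iff.mp hg
    rw [← Units.val_mul, conj_inv, conj_mul]
    simp only [Units.val_mul, Matrix.trace_units_conj]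
    exact h6

end BM

end Cfsg.Agent.H15
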