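import Mathlib
import Cfsg.Agent.H15.Big2

/-!
# Transport lemmas for presented groups with large matrix models
-/

set_option autoImplicit false

namespace Cfsg.Agent.H15

open Cfsg.Agent.H14 MulAction Subgroup

/-- some members of a list -/
def pick {α : Type} (l : List α) (is : List ℕ) : List α := is.filterMap (l[·]?)

theorem pick_mem {α : Type} {l : List α} {is : List ℕ} : ∀ r ∈ pick l is, r ∈ l := fun _ hr =>
  let ⟨_, _, e⟩ := List.mem_filterMap.mp hr
  List.mem_of_getElem? e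

theorem gp_idW {G : Type*} [Group G] (E : ℕ → G) (L : ℕ) : gp E (idW L) = cl E L := by
  rw [← cl_nth, idW_length]
  exact le_antisymm (cl_le.mpr fun l hl => by rw [nthW_idW hl, lprod_single]; exact mem_cl hl)
    (cl_le.mpr fun l hl => by
      have := mem_cl (e := fun i => lprod E (nthW (idW L) i)) hl
      rwa [nthW_idW hl, lprod_single] at this)

theorem TabAct.trans_orb {G X : Type*} [Group G] [MulAction G X] [Finite G] (A : TabAct G X) (hf : A.Full)
    (S : List (List ℕ)) (H : stepOk A.ap A.L A.n id S [] 0 A.n = true) :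
    A.seg 0 A.n ⊆ orbit (⊤ : Subgroup G) (A.c 0) := by
  simp only [stepOk, Bool.and_eq_true, Nat.blt_eq] at H
  have h := A.le_ncard_orbit H.1.1.1.2 (K := ⊤) le_top H.1.1.1.1 id H.2
  refine (Set.eq_of_subset_of_ncard_le (fun x _ => ?_) ?_ (A.seg_finite _ _)).ge
  · obtain ⟨y, hy, rfl⟩ := hf x
    exact ⟨y, ⟨Nat.zero_le _, hy⟩, rfl⟩
  · rwa [A.ncard_seg le_rfl]

namespace BM

variable {M : BM}

theorem Ok.le_map (h : M.Ok) {Γ : Type*} [Group Γ] (ψ : Γ →* GL (Fin M.m) (ZMod M.p)) {e : ℕ → Γ} {a : ℕ}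
    (hψ : ∀ l, ψ (e l) = cut a M.e l) {S T : List (List ℕ)}
    (H : allL S (fun s => anyL T fun w => okW a w && eqOn M.ap M.L M.bs s w) = true) :
    gp M.e S ≤ (gp e T).map ψ := gp_le.mpr fun s hs => by
  obtain ⟨w, hw, c⟩ := anyL_iff.mp (allL_iff.mp H s hs)
  rw [Bool.and_eq_true] at c
  exact ⟨_, mem_gp hw, by rw [map_lprod, funext hψ, lprod_cut c.1]; exact (h.base.eq c.2).symm⟩

theorem Ok.chev (h : M.Ok) [Fact M.p.Prime] (D : Lie.ChevalleyDatum) (σ : D.Idx ≃ Fin M.m) (s : ℕ)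
    (H : ∀ r : Fin D.nroots, ∀ i < M.p, s + (M.p * r + i) < M.L ∧
      (M.mat (M.cs (s + (M.p * r + i)))).submatrix σ σ = D.xMat (ZMod M.p) r i)
    {K : Subgroup (GL (Fin M.m) (ZMod M.p))} (hK : ∀ l, M.e l ∈ K) :
    ∃ f : D.group (ZMod M.p) →* GL (Fin M.m) (ZMod M.p), Function.Injective f ∧ f.range ≤ K := by
  let u := Units.mapEquiv (Matrix.reindexAlgEquiv (ZMod M.p) (ZMod M.p) σ).toMulEquiv
  refine ⟨u.toMonoidHom.comp (D.group _).subtype, u.injective.comp Subtype.val_injective, ?_⟩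
  rw [MonoidHom.range_comp, range_subtype, map_le_iff_le_comap]
  refine (closure_le _).mpr ?_
  rintro g ⟨r, t, e⟩
  obtain ⟨a, b⟩ := H r t.val (ZMod.val_lt t)
  rw [ZMod.natCast_zmod_val, ← e, ← h.e_inv a] at b
  have : u g = (M.e (s + (M.p * r + t.val)))⁻¹ := Units.ext (by
    show Matrix.reindex σ σ g.val = _
    rw [← b]; simp)
  exact (this ▸ inv_mem (hK _) : u g ∈ K)

theorem Ok.range (h : M.Ok) {G : Type*} [Group G] (ψ : G →* GL (Fin M.m) (ZMod M.p)) {E : ℕ → G} {a : ℕ}
    (hψ : ∀ l, ψ (E l) = cut a M.e l) (H : allLt M.L (fun l => Nat.blt l a || okW l (M.iw l)) = true) (l : ℕ) :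
    M.e l ∈ ψ.range := h.mem (K := ψ.range) (fun k hk => ⟨E k, (hψ k).trans (cut_lt hk)⟩) H l

theorem Ok.ne (h : M.Ok) {a x : ℕ} {w : List ℕ}
    (H : (okW a w && okW M.L w && Nat.blt x M.m && !Nat.beq (tr M.ap w (M.p ^ x)) (M.p ^ x)) = true) :
    lprod (cut a M.e) w ≠ 1 := by
  simp only [Bool.and_eq_true, Nat.blt_eq, Bool.not_eq_true', nbeq_false] at H
  rw [lprod_cut H.1.1.1]
  exact fun c => H.2 ((h.tab.fix_iff H.1.1.2 (Nat.pow_lt_pow_right h.hp H.1.2)).mp (by
    rw [show lprod h.tab.e w = 1 from c, one_smul]))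

end BM

theorem iso_of_le_range {Γ S T : Type*} [Group Γ] [Group S] [Group T] [Finite Γ] (ψ : Γ →* T) {f : S →* T}
    (hf : Function.Injective f) (h : f.range ≤ ψ.range) (hc : Nat.card Γ ≤ Nat.card S) : Nonempty (Γ ≃* S) := by
  have a := Nat.card_le_card_of_surjective _ ψ.rangeRestrict_surjective
  have : Finite ψ.range := Finite.of_surjective _ ψ.rangeRestrict_surjective
  have b := Nat.card_congr (MonoidHom.ofInjective hf).toEquiv
  have c := eq_of_le_of_card_ge h (by omega)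
  exact ⟨((MulEquiv.ofBijective _ (ψ.rangeRestrict_surjective.bijective_of_nat_card_le (by rw [← c]; omega))).trans
    (MulEquiv.subgroupCongr c.symm)).trans (MonoidHom.ofInjective hf).symm⟩

theorem kill_simple {Γ : Type*} [Group Γ] [IsSimpleGroup Γ] {γ : Γ} (h : γ ≠ 1) (N : Subgroup Γ) (hN : N.Normal)
    (hγ : γ ∈ N) : N = ⊤ :=
  (IsSimpleGroup.eq_bot_or_eq_top_of_normal N hN).resolve_left fun e => h (e.le hγ)

section cover

variable {G K S : Type*} [Group G] [Group K] [Group S]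

/-- centralisers correspond under isomorphisms -/
noncomputable def cenEquiv (e : G ≃* K) (g : G) : centralizer {e g} ≃* centralizer {g} :=
  (MulEquiv.subgroupCongr (by
    ext x
    obtain ⟨x, rfl⟩ := e.surjective x
    rw [← MonoidHom.coe_coe e, mem_map_iff_mem e.injective, MonoidHom.coe_coe, mem_centralizer_singleton_iff, mem_centralizer_singleton_iff,
      ← map_mul, ← map_mul, e.apply_eq_iff_eq])).trans (e.subgroupMap (centralizer {g})).symm

theorem cover_center (e : G ≃* K) {z : K} (hz : z ∈ center K) {f : K →* S} (hf : Function.Surjective f)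
    (hk : f.ker = zpowers z) (hS : center S = ⊥) :
    Nat.card (center G) = orderOf z ∧ Nonempty (G ⧸ center G ≃* S) ∧ e.symm z ∈ center G := by
  have h1 : (f.comp e.toMonoidHom).ker = center G := by
    refine le_antisymm (fun g hg => mem_center_iff.mpr fun x => e.injective ?_) fun g hg => ?_
    · rw [map_mul, map_mul]; exact mem_center_iff.mp (zpowers_le.mpr hz (hk.le hg)) _
    · refine (hS.le (mem_center_iff.mpr fun s => ?_) : f (e g) ∈ ⊥)
      obtain ⟨x, rfl⟩ := (hf.comp e.surjective) s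
      simp only [Function.comp, ← map_mul, mem_center_iff.mp hg x]
  refine ⟨?_, ⟨(QuotientGroup.quotientMulEquivOfEq h1.symm).trans
    (QuotientGroup.quotientKerEquivOfSurjective _ (hf.comp e.surjective))⟩, h1.le ?_⟩
  · rw [← h1, ← MonoidHom.comap_ker, hk, ← Nat.card_zpowers, comap_equiv_eq_map_symm']
    exact card_map_of_injective e.symm.injective
  · show f (e (e.symm z)) = 1
    rw [e.apply_symm_apply]; exact hk.ge (mem_zpowers z)

theorem nonsplit_sq (e : G ≃* K) {y : K} (hz : y ^ 2 ∈ center K) (ho : orderOf (y ^ 2) = 2) {f : K →* S}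
    (hf : Function.Surjective f) (hk : f.ker = zpowers (y ^ 2)) (hS : center S = ⊥) : IsNonsplitDoubleCover G S := by
  obtain ⟨a, b, c⟩ := cover_center e hz hf hk hS
  refine ⟨a.trans ho, b, fun L hL => ?_⟩
  have h1 : e.symm (y ^ 2) = 1 := by
    refine mem_bot.mp (hL.disjoint.le_bot ⟨c, ?_⟩)
    rw [map_pow]; exact sq_mem_of_index_two (hL.index_eq_card.trans (a.trans ho)) _
  rw [e.symm.map_eq_one_iff.mp h1, orderOf_one] at ho
  omega

end cover

theorem own_pack {T X : Type} [Group T] [MulAction T X] {A : TabAct T X} {inv : ℕ → ℕ} {B : List (List ℕ × ℕ)}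
    (h : Sat A.e inv B) (hB : allL B (fun p => okW A.L p.1) = true) {K : Subgroup T} (hK : cl A.e A.L = K) :
    ∃ e : ℕ → K, cl e A.L = ⊤ ∧ Sat e inv B := by
  subst hK
  exact ⟨_, cl_subE _ _, TabAct.own_sat h hB⟩

theorem center_alt {n : ℕ} (h : 5 ≤ n) : IsSimpleGroup (alternatingGroup (Fin n)) ∧
    center (alternatingGroup (Fin n)) = ⊥ :=
  ⟨alternatingGroup.isSimpleGroup (by simpa using h), alternatingGroup.center_eq_bot (by simp; omega)⟩

end Cfsg.Agent.H15
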