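import Mathlib
import Cfsg.Agent.H15.Big3

/-!
# Simplicity and injectivity from a core-free maximal subgroup
-/

set_option autoImplicit false

namespace Cfsg.Agent.H15

open Cfsg.Agent.H14 MulAction Subgroup

theorem card_alt {n m : ℕ} (h : 1 < n) (hm : n.factorial = 2 * m) : Nat.card (alternatingGroup (Fin n)) = m := by
  have : Nontrivial (Fin n) := Fin.nontrivial_iff_two_le.mpr h
  have := two_mul_nat_card_alternatingGroup (α := Fin n)
  rw [Nat.card_perm, Nat.card_eq_fintype_card (α := Fin n), Fintype.card_fin] at this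
  omega

theorem top_of_inv {G : Type*} [Group G] {E : ℕ → G} {inv : ℕ → ℕ} (hi : ∀ l, E (inv l) = (E l)⁻¹) {L : ℕ}
    (ht : cl E L = ⊤) {ws : List (List ℕ)} (H : allLt L (fun l => memW ws [l] || memW ws [inv l]) = true) :
    gp E ws = ⊤ := top_le_iff.mp (ht.ge.trans (cl_le.mpr fun l hl => by
  rcases Bool.or_eq_true_iff.mp (allLt_iff.mp H l hl) with h | h <;> have := mem_gp (E := E) (memW_true h)
  · rwa [lprod_single] at this
  · rwa [lprod_single, hi, Subgroup.inv_mem_iff] at this))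

theorem inj_of_coatom {G T : Type*} [Group G] [Group T] {H : Subgroup G} (hH : IsCoatom H)
    (hc : ∀ N : Subgroup G, N.Normal → N ≤ H → N = ⊥) (ψ : G →* T) {d : ℕ} (h1 : d ∣ Nat.card ψ.range)
    (h2 : ¬ d ∣ Nat.card H) : Function.Injective ψ := by
  refine (MonoidHom.ker_eq_bot_iff ψ).mp (hc _ inferInstance (by_contra fun h => h2 (h1.trans ?_)))
  have h3 : H ⊔ ψ.ker = ⊤ := hH.2 _ (lt_of_le_of_ne le_sup_left fun e => h (e ▸ le_sup_right))
  rw [← index_ker, ← relIndex_top_right, ← h3, relIndex_sup_right]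
  exact index_dvd_card _

theorem simple_dce' {G Γ T : Type*} [Group G] [Finite G] [Group Γ] [IsSimpleGroup Γ] [Group T] {φ : Γ →* G}
    (hH : IsCoatom φ.range) (hcore : ∀ N : Subgroup G, N.Normal → N ≤ φ.range → N = ⊥) {ψ : G →* T}
    (hψ : Function.Injective ψ) {g : T} (hg : g ∈ ψ.range) {q c m k : ℕ} (h0 : g ^ q = 1)
    (hc : Nat.card φ.range = c) (hq : Nat.Coprime c q) (h1 : 1 < c) (γ : Γ) (h2 : (g * ψ (φ γ)) ^ m = 1)
    (h3 : γ ^ k = 1) (h4 : Nat.Coprime m k) (h5 : γ ≠ 1) : IsSimpleGroup G := by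
  obtain ⟨g, rfl⟩ := hg
  exact simple_dce hH hcore (g := g) (hψ (by rw [map_pow, h0, map_one])) hc hq h1 1 γ
    (hψ (by rw [map_pow, inv_one, one_mul, mul_one, map_mul, h2, map_one])) h3 h4 (kill_simple h5)

end Cfsg.Agent.H15
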