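import Mathlib
import Cfsg.Agent.H15.Big4

/-!
# Centraliser bounds and covers inside a matrix model
-/

set_option autoImplicit false

namespace Cfsg.Agent.H15

open Cfsg.Agent.H14 MulAction Subgroup

theorem TabAct.ex_step' {G X : Type*} [Group G] [MulAction G X] {A : TabAct G X} [Finite G] {S R : List (List ℕ)}
    {b k m : ℕ} {hs : ℕ → ℕ} {K : Subgroup G} (hK : Nat.card K ≤ k * m) (hle : gp A.e (S ++ R) ≤ K)
    (hc : stepOk A.ap A.L A.n hs S R b k = true) (h0 : 0 < k) (hm : m ≤ Nat.card (gp A.e R)) :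
    K ⊓ stabilizer G (A.c b) = gp A.e R ∧ Nat.card (gp A.e R) ≤ m := by
  simp only [stepOk, Bool.and_eq_true, Nat.blt_eq] at hc
  obtain ⟨⟨⟨⟨h1, h2⟩, h3⟩, h4⟩, h5⟩ := hc
  have a := A.le_ncard_orbit h2 (K := K) ((gp_le.mpr fun w hw => mem_gp (by simp [hw])).trans hle) h1 hs h5
  have c : gp A.e R ≤ K ⊓ stabilizer G (A.c b) :=
    le_inf ((gp_le.mpr fun w hw => mem_gp (by simp [hw])).trans hle) (A.gp_le_stabilizer h3 h1 h4)
  rw [card_eq_orbit_mul_inf _ (A.c b)] at hK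
  have d := Nat.le_of_mul_le_mul_left ((Nat.mul_le_mul_right _ a).trans hK) h0
  exact ⟨(eq_of_le_of_card_ge c (d.trans hm)).symm, (card_le_of_le c).trans d⟩

theorem gp_le_idW {G : Type*} [Group G] {E : ℕ → G} {L : ℕ} {S : List (List ℕ)} (h : okS L S = true) :
    gp E S ≤ gp E (idW L) := gp_idW E L ▸ gp_le_cl h

section

variable {Γ T : Type*} [Group Γ] [Group T]

theorem cen_le_of_map [Finite T] {ψ : Γ →* T} (hψ : Function.Injective ψ) {R : Subgroup T} (hR : ψ.range ≤ R)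
    {γ : Γ} {t : T} (e : ψ γ = t) {c : ℕ} (h : Nat.card ↥(R ⊓ centralizer {t}) ≤ c) :
    Nat.card (centralizer {γ}) ≤ c := by
  rw [← card_map_of_injective hψ]
  refine (card_le_of_le ?_).trans h
  rintro _ ⟨g, hg, rfl⟩
  exact ⟨hR ⟨g, rfl⟩, mem_centralizer_singleton_iff.mpr (by
    rw [← e, ← map_mul, ← map_mul, mem_centralizer_singleton_iff.mp hg])⟩

theorem le_cen_of_center {K : Subgroup T} {z : K} (hz : z ∈ center K) {t : T} (e : (z : T) = t) :
    K ≤ centralizer {t} := fun g hg =>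
  mem_centralizer_singleton_iff.mpr (e ▸ congrArg Subtype.val (mem_center_iff.mp hz ⟨g, hg⟩))

theorem orderOf_of_map {K : Subgroup T} {z : K} (ψ : Γ →* T) {γ : Γ} (e : (z : T) = ψ γ) {p : ℕ} [Fact p.Prime]
    (h1 : γ ^ p = 1) (h2 : ψ γ ≠ 1) : orderOf z = p ∧ orderOf γ = p :=
  ⟨by rw [← orderOf_coe, e]; exact orderOf_eq_prime (by rw [← map_pow, h1, map_one]) h2,
    orderOf_eq_prime h1 fun c => h2 (by rw [c, map_one])⟩

theorem TabAct.own_xw {T X : Type} [Group T] [MulAction T X] {A : TabAct T X} {bs : List ℕ} (hb : A.Base ⊤ bs)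
    {σ : List (List ℕ)} (hσ : okS A.L σ = true) {z w : List ℕ} (h1 : okW σ.length z = true)
    (h2 : eqOn A.ap A.L bs (xw σ z) w = true) :
    ((lprod (A.comp σ hσ).own.e z : cl (A.comp σ hσ).e (A.comp σ hσ).L) : T) = lprod A.e w :=
  (TabAct.own_coe h1).trans ((lprod_subst _ _).symm.trans (hb.eq h2))

theorem TabAct.comp_le {T X : Type} [Group T] [MulAction T X] {A : TabAct T X} {σ : List (List ℕ)}
    (hσ : okS A.L σ = true) {K : Subgroup T} (h : ∀ l, A.e l ∈ K) : cl (A.comp σ hσ).e (A.comp σ hσ).L ≤ K :=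
  cl_le.mpr fun _ _ => lprod_mem fun a _ => h a

theorem map_cut {G : Type*} [Group G] {φ : Γ →* G} {ψ : G →* T} {e : ℕ → Γ} {E : ℕ → G} {e' : ℕ → T} {a b : ℕ}
    (h1 : ∀ l, φ (e l) = cut a E l) (h2 : ∀ l, ψ (E l) = cut b e' l) (hab : a ≤ b) {w : List ℕ}
    (hw : okW a w = true) : ψ (φ (lprod e w)) = lprod e' w := by
  rw [map_lprod, map_lprod]
  exact lprod_congr fun l hl => by
    rw [h1, cut_lt (okW_iff.mp hw l hl), h2, cut_lt ((okW_iff.mp hw l hl).trans_le hab)]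

theorem dvd_one_gp {G : Type*} [Group G] {E : ℕ → G} : 1 ∣ Nat.card (gp E []) := one_dvd _

end

theorem DHyp.Live.le {Γ Y : Type*} [Group Γ] [MulAction Γ Y] {P : DP} {A : TabAct Γ Y} {N c : ℕ} {live : List ℕ}
    {d : DL} (h : DHyp.Live (P := P) (A := A) N c live d) : c ≤ d.b * d.m := by
  have := h.2.1
  simp only [Bool.and_eq_true, nble_iff] at this
  exact this.1.2

end Cfsg.Agent.H15
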