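import Mathlib
import Cfsg.Agent.H15.Big5

/-!
# Matrices over prime fields acting on packed vectors by one multiplication
-/

set_option autoImplicit false

namespace Cfsg.Agent.H15

open Cfsg.Agent.H14 MulAction Matrix Subgroup

/-- the number with given digits -/
def ofD (Y : ℕ) (a : ℕ → ℕ) (m : ℕ) : ℕ := ∑ i ∈ Finset.range m, a i * Y ^ i

theorem ofD_succ (Y : ℕ) (a : ℕ → ℕ) (m : ℕ) : ofD Y a (m + 1) = a 0 + Y * ofD Y (fun i => a (i + 1)) m := by
  rw [ofD, Finset.sum_range_succ', ofD, Finset.mul_sum, pow_zero, mul_one, add_comm]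
  congr 1
  exact Finset.sum_congr rfl fun i _ => by ring

theorem ofD_spec {Y : ℕ} (m : ℕ) : ∀ {a : ℕ → ℕ}, (∀ i < m, a i < Y) →
    ofD Y a m < Y ^ m ∧ ∀ i < m, vec Y (ofD Y a m) i = a i := by
  induction m with
  | zero => intro a _; simp [ofD]
  | succ m ih =>
    intro a h
    obtain ⟨h1, h2⟩ := ih (a := fun i => a (i + 1)) fun i hi => h _ (by omega)
    have h0 := h 0 (by omega)
    rw [ofD_succ]
    refine ⟨by rw [pow_succ']; nlinarith, fun i hi => ?_⟩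
    cases i with
    | zero => rw [vec_zero, Nat.add_mul_mod_self_left, Nat.mod_eq_of_lt h0]
    | succ i => rw [vec_succ, Nat.add_mul_div_left _ _ (by omega), Nat.div_eq_of_lt h0, Nat.zero_add, h2 i (by omega)]

theorem ofD_congr {Y m : ℕ} {a b : ℕ → ℕ} (h : ∀ i < m, a i = b i) : ofD Y a m = ofD Y b m :=
  Finset.sum_congr rfl fun i hi => by rw [h i (Finset.mem_range.mp hi)]

theorem ofD_vec {Y m x : ℕ} (h : x < Y ^ m) (hY : 0 < Y) : ofD Y (vec Y x) m = x :=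
  have a := ofD_spec (Y := Y) m (a := vec Y x) fun _ _ => vec_lt hY _ _
  vec_inj m a.1 h a.2

theorem vec_ge {Y m x i : ℕ} (h : x < Y ^ m) (hi : m ≤ i) : vec Y x i = 0 := by
  rcases Nat.eq_zero_or_pos Y with rfl | hY
  · rcases Nat.eq_zero_or_pos m with rfl | hm
    · rw [show x = 0 by simpa using h, vec_nil]
    · rw [zero_pow hm.ne'] at h; omega
  · rw [vec, Nat.div_eq_of_lt (h.trans_le (Nat.pow_le_pow_right hY hi)), Nat.zero_mod]

/-- masking the low digits of all slots -/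
theorem land_ofD {y w : ℕ} (hw : w ≤ y) (m : ℕ) : ∀ Z : ℕ,
    Z &&& ofD (2 ^ y) (fun _ => 2 ^ w - 1) m = ofD (2 ^ y) (fun i => Z / (2 ^ y) ^ i % 2 ^ w) m := by
  induction m with
  | zero => intro Z; simp [ofD]
  | succ m ih =>
    intro Z
    have h1 : 2 ^ w - 1 < 2 ^ y := lt_of_lt_of_le (Nat.sub_lt (by positivity) Nat.one_pos) (Nat.pow_le_pow_right (by norm_num) hw)
    rw [ofD_succ, ofD_succ, ← Nat.mod_add_div (Z &&& _) (2 ^ y), Nat.and_mod_two_pow, Nat.and_div_two_pow,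
      Nat.add_mul_mod_self_left, Nat.mod_eq_of_lt h1, Nat.add_mul_div_left _ _ (by positivity), Nat.div_eq_of_lt h1,
      Nat.zero_add, ih, Nat.and_two_pow_sub_one_eq_mod, Nat.mod_mod_of_dvd _ (pow_dvd_pow 2 hw), pow_zero, Nat.div_one]
    simp only [Nat.div_div_eq_div_mul, pow_succ']

theorem ofD_mod {Y B m : ℕ} {a : ℕ → ℕ} (hB : B ≤ Y) (h : ofD B a m < Y - B) : ofD Y a m % (Y - B) = ofD B a m := by
  rw [← Nat.mod_eq_of_lt h]
  refine (Nat.ModEq.sum fun i _ => Nat.ModEq.mul_left _ (Nat.ModEq.pow _ ?_))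
  exact ((Nat.modEq_iff_dvd' hB).mpr dvd_rfl).symm

theorem vec_shift {B : ℕ} (hB : 0 < B) (C n k : ℕ) : vec B (B ^ n * C) k = if n ≤ k then vec B C (k - n) else 0 := by
  split_ifs with h
  · obtain ⟨j, rfl⟩ := Nat.exists_eq_add_of_le h
    rw [vec, vec, pow_add, Nat.mul_div_mul_left _ _ (by positivity), Nat.add_sub_cancel_left]
  · obtain ⟨j, rfl⟩ := Nat.exists_eq_add_of_lt (not_le.mp h)
    rw [vec, add_assoc, pow_add, mul_assoc, Nat.mul_div_cancel_left _ (by positivity), pow_succ', mul_assoc,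
      Nat.mul_mod_right]

/-- the digits of a product without carries -/
theorem vec_mul {B q C : ℕ} (hC : ∀ i, vec B C i ≤ q) {a : ℕ → ℕ} (n : ℕ) (ha : ∀ i < n, a i ≤ q) (h : n * (q * q) < B)
    (k : ℕ) : vec B (ofD B a n * C) k = ∑ j ∈ Finset.range n, a j * (if j ≤ k then vec B C (k - j) else 0) ∧
      vec B (ofD B a n * C) k ≤ n * (q * q) := by
  induction n generalizing k with
  | zero => simp [ofD, vec_nil]
  | succ n ih =>
    have h1 := ih (fun i hi => ha i (by omega)) (by rw [Nat.succ_mul] at h; omega)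
    have h2 : ∀ j, a n * vec B (B ^ n * C) j ≤ q * q := fun j => Nat.mul_le_mul (ha n (by omega)) (by
      rw [vec_shift (by omega)]; split_ifs; exacts [hC _, Nat.zero_le _])
    rw [ofD, Finset.sum_range_succ, ← ofD, add_mul, mul_assoc, vec_add k fun j => by
      have := (h1 j).2; have := h2 j; rw [Nat.succ_mul] at h; omega]
    refine ⟨by rw [(h1 k).1, Finset.sum_range_succ, vec_shift (by omega)], ?_⟩
    have := (h1 k).2; have := h2 k
    rw [Nat.succ_mul]; omega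

/-- vectors together with unused codes -/
def JX (V : Type) : Type := V ⊕ ℕ

instance JX.act {T V : Type} [Group T] [MulAction T V] : MulAction T (JX V) where
  smul g := Sum.map (g • ·) id
  one_smul := by rintro (x | x); exacts [congrArg Sum.inl (one_smul T x), rfl]
  mul_smul := by rintro a b (x | x); exacts [congrArg Sum.inl (mul_smul a b x), rfl]

/-- a family of packed matrices: slots of `w` bits, reduction by the multiplier `M` and the shift `k`, and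
precomputed constants -/
structure FM where
  p : ℕ
  w : ℕ
  m : ℕ
  L : ℕ
  cs : ℕ → ℕ
  iw : ℕ → List ℕ
  M : ℕ
  k : ℕ
  e : ℕ
  sh : ℕ
  K : ℕ
  YB : ℕ
  LO : ℕ
  D : ℕ
  LO2 : ℕ
  D2 : ℕ

namespace FM

variable (F : FM)

/-- the digits are reduced -/
noncomputable def okb (LO D x : ℕ) : Bool :=
  Nat.beq (Nat.land x LO) x && frc (Nat.add x D) fun y => Nat.beq (Nat.land y LO) y

/-- reduce and compress the slots -/
noncomputable def red (Q : ℕ) : ℕ :=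
  Nat.mod (Nat.sub Q (Nat.mul (Nat.land (Nat.shiftRight (Nat.mul Q F.M) F.k) F.K) F.p)) F.YB

/-- the product of a matrix and a vector -/
noncomputable def fast (C x : ℕ) : ℕ := F.red (Nat.land (Nat.shiftRight (Nat.mul x C) F.sh) F.K)

/-- the table -/
noncomputable def ap (x l : ℕ) : ℕ := Bool.rec x (F.fast (F.cs l) x) (okb F.LO F.D x)

/-- reduced codes -/
def Sm (n x : ℕ) : Prop := x < (2 ^ F.w) ^ n ∧ ∀ i < n, vec (2 ^ F.w) x i < F.p

/-- the vector with a given code -/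
def v (x : ℕ) : Fin F.m → ZMod F.p := fun i => (vec (2 ^ F.w) x i : ℕ)

/-- the matrix with a given code -/
def mat (C : ℕ) : Matrix (Fin F.m) (Fin F.m) (ZMod F.p) :=
  Matrix.of fun i j => (vec (2 ^ F.w) C (F.m * i + (F.m - 1 - j)) : ℕ)

/-- the basis -/
noncomputable def bs : List ℕ := (List.range F.m).map fun j => Nat.shiftLeft 1 (Nat.mul F.w j)

/-- the check for one letter -/
noncomputable def okL (l : ℕ) : Bool := okb F.LO2 F.D2 (F.cs l) && eqOn F.ap F.L F.bs (l :: F.iw l) []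

/-- a repeated digit -/
noncomputable def rep (c y m : ℕ) : ℕ :=
  Nat.rec (motive := fun _ => ℕ) 0 (fun _ ih => frcN ih fun r => Nat.add c (Nat.shiftLeft r y)) m

theorem rep_eq (c y m : ℕ) : rep c y m = ofD (2 ^ y) (fun _ => c) m := by
  induction m with
  | zero => rfl
  | succ m ih => rw [ofD_succ, ← ih, mul_comm, ← Nat.shiftLeft_eq]; rfl

/-- the constants are right -/
noncomputable def okC : Bool :=
  Nat.blt 1 F.p && Nat.blt 1 F.m && Nat.blt (F.m * ((F.p - 1) * (F.p - 1))) (2 ^ F.w) && Nat.ble F.p (2 ^ F.e) &&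
    Nat.blt F.e F.w && Nat.ble (F.k + F.w) (F.w * F.m) && Nat.blt (2 ^ F.w * F.M) (2 ^ (F.w * F.m)) &&
    Nat.beq F.sh (F.w * (F.m - 1)) && Nat.beq F.K (rep (2 ^ F.w - 1) (F.w * F.m) F.m) &&
    Nat.beq F.YB (2 ^ (F.w * F.m) - 2 ^ F.w) && Nat.blt (rep (F.p - 1) F.w F.m) F.YB &&
    Nat.beq F.LO (rep (2 ^ F.e - 1) F.w F.m) && Nat.beq F.D (rep (2 ^ F.e - F.p) F.w F.m) &&
    Nat.beq F.LO2 (rep (rep (2 ^ F.e - 1) F.w F.m) (F.w * F.m) F.m) &&
    Nat.beq F.D2 (rep (rep (2 ^ F.e - F.p) F.w F.m) (F.w * F.m) F.m) &&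
    allLt (2 ^ F.w) fun d => Nat.beq (Nat.shiftRight (Nat.mul d F.M) F.k) (Nat.div d F.p)

theorem rep_rep (c w m n : ℕ) : rep (rep c w m) (w * m) n = ofD (2 ^ w) (fun _ => c) (m * n) := by
  rw [rep_eq, rep_eq]
  induction n with
  | zero => rfl
  | succ n ih =>
    rw [ofD_succ, ih, Nat.mul_succ, add_comm (m * n)]
    simp only [ofD, Finset.sum_range_add, Finset.mul_sum, pow_add, pow_mul]
    congr 1
    exact Finset.sum_congr rfl fun i _ => by ring

theorem lo_iff {w e n Z : ℕ} (h : e ≤ w) : Z &&& ofD (2 ^ w) (fun _ => 2 ^ e - 1) n = Z ↔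
    Z < (2 ^ w) ^ n ∧ ∀ i < n, vec (2 ^ w) Z i < 2 ^ e := by
  rw [land_ofD h]
  refine ⟨fun a => ?_, fun a => (ofD_congr fun i hi => ?_).trans (ofD_vec a.1 (by positivity))⟩
  · have b := ofD_spec (Y := 2 ^ w) n (a := fun i => Z / (2 ^ w) ^ i % 2 ^ e) fun i _ =>
      (Nat.mod_lt _ (by positivity)).trans_le (Nat.pow_le_pow_right (by norm_num) h)
    rw [a] at b
    exact ⟨b.1, fun i hi => b.2 i hi ▸ Nat.mod_lt _ (by positivity)⟩
  · rw [← Nat.mod_mod_of_dvd _ (pow_dvd_pow 2 h)]; exact Nat.mod_eq_of_lt (a.2 i hi)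

variable {F}

theorem okb_iff {n x : ℕ} (h1 : F.p ≤ 2 ^ F.e) (h2 : F.e < F.w) :
    okb (ofD (2 ^ F.w) (fun _ => 2 ^ F.e - 1) n) (ofD (2 ^ F.w) (fun _ => 2 ^ F.e - F.p) n) x = true ↔ F.Sm n x := by
  simp only [okb, Bool.and_eq_true, nbeq_iff, frc_eq, Nat.land_eq, Nat.add_eq, lo_iff h2.le]
  have h3 : 2 ^ F.e * 2 ≤ 2 ^ F.w := pow_succ 2 F.e ▸ Nat.pow_le_pow_right (by norm_num) h2
  have key : x < (2 ^ F.w) ^ n → (∀ i < n, vec (2 ^ F.w) x i < 2 ^ F.e) →
      x + ofD (2 ^ F.w) (fun _ => 2 ^ F.e - F.p) n < (2 ^ F.w) ^ n ∧ ∀ i < n,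
        vec (2 ^ F.w) (x + ofD (2 ^ F.w) (fun _ => 2 ^ F.e - F.p) n) i = vec (2 ^ F.w) x i + (2 ^ F.e - F.p) := by
    intro a b
    have := ofD_spec (Y := 2 ^ F.w) n (a := fun i => vec (2 ^ F.w) x i + (2 ^ F.e - F.p)) fun i hi => by
      have := b i hi; omega
    rwa [ofD, Finset.sum_congr rfl fun i _ => add_mul _ _ _, Finset.sum_add_distrib, ← ofD, ← ofD,
      ofD_vec a (by positivity)] at this
  refine ⟨fun ⟨⟨a, b⟩, _, c⟩ => ⟨a, fun i hi => ?_⟩, fun ⟨a, b⟩ => ?_⟩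
  · have := c i hi
    rw [(key a b).2 i hi] at this
    omega
  · have c := fun i hi => (b i hi).trans_le h1
    refine ⟨⟨a, c⟩, (key a c).1, fun i hi => ?_⟩
    have := b i hi
    rw [(key a c).2 i hi]; omega

theorem mod_mid {y k w : ℕ} (h : k + w ≤ y) (Z : ℕ) : Z / 2 ^ k % 2 ^ w = Z % 2 ^ y / 2 ^ k % 2 ^ w :=
  Nat.eq_of_testBit_eq fun i => by
    simp only [Nat.testBit_mod_two_pow, Nat.testBit_div_two_pow]
    by_cases c : i < w
    · simp [c, show i + k < y by omega]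
    · simp [c]

theorem fast_spec (h : F.okC = true) {C x : ℕ} (hC : F.Sm (F.m * F.m) C) (hx : F.Sm F.m x) :
    F.Sm F.m (F.fast C x) ∧ F.mat C *ᵥ F.v x = F.v (F.fast C x) := by
  simp only [okC, Bool.and_eq_true, Nat.blt_eq, nble_iff, nbeq_iff, allLt_iff, rep_eq (2 ^ F.w - 1),
    rep_eq (F.p - 1)] at h
  obtain ⟨⟨⟨⟨⟨⟨⟨⟨⟨⟨⟨⟨⟨⟨⟨hp, hm⟩, hB⟩, h1⟩, h2⟩, h3⟩, h4⟩, h5⟩, h6⟩, h7⟩, h8⟩, -⟩, -⟩, -⟩, -⟩, h9⟩ := h
  set d : ℕ → ℕ := fun i => vec (2 ^ F.w) (x * C) (F.m * i + (F.m - 1)) with hd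
  have d1 : ∀ i, d i < 2 ^ F.w := fun i => vec_lt (by positivity) _ _
  have e1 : Nat.land (Nat.shiftRight (Nat.mul x C) F.sh) F.K = ofD (2 ^ (F.w * F.m)) d F.m := by
    rw [Nat.land_eq, h6, land_ofD (Nat.le_mul_of_pos_right _ (by omega))]
    refine ofD_congr fun i _ => ?_
    show (x * C) >>> F.sh / _ % _ = (x * C) / _ % _
    rw [Nat.shiftRight_eq_div_pow, h5, Nat.div_div_eq_div_mul]
    congr 2
    simp only [← pow_mul, ← pow_add]
    congr 1
    ring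
  have e2 : Nat.land (Nat.shiftRight (Nat.mul (ofD (2 ^ (F.w * F.m)) d F.m) F.M) F.k) F.K =
      ofD (2 ^ (F.w * F.m)) (fun i => d i / F.p) F.m := by
    rw [Nat.land_eq, h6, land_ofD (Nat.le_mul_of_pos_right _ (by omega))]
    refine ofD_congr fun i hi => ?_
    have a := (ofD_spec (Y := 2 ^ (F.w * F.m)) F.m (a := fun i => d i * F.M) fun i _ =>
      (Nat.mul_le_mul_right _ (d1 i).le).trans_lt h4).2 i hi
    have b : ofD (2 ^ (F.w * F.m)) d F.m * F.M = ofD (2 ^ (F.w * F.m)) (fun i => d i * F.M) F.m := by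
      rw [ofD, ofD, Finset.sum_mul]; exact Finset.sum_congr rfl fun i _ => by ring
    show (_ * F.M) >>> F.k / _ % _ = _
    rw [b, Nat.shiftRight_eq_div_pow, Nat.div_div_eq_div_mul, mul_comm (2 ^ F.k), ← Nat.div_div_eq_div_mul,
      mod_mid h3, ← vec, a, ← Nat.shiftRight_eq_div_pow]
    exact (congrArg (· % _) (h9 _ (d1 i))).trans (Nat.mod_eq_of_lt ((Nat.div_le_self _ _).trans_lt (d1 i)))
  have e3 : F.fast C x = ofD (2 ^ F.w) (fun i => d i % F.p) F.m := by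
    rw [fast, red, e1, e2, ← ofD_mod (Y := 2 ^ (F.w * F.m)) (Nat.pow_le_pow_right (by norm_num)
      (Nat.le_mul_of_pos_right _ (by omega))) (h7 ▸ lt_of_le_of_lt (Finset.sum_le_sum fun i _ =>
        Nat.mul_le_mul_right _ (Nat.le_sub_one_of_lt (Nat.mod_lt _ (by omega)))) h8), h7]
    refine congrArg (· % (2 ^ (F.w * F.m) - 2 ^ F.w)) ?_
    refine Nat.sub_eq_of_eq_add ?_
    rw [ofD, ofD, ofD, Nat.mul_eq, Finset.sum_mul, ← Finset.sum_add_distrib]
    exact Finset.sum_congr rfl fun i _ => by nth_rewrite 1 [← Nat.mod_add_div (d i) F.p]; ring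
  have h10 : F.p ≤ 2 ^ F.w := h1.trans (Nat.pow_le_pow_right (by norm_num) h2.le)
  have e4 := ofD_spec (Y := 2 ^ F.w) F.m (a := fun i => d i % F.p) fun i _ => (Nat.mod_lt _ (by omega)).trans_le h10
  rw [← e3] at e4
  refine ⟨⟨e4.1, fun i hi => e4.2 i hi ▸ Nat.mod_lt _ (by omega)⟩, funext fun i => ?_⟩
  have e5 := (vec_mul (C := C) (q := F.p - 1) (fun i => by
    by_cases c : i < F.m * F.m
    · exact Nat.le_sub_one_of_lt (hC.2 i c)
    · rw [vec_ge hC.1 (not_lt.mp c)]; exact Nat.zero_le _) F.m (fun i hi => Nat.le_sub_one_of_lt (hx.2 i hi)) hB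
    (F.m * i + (F.m - 1))).1
  rw [ofD_vec hx.1 (by positivity)] at e5
  rw [v, e4.2 i i.2, ZMod.natCast_mod, hd]
  simp only
  rw [e5, ← Fin.sum_univ_eq_sum_range (fun j => vec (2 ^ F.w) x j *
    if j ≤ F.m * i + (F.m - 1) then vec (2 ^ F.w) C (F.m * i + (F.m - 1) - j) else 0), Nat.cast_sum]
  refine (Finset.sum_congr rfl fun j _ => ?_ : ∑ j, F.mat C i j * F.v x j = _)
  have := j.2
  rw [if_pos (by omega), Nat.cast_mul, mul_comm, show F.m * i + (F.m - 1) - j = F.m * i + (F.m - 1 - j) by omega]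
  rfl

variable (F) in
/-- everything is checked -/
structure Ok : Prop where
  c : F.okC = true
  ok : RAll F.okL 0 F.L

open Classical in
/-- the letters -/
noncomputable def e' (F : FM) (l : ℕ) : GL (Fin F.m) (ZMod F.p) :=
  if h : l < F.L ∧ IsUnit (F.mat (F.cs l)) then h.2.unit⁻¹ else 1

open Classical in
/-- the points -/
noncomputable def pt (F : FM) (x : ℕ) : JX (Fin F.m → ZMod F.p) := if F.Sm F.m x then .inl (F.v x) else .inr x

theorem pt_pos {x : ℕ} (h : F.Sm F.m x) : F.pt x = .inl (F.v x) := if_pos h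

theorem pt_neg {x : ℕ} (h : ¬ F.Sm F.m x) : F.pt x = .inr x := if_neg h

namespace Ok

variable (h : F.Ok)
include h

theorem sm : (∀ x, okb F.LO F.D x = true ↔ F.Sm F.m x) ∧ (∀ l < F.L, F.Sm (F.m * F.m) (F.cs l)) ∧ 1 < F.p ∧
    F.p ≤ 2 ^ F.w := by
  have a := h.c
  simp only [okC, Bool.and_eq_true, Nat.blt_eq, nble_iff, nbeq_iff, rep_rep] at a
  obtain ⟨⟨⟨⟨⟨⟨⟨⟨⟨⟨⟨⟨⟨⟨⟨hp, -⟩, -⟩, h1⟩, h2⟩, -⟩, -⟩, -⟩, -⟩, -⟩, -⟩, h3⟩, h4⟩, h5⟩, h6⟩, -⟩ := a
  exact ⟨fun x => by rw [h3, h4, rep_eq, rep_eq, okb_iff h1 h2], fun l hl => by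
    rw [← okb_iff h1 h2, ← h5, ← h6]; exact (Bool.and_eq_true_iff.mp (h.ok l (Nat.zero_le _) hl)).1, hp,
    h1.trans (Nat.pow_le_pow_right (by norm_num) h2.le)⟩

theorem inv {l : ℕ} (hl : l < F.L) : eqOn F.ap F.L F.bs (l :: F.iw l) [] = true :=
  (Bool.and_eq_true_iff.mp (h.ok l (Nat.zero_le _) hl)).2

theorem ap_sm {x l : ℕ} (hx : F.Sm F.m x) (hl : l < F.L) :
    F.Sm F.m (F.ap x l) ∧ F.mat (F.cs l) *ᵥ F.v x = F.v (F.ap x l) := by
  rw [ap, (h.sm.1 x).mpr hx]; exact fast_spec h.c (h.sm.2.1 l hl) hx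

theorem ap_not {x : ℕ} (hx : ¬ F.Sm F.m x) (l : ℕ) : F.ap x l = x := by
  rw [ap, Bool.eq_false_iff.mpr (mt (h.sm.1 x).mp hx)]

theorem bs_sm (j : Fin F.m) : F.Sm F.m (Nat.shiftLeft 1 (Nat.mul F.w j)) ∧
    F.v (Nat.shiftLeft 1 (Nat.mul F.w j)) = Pi.single j 1 := by
  have a : 1 < 2 ^ F.w := h.sm.2.2.1.trans_le h.sm.2.2.2
  rw [Nat.shiftLeft_eq', Nat.one_shiftLeft, Nat.mul_eq, pow_mul]
  refine ⟨⟨Nat.pow_lt_pow_right a j.2, fun i _ => ?_⟩, funext fun i => by simp [v, vec_pow a, Pi.single_apply, Fin.ext_iff]⟩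
  have := h.sm.2.2.1
  rw [vec_pow a]; split_ifs <;> omega

theorem mat_ext {A B : Matrix (Fin F.m) (Fin F.m) (ZMod F.p)}
    (e : ∀ b ∈ F.bs, F.Sm F.m b → A *ᵥ F.v b = B *ᵥ F.v b) : A = B := by
  ext i j
  have := congrFun (e _ (List.mem_map_of_mem (List.mem_range.mpr j.2)) (h.bs_sm j).1) i
  rwa [(h.bs_sm j).2, mulVec_single_one, mulVec_single_one] at this

theorem tr_v {w : List ℕ} (hw : ∀ a ∈ w, a < F.L) : ∃ A : Matrix (Fin F.m) (Fin F.m) (ZMod F.p),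
    ∀ x, F.Sm F.m x → A *ᵥ F.v x = F.v (tr F.ap w x) := by
  induction w with
  | nil => exact ⟨1, fun x _ => one_mulVec _⟩
  | cons a w ih =>
    obtain ⟨A, hA⟩ := ih fun b hb => hw b (by simp [hb])
    exact ⟨A * F.mat (F.cs a), fun x hx => by
      have := h.ap_sm hx (hw a (by simp))
      rw [← mulVec_mulVec, this.2, hA _ this.1]; rfl⟩

theorem e_inv {l : ℕ} (hl : l < F.L) : (((F.e' l)⁻¹ : GL _ _) : Matrix _ _ _) = F.mat (F.cs l) := by
  have h1 := h.inv hl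
  simp only [eqOn, Bool.and_eq_true, okW_iff, allL_iff, nbeq_iff] at h1
  obtain ⟨A, hA⟩ := h.tr_v fun a ha => h1.1.1 a (List.mem_cons_of_mem _ ha)
  rw [e', dif_pos ⟨hl, IsUnit.of_mul_eq_one A (mul_eq_one_comm.mp (h.mat_ext fun b hb c => by
    rw [← mulVec_mulVec, (h.ap_sm c hl).2, hA _ (h.ap_sm c hl).1, one_mulVec]
    exact congrArg F.v (h1.2 b hb)))⟩, inv_inv, IsUnit.unit_spec]

/-- the table action -/
noncomputable def tab : TabAct (GL (Fin F.m) (ZMod F.p)) (JX (Fin F.m → ZMod F.p)) where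
  e := F.e'
  L := F.L
  n := Nat.shiftLeft 1 (Nat.mul F.w F.m)
  ap := F.ap
  c := F.pt
  lt x hx l hl := by
    by_cases c : F.Sm F.m x
    · rw [Nat.shiftLeft_eq', Nat.one_shiftLeft, Nat.mul_eq, pow_mul]; exact (h.ap_sm c hl).1.1
    · rwa [h.ap_not c]
  act x _ l hl := by
    by_cases c : F.Sm F.m x
    · rw [pt_pos c, pt_pos (h.ap_sm c hl).1, ← (h.ap_sm c hl).2, ← h.e_inv hl]; rfl
    · rw [h.ap_not c, pt_neg c]; rfl
  inj x _ y _ e := by
    by_cases a : F.Sm F.m x <;> by_cases b : F.Sm F.m y <;> simp only [pt_pos, pt_neg, a, b, not_false_iff] at e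
    · exact vec_inj F.m a.1 b.1 fun i hi => by
        simpa only [v, ZMod.natCast_eq_natCast_iff', Nat.mod_eq_of_lt (a.2 i hi), Nat.mod_eq_of_lt (b.2 i hi)]
          using congrFun (Sum.inl.inj e) ⟨i, hi⟩
    · cases e
    · cases e
    · exact Sum.inr.inj e

theorem base : h.tab.Base ⊤ F.bs := by
  refine ⟨fun b hb => ?_, eq_bot_iff.mpr fun g hg => Units.ext (h.mat_ext fun b hb c => ?_)⟩
  · obtain ⟨j, hj, rfl⟩ := List.mem_map.mp hb
    have := (h.bs_sm ⟨j, List.mem_range.mp hj⟩).1.1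
    rwa [← pow_mul, ← Nat.one_shiftLeft] at this
  · have : g • F.pt b = F.pt b := (TabAct.mem_fx _).mp hg.2 _ hb
    rw [pt_pos c] at this
    rw [Units.val_one, one_mulVec]
    exact Sum.inl.inj this

end Ok

end FM

theorem allL_idW {L : ℕ} {f : List ℕ → Bool} (h : RAll (fun l => f [l]) 0 L) : allL (idW L) f = true :=
  allL_iff.mpr fun _ hw =>
    let ⟨l, hl, e⟩ := List.mem_map.mp hw
    e ▸ h l (Nat.zero_le _) (List.mem_range.mp hl)

/-- a faithful table whose letters come with words for their inverses -/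
structure MT {T X : Type*} [Group T] [MulAction T X] (A : TabAct T X) (bs : List ℕ) (iw : ℕ → List ℕ) : Prop where
  base : A.Base ⊤ bs
  ge : ∀ l, A.L ≤ l → A.e l = 1
  inv : ∀ l < A.L, eqOn A.ap A.L bs (l :: iw l) [] = true

theorem FM.Ok.mt {F : FM} (h : F.Ok) : MT h.tab F.bs F.iw :=
  ⟨h.base, fun _ hl => dif_neg fun c => absurd c.1 (not_lt.mpr hl), fun _ => h.inv⟩

namespace MT

variable {T X : Type*} [Group T] [MulAction T X] {A : TabAct T X} {bs : List ℕ} {iw : ℕ → List ℕ} (h : MT A bs iw)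
include h

theorem e_eq {l : ℕ} (hl : l < A.L) : A.e l = (lprod A.e (iw l))⁻¹ := eq_inv_of_mul_eq_one_left (h.base.eq (h.inv l hl))

theorem mem {K : Subgroup T} {a : ℕ} (h0 : ∀ l < a, A.e l ∈ K)
    (H : allLt A.L (fun l => Nat.blt l a || okW l (iw l)) = true) (l : ℕ) : A.e l ∈ K := by
  induction l using Nat.strong_induction_on with
  | _ l ih =>
    by_cases hl : l < A.L
    · rcases Bool.or_eq_true_iff.mp (allLt_iff.mp H l hl) with h1 | h1
      · exact h0 l (Nat.blt_eq.mp h1)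
      · rw [h.e_eq hl]
        exact inv_mem (lprod_mem fun b hb => ih b (okW_iff.mp h1 b hb))
    · rw [h.ge _ (not_lt.mp hl)]; exact one_mem _

theorem hi {t a : ℕ} (H : (Nat.ble a A.L &&
    allLt a (fun l => Nat.blt (invT t a l) a && eqL (iw l) [invT t a l])) = true) (l : ℕ) :
    cut a A.e (invT t a l) = (cut a A.e l)⁻¹ := by
  rw [Bool.and_eq_true, nble_iff] at H
  by_cases hl : l < a
  · have := allLt_iff.mp H.2 l hl
    rw [Bool.and_eq_true, Nat.blt_eq] at this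
    rw [cut_lt hl, cut_lt this.1, h.e_eq (hl.trans_le H.1), eqL_true this.2]; simp
  · rw [invT_of_le (not_lt.mp hl), cut_ge (not_lt.mp hl), inv_one]

theorem sat {t a : ℕ} (hi : ∀ l, cut a A.e (invT t a l) = (cut a A.e l)⁻¹) {B : List (List ℕ × ℕ)}
    (H : allL B (fun p => okW a p.1 && eqOn A.ap A.L bs (repL p.1 p.2) []) = true) :
    Sat (cut a A.e) (invT t a) B := ⟨hi, fun p hp => by
  have := allL_iff.mp H p hp
  rw [Bool.and_eq_true] at this
  rw [lprod_cut this.1]; exact h.base.pow this.2⟩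

theorem range {G : Type*} [Group G] (ψ : G →* T) {E : ℕ → G} {a : ℕ} (hψ : ∀ l, ψ (E l) = cut a A.e l)
    (H : allLt A.L (fun l => Nat.blt l a || okW l (iw l)) = true) (l : ℕ) : A.e l ∈ ψ.range :=
  h.mem (K := ψ.range) (fun k hk => ⟨E k, (hψ k).trans (cut_lt hk)⟩) H l

end MT

end Cfsg.Agent.H15
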