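import Mathlib
import Cfsg.Agent.H15.FM

/-!
# Centralisers which are covers
-/

set_option autoImplicit false

namespace Cfsg.Agent.H15

open Cfsg.Agent.H14 MulAction Subgroup

variable {G T S : Type} [Group G] [Finite G] [Group T] [Group S] {ψ : G →* T} {K : Subgroup T}

theorem cen_cover (hψ : Function.Injective ψ) (h1 : K ≤ ψ.range) {z : K} {g : G} (e : z.1 = ψ g)
    (h : z ∈ center K ∧ ∃ f : K →* S, Function.Surjective f ∧ f.ker = zpowers z)
    (h3 : Nat.card (centralizer {g}) < 2 * Nat.card K) (hS : center S = ⊥) :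
    Nat.card (center (centralizer {g})) = orderOf z ∧ Nonempty (centralizer {g} ⧸ center (centralizer {g}) ≃* S) :=
  let ⟨a, _, b, c⟩ := h
  let ⟨u, _⟩ := cen_iso hψ h1 (le_cen_of_center a e) h3
  ⟨(cover_center u a b c hS).1, (cover_center u a b c hS).2.1⟩

theorem cen_nonsplit {H : Type} [Group H] (v : G ≃* H) (hψ : Function.Injective ψ) (h1 : K ≤ ψ.range) {z y : K}
    {g : G} (e : z.1 = ψ g) (h : z ∈ center K ∧ ∃ f : K →* S, Function.Surjective f ∧ f.ker = zpowers z)
    (h3 : Nat.card (centralizer {g}) < 2 * Nat.card K) (hS : center S = ⊥) (hy : z = y ^ 2) (ho : orderOf z = 2) :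
    IsNonsplitDoubleCover (centralizer {v g}) S := by
  obtain ⟨a, _, b, c⟩ := h
  obtain ⟨u, -⟩ := cen_iso hψ h1 (le_cen_of_center a e) h3
  subst hy
  exact nonsplit_sq ((cenEquiv v g).trans u) a ho b c hS

end Cfsg.Agent.H15
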