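import Mathlib
import Cfsg.Agent.H15.Big6
import Cfsg.Agent.H15.FM
import Cfsg.Agent.H25.Level

/-!
# Small kernels, covers from relative presentations, realisations on cosets of a subgroup
-/

set_option autoImplicit false

namespace Cfsg.Agent.H15

open Cfsg.Agent.H14 MulAction Subgroup

/-- the commutator word -/
noncomputable def cmW (inv : ℕ → ℕ) (a b : List ℕ) : List ℕ := appL (invW inv a) (appL (invW inv b) (appL a b))

section
variable {G T : Type*} [Group G] [Group T] {E : ℕ → G} {inv : ℕ → ℕ}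

theorem lprod_cmW (hi : ∀ l, E (inv l) = (E l)⁻¹) (a b : List ℕ) :
    lprod E (cmW inv a b) = 1 ↔ Commute (lprod E a) (lprod E b) := by
  rw [cmW, lprod_appL, lprod_appL, lprod_appL, lprod_invW hi, lprod_invW hi, inv_mul_eq_one, eq_inv_mul_iff_mul_eq]
  exact eq_comm

theorem CardLe.kill {hs ks : List (List ℕ)} {m : ℕ} (h : CardLe (gp E hs) m) (hi : ∀ l, E (inv l) = (E l)⁻¹)
    {c : List ℕ} (hc : lprod E c = 1)
    (H : allL ks (fun w => memW hs w || eqL w c || eqL w (invW inv c)) = true) : CardLe (gp E ks) m := by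
  have h1 : gp E ks ≤ gp E hs := gp_le.mpr fun w hw => by
    have := allL_iff.mp H w hw
    simp only [Bool.or_eq_true] at this
    rcases this with (a | a) | a
    · exact mem_gp (memW_true a)
    · rw [eqL_true a, hc]; exact one_mem _
    · rw [eqL_true a, lprod_invW hi, hc, inv_one]; exact one_mem _
  have := h.finite
  have : Finite (gp E ks) := Finite.of_injective _ (inclusion_injective h1)
  exact ⟨Nat.card_pos.ne', (card_le_of_le h1).trans h.2⟩

theorem sq_comm_ker [Finite G] (ρ : G →* T) (h : Nat.card ρ.ker ≤ 3) (g : G) {n : G} (hn : ρ n = 1) :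
    Commute (g ^ 2) n := by
  have h0 : 0 < Nat.card ρ.ker := Nat.card_pos
  have hc : IsCyclic ρ.ker := by
    rcases (by omega : Nat.card ρ.ker = 1 ∨ Nat.card ρ.ker = 2 ∨ Nat.card ρ.ker = 3) with e | e | e
    · have := (Nat.card_eq_one_iff_unique.mp e).1
      infer_instance
    · exact isCyclic_of_prime_card e
    · exact isCyclic_of_prime_card e
  have h2 : Nat.card (MulAut ρ.ker) ∣ 2 := by
    rw [IsCyclic.card_mulAut]
    rcases (by omega : Nat.card ρ.ker = 1 ∨ Nat.card ρ.ker = 2 ∨ Nat.card ρ.ker = 3) with e | e | e <;> rw [e] <;> decide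
  have h3 : MulAut.conjNormal (H := ρ.ker) (g ^ 2) = 1 := by
    rw [map_pow]; exact orderOf_dvd_iff_pow_eq_one.mp ((_root_.orderOf_dvd_natCard _).trans h2)
  have h4 := congrArg (fun f : MulAut ρ.ker => (f ⟨n, hn⟩ : G)) h3
  simp only [MulAut.conjNormal_apply, MulAut.one_apply] at h4
  exact mul_inv_eq_iff_eq_mul.mp h4

theorem comm_five [Finite G] (ρ : G →* T) (h : Nat.card ρ.ker ≤ 3) (a u : G)
    (h1 : Commute (ρ (a ^ 2)) (ρ (u ^ 2))) (h2 : ρ u ^ 5 = 1) : Commute (a ^ 2) (u ^ 2) := by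
  have h3 : ρ ((u ^ 2)⁻¹ * (a ^ 2 * u ^ 2 * (a ^ 2)⁻¹)) = 1 := by
    rw [map_mul, map_mul, map_mul, h1.eq]; simp
  have h4 : ρ ((u ^ 2) ^ 5) = 1 := by rw [← pow_mul, mul_comm, pow_mul, map_pow, map_pow, h2, one_pow]
  set n := (u ^ 2)⁻¹ * (a ^ 2 * u ^ 2 * (a ^ 2)⁻¹) with hn
  have h5 : (u ^ 2 * n) ^ 5 = (u ^ 2) ^ 5 := by
    rw [hn, mul_inv_cancel_left, conj_pow, (sq_comm_ker ρ h a h4).eq, mul_inv_cancel_right]
  rw [(sq_comm_ker ρ h u h3).mul_pow, mul_eq_left] at h5
  have h6 : orderOf n ≤ 3 := (Nat.le_of_dvd Nat.card_pos (ρ.ker.orderOf_dvd_natCard h3)).trans h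
  have h7 : orderOf n = 1 := by
    rcases (Nat.dvd_prime Nat.prime_five).mp (orderOf_dvd_of_pow_eq_one h5) with e | e <;> omega
  rw [orderOf_eq_one_iff, hn, inv_mul_eq_one, eq_mul_inv_iff_mul_eq] at h7
  exact h7.symm

/-- the relations used to kill a small kernel -/
noncomputable def k3B (inv : ℕ → ℕ) (a : ℕ) (b u v : List ℕ) : List (List ℕ × ℕ) :=
  [(cmW inv [a, a] (appL u u), 1), (cmW inv [a, a] (appL v v), 1), (u, 5), (v, 5),
    (appL (invW inv (appL (appL u u) (appL v v))) b, 1), (cmW inv [a, a] b, 1)]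

theorem kill3 [Finite G] (ρ : G →* T) (h : Nat.card ρ.ker ≤ 3) (hi : ∀ l, E (inv l) = (E l)⁻¹) {a : ℕ}
    {b u v : List ℕ} (H : ∀ p ∈ k3B inv a b u v, lprod (fun l => ρ (E l)) p.1 ^ p.2 = 1) :
    lprod E (cmW inv [a, a] b) = 1 := by
  have hi' : ∀ l, ρ (E (inv l)) = (ρ (E l))⁻¹ := fun l => by rw [hi, map_inv]
  simp only [k3B, List.forall_mem_cons, pow_one, lprod_cmW (E := fun l => ρ (E l)) hi'] at H
  simp only [← map_lprod] at H
  obtain ⟨h1, h2, h3, h4, h5, -⟩ := H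
  have e : lprod E [a, a] = E a ^ 2 := by simp [lprod, sq]
  rw [lprod_appL, ← sq, e] at h1 h2
  rw [lprod_appL, lprod_invW hi, lprod_appL, lprod_appL, lprod_appL, ← sq, ← sq] at h5
  rw [lprod_cmW hi, e, ← mul_inv_cancel_left (lprod E u ^ 2 * lprod E v ^ 2) (lprod E b)]
  exact ((comm_five ρ h _ _ h1 h3).mul_right (comm_five ρ h _ _ h2 h4)).mul_right (sq_comm_ker ρ h _ h5)

theorem simple_dce2 {Γ : Type*} [Finite G] [Group Γ] {φ : Γ →* G}
    (hH : IsCoatom φ.range) (hcore : ∀ N : Subgroup G, N.Normal → N ≤ φ.range → N = ⊥) {ψ : G →* T}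
    (hψ : Function.Injective ψ) {g : T} (hg : g ∈ ψ.range) {q c m k : ℕ} (h0 : g ^ q = 1)
    (hc : Nat.card φ.range = c) (hq : Nat.Coprime c q) (h1 : 1 < c) (γ : Γ) (h2 : (g * ψ (φ γ)) ^ m = 1)
    (h3 : γ ^ k = 1) (h4 : Nat.Coprime m k) (h5 : ∀ N : Subgroup Γ, N.Normal → γ ∈ N → N = ⊤) :
    IsSimpleGroup G := by
  obtain ⟨g, rfl⟩ := hg
  exact simple_dce hH hcore (g := g) (hψ (by rw [map_pow, h0, map_one])) hc hq h1 1 γ
    (hψ (by rw [map_pow, inv_one, one_mul, mul_one, map_mul, h2, map_one])) h3 h4 h5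

end

theorem real_of_sub {G T S : Type} [Group G] [Group T] [Group S] [Finite G] [IsSimpleGroup G] {ψ : G →* T}
    (hψ : Function.Injective ψ) {K : Subgroup T} (hK : K ≤ ψ.range) {f : K →* S} (hf : Function.Surjective f)
    (hk : f.ker = zpowers 1) {n : ℕ} [NeZero n] (h1 : 1 < n) (hc : Nat.card G = n * Nat.card S) :
    ∃ H : Subgroup (Equiv.Perm (Fin n)), Nonempty (G ≃* H) ∧ IsPretransitive H (Fin n) ∧
      Nonempty (stabilizer H (0 : Fin n) ≃* S) := by
  have e1 : K ≃* S := MulEquiv.ofBijective f ⟨(MonoidHom.ker_eq_bot_iff f).mp (hk.trans zpowers_one_eq_bot), hf⟩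
  have e2 : K.comap ψ ≃* K := ((K.comap ψ).equivMapOfInjective ψ hψ).trans
    (MulEquiv.subgroupCongr (map_comap_eq_self hK))
  have h2 : (K.comap ψ).index = n := by
    have := (K.comap ψ).index_mul_card
    rw [hc, ← Nat.card_congr (e2.trans e1).toEquiv] at this
    exact Nat.eq_of_mul_eq_mul_right Nat.card_pos this
  obtain ⟨H, a, b, ⟨c⟩⟩ := exists_perm_real _ h2 h1
  exact ⟨H, a, b, ⟨c.trans (e2.trans e1)⟩⟩

theorem ev_eq {G : Type*} [Group G] (E : ℕ → G) (w : List ℕ) : H25.ev E w = lprod E w := by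
  induction w with
  | nil => rfl
  | cons a w ih => rw [H25.ev_cons, ih, lprod_cons]

theorem cover_of_rel {K S : Type} [Group K] [Group S] [Finite K] [Finite S] {g : ℕ → S} {P : List (List ℕ)} {L : ℕ}
    (hr : H25.Rel g P 0 (2 ^ L - 1)) (ht : H25.Lc (2 ^ L - 1) g = ⊤) (hg : ∀ a, L ≤ a → g a = 1)
    (hP : ∀ w ∈ P, H25.ev g w = 1) {k : ℕ → K} (hk : cl k L = ⊤) (hk' : ∀ a, L ≤ a → k a = 1) {z : K}
    (hz : z ∈ center K) (h : ∀ w ∈ P, lprod k w ∈ zpowers z) (hc : orderOf z * Nat.card S ≤ Nat.card K) :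
    Nat.card K = orderOf z * Nat.card S ∧ ∃ f : K →* S, Function.Surjective f ∧ f.ker = zpowers z := by
  have e : ∀ {H : Type} [Group H] (x : ℕ → H), H25.Lc (2 ^ L - 1) x = cl x L := fun x =>
    le_antisymm (H25.Lc_le.mpr fun a ha => mem_cl (by simpa using ha)) (cl_le.mpr fun a ha => H25.mem_Lc _ (by simpa))
  have h1 := gr_top hk' hg
  have s1 : Function.Surjective (gr1 k g) := MonoidHom.range_eq_top.mp ((gr1_range h1).trans hk)
  have s2 : Function.Surjective (gr2 k g) := MonoidHom.range_eq_top.mp ((gr2_range h1).trans ((e g).symm.trans ht))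
  have h2 := hr (grG k g) (gr2 k g) (grE k g) ((zpowers z).comap (gr1 k g) ⊓ (gr2 k g).ker) (fun _ => rfl)
    (fun x hx => mem_center_iff.mpr fun y => Subtype.ext (Prod.ext
      (mem_center_iff.mp (zpowers_le_of_mem hz hx.1) y.1.1)
      (by
        have : x.1.2 = 1 := hx.2
        show y.1.2 * x.1.2 = x.1.2 * y.1.2
        rw [this, mul_one, one_mul])))
    inf_le_right (fun w hw => ⟨by
      show gr1 k g _ ∈ zpowers z
      rw [ev_eq, map_lprod]; exact h w hw, by
      show gr2 k g _ = 1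
      rw [ev_eq, map_lprod, ← ev_eq]; exact hP w hw⟩)
    (inf_le_left.trans (H25.Lc_le.mpr fun a ha => absurd ha (by simp)))
  rw [e, h1, top_inf_eq] at h2
  have h3 : Nat.card (gr2 k g).ker ≤ orderOf z := by
    rw [← Nat.card_zpowers]
    exact Nat.card_le_card_of_injective (fun x => ⟨gr1 k g x, (h2 x.2).1⟩) fun x y hxy =>
      Subtype.ext (Subtype.ext (Prod.ext (congrArg Subtype.val hxy) ((x.2 : x.1.1.2 = 1).trans (y.2 : y.1.1.2 = 1).symm)))
  have h4 : Nat.card (grG k g) ≤ orderOf z * Nat.card S := by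
    rw [← (gr2 k g).ker.card_mul_index, index_ker, MonoidHom.range_eq_top.mpr s2, card_top_eq]
    exact Nat.mul_le_mul_right _ h3
  have h5 := Nat.card_le_card_of_surjective _ s1
  have b := s1.bijective_of_nat_card_le (h4.trans hc)
  let u := MulEquiv.ofBijective _ b
  have s3 : Function.Surjective ((gr2 k g).comp u.symm.toMonoidHom) := s2.comp u.symm.surjective
  refine ⟨le_antisymm (h5.trans h4) hc, _, s3, ?_⟩
  refine eq_of_le_of_card_ge (fun x hx => ?_) ?_
  · exact (u.apply_symm_apply x : gr1 k g (u.symm x) = x) ▸ (h2 (hx : u.symm x ∈ (gr2 k g).ker)).1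
  · rw [← ((gr2 k g).comp u.symm.toMonoidHom).ker.card_mul_index, index_ker, MonoidHom.range_eq_top.mpr s3,
      card_top_eq] at hc
    rw [Nat.card_zpowers]
    exact Nat.le_of_mul_le_mul_right hc Nat.card_pos

theorem index_two_cover {Γ G S : Type} [Group Γ] [Group G] [Group S] [Finite Γ] {φ : Γ →* G}
    (hφ : Function.Injective φ) {H : Subgroup G} (hH : H = φ.range) {K : Subgroup Γ}
    (hc : Nat.card Γ = 2 * Nat.card K) (h : IsNonsplitDoubleCover K S) :
    ∃ K : Subgroup H, K.Normal ∧ K.index = 2 ∧ IsNonsplitDoubleCover K S := by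
  subst hH
  let e := MonoidHom.ofInjective hφ
  have h2 : (K.map e.toMonoidHom).index = 2 := by
    exact (index_map_of_bijective (f := e.toMonoidHom) e.bijective K).trans
      (Nat.eq_of_mul_eq_mul_right Nat.card_pos (K.index_mul_card.trans hc))
  exact ⟨_, normal_of_index_eq_two h2, h2,
    IsNonsplitDoubleCover.congr (K.equivMapOfInjective e.toMonoidHom e.injective).symm h⟩

end Cfsg.Agent.H15
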