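import Mathlib
import Cfsg.Agent.H15.Big7

/-!
# Double covers from relative presentations, on tables
-/

set_option autoImplicit false

namespace Cfsg.Agent.H15

open Cfsg.Agent.H14 MulAction Subgroup

theorem kill_known {G : Type*} [Group G] {E : ℕ → G} {inv : ℕ → ℕ} (hi : ∀ l, E (inv l) = (E l)⁻¹) {N : Subgroup G}
    (hN : N.Normal) {a : ℕ} (b : ℕ) (h : lprod E [a] ∈ N) : gp E [[a], [a, inv b, a, b]] ≤ N := by
  rw [lprod_single] at h
  simp only [gp_le, List.forall_mem_cons, lprod_cons, hi]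
  refine ⟨by simpa [lprod] using h, mul_mem h ?_, List.forall_mem_nil _⟩
  simpa [lprod, mul_assoc] using conj_mem' hN h (E b)

theorem TabAct.Base.cover_rel {T X S : Type} [Group T] [MulAction T X] [Finite T] [Group S] [Finite S]
    {A : TabAct T X} {bs : List ℕ} (hb : A.Base ⊤ bs) (h0 : ∀ a, A.L ≤ a → A.e a = 1) {g : ℕ → S}
    {P : List (List ℕ)} (hr : H25.Rel g P 0 (2 ^ A.L - 1)) (ht : H25.Lc (2 ^ A.L - 1) g = ⊤)
    (hg : ∀ a, A.L ≤ a → g a = 1) (hP : ∀ w ∈ P, H25.ev g w = 1) (y : List ℕ) (x : ℕ)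
    (H1 : allL P (fun w => eqOn A.ap A.L bs w [] || eqOn A.ap A.L bs w (repL y 2)) = true)
    (H2 : allL (idW A.L) (fun w => eqOn A.ap A.L bs (appL w (repL y 2)) (appL (repL y 2) w)) = true)
    (H3 : (eqOn A.ap A.L bs (repL (repL y 2) 2) [] && neAt A.ap A.L A.n x (repL y 2) []) = true) {m : ℕ}
    (hm : Nat.card S = m) (hc : 2 * m ≤ Nat.card (gp A.e (idW A.L))) (hS : center S = ⊥) :
    IsNonsplitDoubleCover (cl A.e A.L) S ∧ Nat.card (cl A.e A.L) = 2 * m := by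
  rw [Bool.and_eq_true] at H3
  have hb' : A.own.Base ⊤ bs := hb.sub _ _ _ _
  have h1 := mem_center_of_gp ((gp_idW _ _).trans (cl_subE A.e A.L)) (hb'.commAll H2)
  have h2 : orderOf (lprod A.own.e (repL y 2)) = 2 := orderOf_two (hb'.pow H3.1) (A.own.ne_of_neAt H3.2)
  obtain ⟨h3, f, h4, h5⟩ := cover_of_rel hr ht hg hP (k := A.own.e) (cl_subE A.e A.L)
    (fun a ha => Subtype.ext ((subE_coe (by rw [h0 a ha]; exact one_mem _)).trans (h0 a ha))) h1
    (fun w hw => by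
      rcases Bool.or_eq_true_iff.mp (allL_iff.mp H1 w hw) with a | a
      · rw [hb'.eq a]; exact one_mem _
      · rw [hb'.eq a]; exact mem_zpowers _)
    (by rw [h2, hm, ← gp_idW]; exact hc)
  rw [lprod_repL] at h1 h2 h3 h5
  exact ⟨nonsplit_sq (MulEquiv.refl _) h1 h2 h4 h5 hS, by rw [h3, h2, hm]⟩

end Cfsg.Agent.H15
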