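import Mathlib
import Cfsg.Agent.H15.Big8
import Cfsg.Agent.H14.M24f

/-!
# Relators from memberships, and the table of the Mathieu group
-/

set_option autoImplicit false

namespace Cfsg.Agent.H15

open Cfsg.Agent.H14 MulAction Subgroup

section
variable {G T : Type*} [Group G] [Group T] {E : ℕ → G} {inv : ℕ → ℕ} {B : List (List ℕ × ℕ)}

theorem Sat.vks (h : Sat E inv B) {B' : List (List ℕ × ℕ)} (cs : List (List (List ℕ × ℕ × Bool)))
    (H : allP (fun p c => H15.vk inv B (repL p.1 p.2) c) B' cs = true) : Sat E inv B' :=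
  ⟨h.hi, fun p hp => by
    obtain ⟨c, hc⟩ := allP_spec H p hp
    rw [← lprod_repL]; exact h.vk hc⟩

theorem inj_on_of_card {K : Subgroup G} (f : G →* T) {m : ℕ} (h : CardLe K m) (hm : m ≤ Nat.card (K.map f))
    {g : G} (hg : g ∈ K) (h1 : f g = 1) : g = 1 := by
  have := h.finite
  have e := (f.comp K.subtype).ker.card_mul_index
  rw [index_ker, MonoidHom.range_comp, range_subtype] at e
  have h0 : 0 < Nat.card (K.map f) := Nat.pos_of_ne_zero fun h0 => h.1 (by rw [← e, h0, mul_zero])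
  have h2 : Nat.card (f.comp K.subtype).ker ≤ 1 :=
    Nat.le_of_mul_le_mul_right (by rw [e, one_mul]; exact h.2.trans hm) h0
  have h3 := eq_bot_of_card_le _ h2
  exact congrArg Subtype.val (h3.le (show (⟨g, hg⟩ : K) ∈ (f.comp K.subtype).ker from h1) : (⟨g, hg⟩ : K) ∈ (⊥ : Subgroup K))

/-- words that lie in a subgroup of known order and are trivial in a faithful model are relators -/
theorem Sat.of_mem {π : ℕ → T} {hs ks : List (List ℕ)} {m : ℕ} (hi : ∀ l, E (inv l) = (E l)⁻¹)
    (hb : CardLe (gp (fun l => (E l, π l)) hs) m) (hm : m ≤ Nat.card (gp π hs))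
    (hk : (gp (fun l => (E l, π l)) hs).relIndex (gp (fun l => (E l, π l)) ks) ≠ 0 ∧
      (gp (fun l => (E l, π l)) hs).relIndex (gp (fun l => (E l, π l)) ks) ≤ 1)
    (h : Sat π inv B) (H : allL B (fun p => memW ks p.1 && Nat.beq p.2 1) = true) : Sat E inv B := by
  refine ⟨hi, fun p hp => ?_⟩
  have h1 := allL_iff.mp H p hp
  rw [Bool.and_eq_true, nbeq_iff] at h1
  have h2 := h.hB p hp
  rw [h1.2, pow_one] at h2 ⊢
  have h3 := inj_on_of_card (MonoidHom.snd G T) hb (by rw [map_gp]; exact hm)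
    (relIndex_eq_one.mp (le_antisymm hk.2 (Nat.pos_of_ne_zero hk.1)) (mem_gp (memW_true h1.1))) (by rw [map_lprod]; exact h2)
  have := congrArg (MonoidHom.fst G T) h3
  rw [map_lprod] at this
  exact this

theorem exists_hom_cut {S : Type*} [Group S] {e : ℕ → S} {L : ℕ} (h0 : ∀ l, L ≤ l → e l = 1)
    (h : CardLe (cl (fun l => (e l, cut L E l)) L) (Nat.card S)) (ht : cl e L = ⊤) :
    ∃ φ : S →* G, ∀ l, φ (e l) = cut L E l := by
  obtain ⟨φ, hφ⟩ := exists_hom_of_card h ht
  refine ⟨φ, fun l => ?_⟩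
  by_cases hl : l < L
  · exact hφ l hl
  · rw [h0 l (not_lt.mp hl), map_one, cut_ge (not_lt.mp hl)]

theorem range_of_cut {S : Type*} [Group S] {e : ℕ → S} {L : ℕ} {φ : S →* G} (h : ∀ l, φ (e l) = cut L E l)
    (ht : cl e L = ⊤) : φ.range = cl (cut L E) L := by
  rw [MonoidHom.range_eq_map, ← ht, map_cl]
  exact congrArg (cl · L) (funext h)

end

/-- the Mathieu group acting on the 24 points, with letters given by tables -/
noncomputable def m24tab (Ts : List ℕ) (h : allL Ts A24.okb = true) : TabAct M24 GolayPt where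
  e l := if l < Ts.length then (A24.el (Ts.getD l 0))⁻¹ else 1
  L := Ts.length
  n := 24
  ap x l := get 5 (Ts.getD l 0) x
  c := gC.pt
  lt x hx l hl := isPerm_lt (A24_isPerm (A24_ok (allL_iff.mp h _ (by
    rw [List.getD_eq_getElem _ _ hl]; exact List.getElem_mem _)))) hx
  act x hx l hl := by
    rw [if_pos hl, inv_inv]
    exact A24_smul_pt (A24_ok (allL_iff.mp h _ (by rw [List.getD_eq_getElem _ _ hl]; exact List.getElem_mem _))) hx
  inj x hx y hy e := by rw [← gC.idx_pt x hx, e, gC.idx_pt y hy]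

theorem m24tab_base (Ts : List ℕ) (h : allL Ts A24.okb = true) : (m24tab Ts h).Base ⊤ (List.range 24) :=
  ⟨fun _ hb => List.mem_range.mp hb, eq_bot_iff.mpr fun g hg => m24_ext fun p => by
    have := (m24tab Ts h).mem_fx.mp hg.2 (gC.idx p) (List.mem_range.mpr (gC.idx_lt p))
    rwa [show (m24tab Ts h).c (gC.idx p) = p from gC.pt_idx p] at this⟩

theorem m24tab_ge (Ts : List ℕ) (h : allL Ts A24.okb = true) (l : ℕ) (hl : Ts.length ≤ l) : (m24tab Ts h).e l = 1 :=
  if_neg (not_lt.mpr hl)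

theorem TabAct.Base.sat0 {G X : Type*} [Group G] [MulAction G X] {A : TabAct G X} {bs : List ℕ} (hb : A.Base ⊤ bs)
    (h0 : ∀ l, A.L ≤ l → A.e l = 1) {t : ℕ} {B : List (List ℕ × ℕ)}
    (H : satChk A.ap A.L bs (idW A.L) [[]] t B = true) : Sat A.e (invT t A.L) B := by
  have := hb.sat1 H
  rw [idW_length] at this
  convert this using 1
  funext l
  by_cases hl : l < A.L
  · rw [nthW_idW hl, lprod_single]
  · rw [nthW_of_le (by rw [idW_length]; omega), h0 l (not_lt.mp hl)]; rfl

section mem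
variable {Γ Y G X : Type*} [Group Γ] [MulAction Γ Y] [Group G] [MulAction G X]
  {P : DP} {A : TabAct Γ Y} {φ : Γ →* G} {z : G} {x0 : X}

/-- a closed path at the base point -/
theorem DHyp.mem (H : DHyp P A φ z x0) {N : ℕ} (ok : ∀ m < N, H.Ok m) (ops : List DO) {segs : List (List ℕ)}
    (h : P.run N (fun i _ => Nat.beq i 0) ops 0 [] segs = true) : relW H.E z segs • x0 = x0 := by
  obtain ⟨i, h', a, b⟩ := H.run_sound ok ops h
  rw [nbeq_iff] at a
  subst a
  have e : H.p 0 = x0 := by rw [DHyp.p, H.W0]; rfl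
  rw [e, lprod_nil, inv_one, one_smul, ← map_lprod, ← map_inv, H.fix] at b
  exact (inv_smul_eq_iff.mp b).symm

end mem

end Cfsg.Agent.H15
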