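import Mathlib
import Cfsg.Agent.H15.Big9

/-!
# Relators from closed paths of a partial enumeration
-/

set_option autoImplicit false

namespace Cfsg.Agent.H15

open Cfsg.Agent.H14 MulAction Subgroup

section
variable {G T : Type*} [Group G] [Group T] {E : ℕ → G} {inv : ℕ → ℕ} {B : List (List ℕ × ℕ)}

theorem hi_of_lt {σ : List (List ℕ)} {t : ℕ}
    (h : ∀ l < σ.length, lprod E (nthW σ l) * lprod E (nthW σ (invT t σ.length l)) = 1) (l : ℕ) :
    lprod E (nthW σ (invT t σ.length l)) = (lprod E (nthW σ l))⁻¹ := by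
  by_cases hl : l < σ.length
  · exact eq_inv_of_mul_eq_one_right (h l hl)
  · rw [invT_of_le (not_lt.mp hl), nthW_of_le (not_lt.mp hl)]; simp

theorem Sat.sub (h : Sat E inv B) {σ : List (List ℕ)} {t : ℕ} {B' : List (List ℕ × ℕ)}
    (c1 c2 : List (List (List ℕ × ℕ × Bool)))
    (H : (allP (fun l c => H15.vk inv B (subst (nthW σ) [l, invT t σ.length l]) c) (List.range σ.length) c1 &&
      allP (fun p c => H15.vk inv B (subst (nthW σ) (repL p.1 p.2)) c) B' c2) = true) :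
    Sat (fun l => lprod E (nthW σ l)) (invT t σ.length) B' := by
  rw [Bool.and_eq_true] at H
  refine ⟨hi_of_lt fun l hl => ?_, fun p hp => ?_⟩
  · obtain ⟨c, hc⟩ := allP_spec H.1 l (List.mem_range.mpr hl)
    have := h.vk hc
    rwa [lprod_subst, lprod_cons, lprod_single] at this
  · obtain ⟨c, hc⟩ := allP_spec H.2 p hp
    have := h.vk hc
    rwa [lprod_subst, lprod_repL] at this

theorem Sat.sub' (h : Sat E inv B) {σ : List (List ℕ)} {inv' : ℕ → ℕ} {B' : List (List ℕ × ℕ)}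
    (hi : ∀ l, lprod E (nthW σ (inv' l)) = (lprod E (nthW σ l))⁻¹) (c2 : List (List (List ℕ × ℕ × Bool)))
    (H : allP (fun p c => H15.vk inv B (subst (nthW σ) (repL p.1 p.2)) c) B' c2 = true) :
    Sat (fun l => lprod E (nthW σ l)) inv' B' := ⟨hi, fun p hp => by
  obtain ⟨c, hc⟩ := allP_spec H p hp
  have := h.vk hc
  rwa [lprod_subst, lprod_repL] at this⟩

theorem map_sub {X : Type*} [MulAction T X] {A : TabAct T X} {bs : List ℕ} (hb : A.Base ⊤ bs) {ψ : G →* T} {a : ℕ}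
    (hψ : ∀ l, ψ (E l) = cut a A.e l) {σ τ : List (List ℕ)}
    (H : RAll (fun l => okW a (nthW σ l) && eqOn A.ap A.L bs (nthW σ l) (nthW τ l)) 0 σ.length)
    (h : τ.length ≤ σ.length) (l : ℕ) : ψ (lprod E (nthW σ l)) = lprod A.e (nthW τ l) := by
  by_cases hl : l < σ.length
  · have := H l (Nat.zero_le _) hl
    rw [Bool.and_eq_true] at this
    rw [map_lprod, funext hψ, lprod_cut this.1, hb.eq this.2]
  · rw [nthW_of_le (not_lt.mp hl), nthW_of_le (h.trans (not_lt.mp hl))]; exact map_one _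

theorem lprod_idW (L l : ℕ) : lprod E (nthW (idW L) l) = cut L E l := by
  by_cases hl : l < L
  · rw [nthW_idW hl, lprod_single, cut_lt hl]
  · rw [nthW_of_le (by rw [idW_length]; omega), cut_ge (not_lt.mp hl)]; rfl

theorem Sat.of_ker {ψ : G →* T} {K : Subgroup G} (hK : ∀ g ∈ K, ψ g = 1 → g = 1) {e : ℕ → T}
    (hψ : ∀ l, ψ (E l) = e l) (h : Sat e inv B) (h1 : ∀ l, E l * E (inv l) ∈ K)
    (h2 : ∀ p ∈ B, lprod E (repL p.1 p.2) ∈ K) : Sat E inv B :=
  ⟨fun l => eq_inv_of_mul_eq_one_right (hK _ (h1 l) (by rw [map_mul, hψ, hψ, h.hi, mul_inv_cancel])),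
    fun p hp => by
      rw [← lprod_repL]
      refine hK _ (h2 p hp) ?_
      rw [map_lprod, funext hψ, lprod_repL, h.hB p hp]⟩

theorem Sat.cl_le (h : Sat E inv B) {a L : ℕ} (cs : List (List ℕ × List (List ℕ × ℕ × Bool)))
    (H : allP (fun l c => okW a c.1 && H15.vk inv B (l :: invW inv c.1) c.2) (List.range L) cs = true) :
    cl E L ≤ cl E a := H15.cl_le.mpr fun l hl => by
  obtain ⟨c, hc⟩ := allP_spec H l (List.mem_range.mpr hl)
  rw [Bool.and_eq_true] at hc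
  have := h.vk hc.2
  rw [lprod_cons, lprod_invW h.hi, mul_inv_eq_one] at this
  exact this ▸ lprod_mem_cl hc.1

theorem CardLe.of_le {K K' : Subgroup G} {m : ℕ} (h : CardLe K m) (hK : K' ≤ K) : CardLe K' m :=
  have := h.finite
  have : Finite K' := Finite.of_injective _ (inclusion_injective hK)
  ⟨Nat.card_pos.ne', (card_le_of_le hK).trans h.2⟩

theorem ker_of_simple {S : Type*} [Group S] [IsSimpleGroup S] (φ : S →* G) (ψ : G →* T) {a : S}
    (h : ψ (φ a) ≠ 1) : Function.Injective φ ∧ ∀ g ∈ φ.range, ψ g = 1 → g = 1 := by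
  have hi := inj_simple (ψ.comp φ) h
  refine ⟨fun x y e => hi (by simp [e]), ?_⟩
  rintro _ ⟨s, rfl⟩ hs
  rw [(injective_iff_map_eq_one _).mp hi s hs, map_one]

end

/-- the word `w` is a closed path -/
noncomputable def DP.path (P : DP) (N z : ℕ) (w : List ℕ) (c : List ℕ × List (List ℕ) × List DO) : Bool :=
  okW P.L c.1 && okS P.L c.2.1 && eqL w (appL c.1 (relL z c.2.1)) &&
    P.run N (fun i _ => Nat.beq i 0) c.2.2 0 [] c.2.1

section path
variable {Γ Y G : Type*} [Group Γ] [MulAction Γ Y] [Group G] {P : DP} {A : TabAct Γ Y} {φ : Γ →* G}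
  {E : ℕ → G} {z N : ℕ}

theorem DHyp.path (H : DHyp P A φ (E z) ((1 : G) : G ⧸ φ.range)) (hφ : ∀ l, φ (A.e l) = cut P.L E l)
    (ok : ∀ m < N, H.Ok m) {w : List ℕ} {c : List ℕ × List (List ℕ) × List DO} (h : P.path N z w c = true) :
    lprod E w ∈ φ.range := by
  simp only [DP.path, Bool.and_eq_true] at h
  have h1 := H.mem ok _ h.2
  rw [show H.E = cut P.L E from funext hφ, relW_cut h.1.1.2] at h1
  rw [eqL_true h.1.2, lprod_appL]
  refine mul_mem ⟨lprod A.e c.1, by rw [map_lprod, funext hφ, lprod_cut h.1.1.1]⟩ ?_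
  rw [← stabilizer_quotient φ.range]
  exact h1

theorem DHyp.sat (H : DHyp P A φ (E z) ((1 : G) : G ⧸ φ.range)) (hφ : ∀ l, φ (A.e l) = cut P.L E l)
    (ok : ∀ m < N, H.Ok m) {T : Type*} [Group T] {ψ : G →* T} (hK : ∀ g ∈ φ.range, ψ g = 1 → g = 1)
    {σ : List (List ℕ)} {e : ℕ → T} (hψ : ∀ l, ψ (lprod E (nthW σ l)) = e l) {t : ℕ} {B : List (List ℕ × ℕ)}
    (h : Sat e (invT t σ.length) B) {c1 c2 : List (List ℕ × List (List ℕ) × List DO)}
    (h1 : allP (fun l c => P.path N z (subst (nthW σ) [l, invT t σ.length l]) c) (List.range σ.length) c1 = true)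
    (h2 : allP (fun p c => P.path N z (subst (nthW σ) (repL p.1 p.2)) c) B c2 = true) :
    Sat (fun l => lprod E (nthW σ l)) (invT t σ.length) B := by
  refine Sat.of_ker hK hψ h (fun l => ?_) fun p hp => ?_
  · by_cases hl : l < σ.length
    · obtain ⟨c, hc⟩ := allP_spec h1 l (List.mem_range.mpr hl)
      have := H.path hφ ok hc
      rwa [lprod_subst, lprod_cons, lprod_single] at this
    · rw [invT_of_le (not_lt.mp hl), nthW_of_le (not_lt.mp hl)]; simp
  · obtain ⟨c, hc⟩ := allP_spec h2 p hp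
    have := H.path hφ ok hc
    rwa [lprod_subst] at this

theorem DHyp.sat1 (H : DHyp P A φ (E z) ((1 : G) : G ⧸ φ.range)) (hφ : ∀ l, φ (A.e l) = cut P.L E l)
    (ok : ∀ m < N, H.Ok m) {T : Type*} [Group T] {ψ : G →* T} (hK : ∀ g ∈ φ.range, ψ g = 1 → g = 1)
    {e : ℕ → T} (hψ : ∀ l, ψ (E l) = e l) {inv : ℕ → ℕ} (hi : ∀ l, E (inv l) = (E l)⁻¹) {B : List (List ℕ × ℕ)}
    (h : Sat e inv B) {c2 : List (List ℕ × List (List ℕ) × List DO)}
    (h2 : allP (fun p c => P.path N z (repL p.1 p.2) c) B c2 = true) : Sat E inv B :=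
  Sat.of_ker hK hψ h (fun l => by rw [hi, mul_inv_cancel]; exact one_mem _) fun p hp =>
    let ⟨_, hc⟩ := allP_spec h2 p hp
    H.path hφ ok hc

end path

theorem dce_dvd {Γ Y G : Type*} [Group Γ] [MulAction Γ Y] [Group G] [Finite Γ] {A : TabAct Γ Y} {bs : List ℕ}
    (hb : A.Base ⊤ bs) (ht : A.seg 0 A.n ⊆ orbit (⊤ : Subgroup Γ) (A.c 0)) {φ : Γ →* G}
    {P : List ((G ⧸ φ.range) × ℕ)} (h : DCov φ.range P) {n c d c' m : ℕ} (hn : (P.map (·.2)).sum = n)
    (hc : Nat.card Γ = c) (hd : n * d ∣ Nat.card G) (h0 : 0 < d) (h1 : c = d * c') (h2 : Nat.Coprime n c')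
    {p : G ⧸ φ.range} (hp : (p, A.n) ∈ P) (h3 : ∀ γ ∈ stabilizer Γ (A.c 0), φ γ • p = p)
    (h4 : m ≤ Nat.card (stabilizer Γ (A.c 0))) (h5 : c ≤ A.n * m) : n * c ∣ Nat.card G := by
  have a1 : Nat.card φ.range ∣ c := hc ▸ card_dvd_of_surjective _ φ.rangeRestrict_surjective
  have a2 : n ∣ φ.range.index := by
    rw [← φ.range.index_mul_card] at hd
    have := hd.trans (Nat.mul_dvd_mul_left _ a1)
    rw [h1, ← mul_assoc, mul_right_comm] at this
    exact h2.dvd_of_dvd_mul_right (Nat.dvd_of_mul_dvd_mul_right h0 this)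
  have := h.finite
  have a3 : n ≤ Nat.card (G ⧸ φ.range) := Nat.le_of_dvd Nat.card_pos a2
  have a4 := (stab_eq h3 (h.exact' (hn.le.trans a3) hp) h4 (hc.le.trans h5)).1
  have a5 := A.normal_eq_bot hb ht φ.normal_ker (a4 ▸ fun γ hγ => by
    show φ γ ∈ stabilizer G p
    rw [(hγ : φ γ = 1)]; exact one_mem _)
  rw [← φ.range.index_mul_card, ← hc, Nat.card_congr (MonoidHom.ofInjective (φ.ker_eq_bot_iff.mp a5)).toEquiv]
  exact Nat.mul_dvd_mul_right a2 _

end Cfsg.Agent.H15
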