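import Mathlib
import Cfsg.Agent.H15.Big10

/-!
# Word models, and centralisers from a normal abelian subgroup of a point stabiliser
-/

set_option autoImplicit false

namespace Cfsg.Agent.H15

open Cfsg.Agent.H14 MulAction Subgroup
open scoped commutatorElement Pointwise

/-- letters in a group whose words are compared through a table -/
structure WM (τ : FT) (G : Type*) [Group G] where
  e : ℕ → G
  eqW : ∀ {u v : List ℕ}, τ.eqW u v = true → lprod e u = lprod e v
  neW : ∀ {x : ℕ} {u v : List ℕ}, neAt τ.ap τ.L τ.n x u v = true → lprod e u ≠ lprod e v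

/-- the word model of a table with a base -/
def TabAct.Base.wm {G X : Type*} [Group G] [MulAction G X] {A : TabAct G X} {bs : List ℕ} (hb : A.Base ⊤ bs) :
    WM ⟨A.L, A.n, A.ap, id, id, 0, bs⟩ G := ⟨A.e, hb.eq, A.ne_of_neAt⟩

namespace WM

variable {τ : FT} {G : Type*} [Group G] (M : WM τ G)

/-- the value of a word -/
abbrev w (u : List ℕ) : G := lprod M.e u

theorem w_app (u v : List ℕ) : M.w (appL u v) = M.w u * M.w v := lprod_appL u v

theorem commW {u v : List ℕ} (h : τ.eqW (appL u v) (appL v u) = true) : Commute (M.w u) (M.w v) := by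
  have := M.eqW h
  rwa [lprod_appL, lprod_appL] at this

theorem orderW {u : List ℕ} {p x : ℕ} (hp : p.Prime)
    (h : (τ.eqW (repL u p) [] && neAt τ.ap τ.L τ.n x u []) = true) : orderOf (M.w u) = p := by
  rw [Bool.and_eq_true] at h
  have := Fact.mk hp
  exact orderOf_eq_prime ((lprod_repL u p).symm.trans (M.eqW h.1)) (M.neW h.2)

theorem xw_mem (xs : List (List ℕ)) (u : List ℕ) : M.w (xw xs u) ∈ gp M.e xs := by
  rw [xw, w, lprod_subst]
  exact lprod_mem fun a _ => nthW_mem xs a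

theorem mem_gpW {xs : List (List ℕ)} {g : List ℕ} (u : List ℕ) (h : τ.eqW g (xw xs u) = true) :
    M.w g ∈ gp M.e xs := by rw [w, M.eqW h]; exact M.xw_mem xs u

theorem gp_le_N [Finite G] {gs xs : List (List ℕ)} (tab : List (List (List ℕ)))
    (h : τ.normChk gs xs tab = true) : gp M.e gs ≤ normalizer (gp M.e xs : Set G) :=
  gp_le.mpr fun g hg => by
    obtain ⟨t, ht⟩ := all2_spec h g hg
    have : (gp M.e xs).map (MulAut.conj (M.w g)).toMonoidHom ≤ gp M.e xs := by
      rw [map_le_iff_le_comap]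
      refine gp_le.mpr fun x hx => ?_
      obtain ⟨u, hu⟩ := all2_spec ht x hx
      have e := M.eqW hu
      rw [lprod_appL, lprod_appL] at e
      show M.w g * M.w x * (M.w g)⁻¹ ∈ gp M.e xs
      rw [e, mul_inv_cancel_right]; exact M.xw_mem xs u
    exact mem_normalizer_fintype fun x hx => this ⟨x, hx, rfl⟩

theorem w_mono (cs : List (List ℕ)) (B v : ℕ) : M.w (monoW cs B v) = monoL (cs.map M.w) (vec B v) := by
  induction cs generalizing v with
  | nil => rfl
  | cons c cs ih =>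
    show M.w (appL (repL c (v % B)) (monoW cs B (v / B))) = _
    rw [w_app, w, lprod_repL, ih, List.map_cons, monoL, vec_zero]
    simp only [vec_succ]

theorem eqM_spec {ws : List (List ℕ)} {u v t : List ℕ} (h : τ.eqM ws u v t = true) :
    (M.w v)⁻¹ * M.w u ∈ gp M.e ws := by
  rw [w, w, M.eqW h, lprod_appL, inv_mul_cancel_left]; exact M.xw_mem ws t

theorem gp_app (cs ws : List (List ℕ)) : gp M.e (cs ++ ws) = closure {c | c ∈ cs.map M.w} ⊔ gp M.e ws := by
  rw [gp, gp, ← Subgroup.closure_union]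
  congr 1
  ext g
  simp only [List.mem_append, Set.mem_ofPred_eq, Set.mem_union, List.mem_map, or_and_right, exists_or,
    eq_comm (a := g)]

theorem sec {ws cs : List (List ℕ)} {p : ℕ} (hN : gp M.e cs ≤ normalizer (gp M.e ws : Set G))
    (tP : List (List ℕ)) (tC : List (List (List ℕ))) (h : τ.secChk ws cs p tP tC = true) :
    Sec (gp M.e ws) (cs.map M.w) p := by
  rw [FT.secChk, Bool.and_eq_true] at h
  refine ⟨List.forall_mem_map.mpr fun c hc => hN (mem_gp hc), List.forall_mem_map.mpr fun c hc => ?_, ?_⟩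
  · obtain ⟨t, ht⟩ := all2_spec h.1 c hc
    rw [w, ← lprod_repL]; exact M.mem_gpW t ht
  · have h1 : (cs.map M.w).Pairwise fun c d => (d * c)⁻¹ * (c * d) ∈ gp M.e ws :=
      List.pairwise_map.mpr ((pairs2_spec h.2).imp fun ⟨t, ht⟩ => by
        simpa only [w_app] using M.eqM_spec ht)
    intro c hc d hd
    have : Std.Symm fun c d : G => (d * c)⁻¹ * (c * d) ∈ gp M.e ws :=
      ⟨fun a b h => by simpa using inv_mem h⟩
    exact h1.forall_of_forall (fun a _ => by simp) hc hd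

theorem lin {ws cs : List (List ℕ)} {B p m : ℕ} {g : List ℕ} {Cs : List ℕ}
    (hN : M.w g ∈ normalizer (gp M.e ws : Set G)) (ts : List (List ℕ))
    (h : τ.linChk ws cs B p m g Cs ts = true) : Lin (gp M.e ws) (cs.map M.w) B p (M.w g) Cs := by
  have h1 := all3_spec h
  refine ⟨hN, List.forall₂_map_left_iff.mpr (h1.imp fun c C ht => ?_), fun C hC => ?_⟩
  · obtain ⟨t, ht⟩ := ht
    rw [Bool.and_eq_true] at ht
    have := M.eqM_spec ht.2
    rw [w_app, w_app, w_mono] at this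
    convert this using 1; group
  · obtain ⟨i, hi, rfl⟩ := List.getElem_of_mem hC
    obtain ⟨t, ht⟩ := h1.get (h1.length_eq ▸ hi) hi
    rw [Bool.and_eq_true] at ht
    exact small_spec ht.1

theorem le_N_nil (K : Subgroup G) : K ≤ normalizer (gp M.e [] : Set G) := by
  rw [gp_nil]; exact le_top.trans (normalizer_eq_top _).ge

theorem gp_one (x : List ℕ) : gp M.e [x] = zpowers (M.w x) := by
  rw [zpowers_eq_closure, gp]; simp

theorem dual {es cs : List (List ℕ)} {t : List (List ℕ × List ℕ × ℕ)} (h : τ.dualChk es cs t = true) :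
    Dual (gp M.e es) ⊥ (cs.map M.w) := by
  induction cs generalizing t with
  | nil => trivial
  | cons c cs ih =>
    cases t with
    | nil => exact absurd h Bool.false_ne_true
    | cons d t =>
      have h' : (τ.eqW d.1 (xw es d.2.1) && neAt τ.ap τ.L τ.n d.2.2 (appL d.1 c) (appL c d.1) &&
        allL cs (fun c' => τ.eqW (appL d.1 c') (appL c' d.1)) && τ.dualChk es cs t) = true := h
      simp only [Bool.and_eq_true, allL_iff] at h'
      refine ⟨⟨_, M.mem_gpW _ h'.1.1.1, fun e => M.neW h'.1.1.2 ?_, List.forall_mem_map.mpr fun c' hc => ?_⟩, ih h'.2⟩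
      · rwa [mem_bot, inv_mul_eq_one, ← w_app, ← w_app] at e
      · rw [mem_bot, inv_mul_eq_one]; exact M.commW (h'.1.2 c' hc)

theorem xs [Finite G] {cs : List (List ℕ)} {z : List ℕ} {p : ℕ} (hp : p.Prime)
    (h : Sec (gp M.e [z]) (cs.map M.w) p) (ho : orderOf (M.w z) = p)
    (h0 : gp M.e (cs ++ [z]) ≤ centralizer {M.w z}) (t : List (List ℕ × List ℕ × ℕ))
    (hd : τ.dualChk (cs ++ [z]) cs t = true) (hn : p < Nat.card (gp M.e (cs ++ [z]))) :
    IsExtraspecial p (gp M.e (cs ++ [z])) ∧ Nat.card (gp M.e (cs ++ [z])) ≤ p ^ cs.length * p := by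
  have h1 : gp M.e [z] ≤ centralizer (gp M.e (cs ++ [z]) : Set G) := gp_le.mpr fun u hu => by
    rw [List.mem_singleton.mp hu]
    exact mem_centralizer_iff.mpr fun g hg => mem_centralizer_singleton_iff.mp (h0 hg)
  have h2 : gp M.e [z] ≤ gp M.e (cs ++ [z]) := gp_le.mpr fun _ hw => mem_gp (List.mem_append_right _ hw)
  have hc : gp M.e (cs ++ [z]) ⊓ centralizer (gp M.e (cs ++ [z]) : Set G) = gp M.e [z] := by
    refine le_antisymm (fun x hx => ?_) (le_inf h2 h1)
    obtain ⟨v, -, w, hw, rfl⟩ := h.decomp hp.pos (M.gp_app cs [z] ▸ hx.1)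
    refine mul_mem ((M.dual hd).mem hp le_normalizer_of_normal (fun w hw => ⟨h2 hw, fun d hd => ?_⟩)
      (fun c hc => ⟨?_, h.pw c hc⟩) fun d hd => ?_) hw
    · rw [mem_bot, inv_mul_eq_one]; exact mem_centralizer_iff.mp (h1 hw) d hd
    · obtain ⟨u, hu, rfl⟩ := List.mem_map.mp hc
      exact mem_gp (List.mem_append_left _ hu)
    · rw [mem_bot, inv_mul_eq_one]
      exact mem_centralizer_iff.mp ((mul_mem_cancel_right (h1 hw)).mp hx.2) d hd
  have h3 : M.w z ∈ gp M.e [z] := mem_gp List.mem_cons_self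
  refine ⟨H3.XS.isExtraspecial (z := M.w z) ⟨⟨hp, ho, h2 h3, h1 h3, fun x hx y hy => ?_⟩,
    M.gp_one z ▸ hc⟩ fun ha => ?_, ?_⟩
  · have := h.comm_mem hp.pos (inv_mem (M.gp_app cs _ ▸ hx)) (inv_mem (M.gp_app cs _ ▸ hy))
    rw [gp_one] at this
    simpa [commutatorElement_def, mul_assoc] using this
  · rw [inf_eq_left.mpr (le_centralizer _)] at hc
    rw [hc, gp_one, Nat.card_zpowers, ho] at hn
    exact lt_irrefl _ hn
  · have := h.card_le hp.pos
    rwa [← gp_app, gp_one, Nat.card_zpowers, ho, List.length_map] at this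

/-- data for the action on an elementary abelian group -/
structure LD (cs gs Css : List (List ℕ)) (p : ℕ) : Prop where
  sec : Sec (gp M.e []) (cs.map M.w) p
  hp : 0 < p
  hB : p - 1 + cs.length * ((p - 1) * (p - 1)) < 128
  card : p ^ cs.length ≤ Nat.card (gp M.e cs)
  lin : List.Forall₂ (fun g Cs => Lin (gp M.e []) (cs.map M.w) 128 p (M.w g) Cs) gs Css

variable {M} {cs gs Css : List (List ℕ)} {p : ℕ}

theorem LD.conj (h : M.LD cs gs Css p) {l : ℕ} (hl : l < gs.length) (v : ℕ) :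
    (M.w (nthW gs l))⁻¹ * M.w (monoW cs p v) * M.w (nthW gs l) = M.w (monoW cs p (apL p cs.length Css v l)) := by
  have := (forall₂_nth h.lin hl).aff h.sec h.hp (by simpa using h.hB) (T := 0) (fun i => by simp [vec_nil])
    (x := 1) (y := 1) (by simp [show vec 128 0 = fun _ => 0 from funext (vec_nil _), monoL_zero]) v
  rw [one_mul, one_mul, List.length_map] at this
  rw [w_mono, w_mono]
  exact (inv_mul_eq_one.mp (mem_bot.mp (gp_nil.le this))).symm

theorem LD.mem_iff (h : M.LD cs gs Css p) (a : G) :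
    a ∈ gp M.e cs ↔ ∃ v < p ^ cs.length, M.w (monoW cs p v) = a := by
  rw [← List.append_nil cs, gp_app, List.append_nil]
  refine ⟨fun ha => ?_, ?_⟩
  · obtain ⟨v, hv, w, hw, rfl⟩ := h.sec.decomp h.hp ha
    exact ⟨v, by simpa using hv, by rw [w_mono, mem_bot.mp (gp_nil.le hw), mul_one]⟩
  · rintro ⟨v, -, rfl⟩
    rw [w_mono]; exact mem_sup_left (monoL_mem (fun c hc => subset_closure hc) _)

/-- the action on an elementary abelian group -/
noncomputable def LD.tab [Finite G] (h : M.LD cs gs Css p) : TabAct G (Cj G) where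
  e l := M.w (nthW gs l)
  L := gs.length
  n := p ^ cs.length
  ap := apL p cs.length Css
  c v := Cj.mk (M.w (monoW cs p v))
  lt x _ l _ := apL_lt h.hp _ _ _ _
  act x _ l hl := by rw [Cj.smul_mk, inv_inv, h.conj hl]
  inj x hx y hy e := h.sec.indep2 h.hp (by
      rw [← gp_app, List.append_nil, List.length_map, gp_nil, card_bot, mul_one]; exact h.card)
    (by simpa using hx) (by simpa using hy) (by
      rw [← w_mono, ← w_mono, show M.w _ = M.w _ from e, inv_mul_cancel]; exact one_mem _)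

theorem LD.le_N [Finite G] (h : M.LD cs gs Css p) : gp M.e gs ≤ normalizer (gp M.e cs : Set G) :=
  gp_le.mpr fun g hg => by
    obtain ⟨l, hl, rfl⟩ := List.getElem_of_mem hg
    refine (Subgroup.inv_mem_iff _).mp (mem_normalizer_fintype fun x hx => ?_)
    obtain ⟨v, -, rfl⟩ := (h.mem_iff x).mp hx
    rw [inv_inv, ← nthW_eq hl, h.conj hl]
    exact (h.mem_iff _).mpr ⟨_, apL_lt h.hp _ _ _ _, rfl⟩

theorem LD.cnt (h : M.LD cs gs Css p) {U : List ℕ} (fs ts : List (List ℕ)) (b : ℕ) {k : ℕ}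
    (H1 : all2 fs (fun f t => τ.eqW (appL U f) (appL (xw cs t) U)) ts = true)
    (H2 : Nat.ble (cntLt (p ^ cs.length) fun v => Nat.blt 0 v && allL fs fun f =>
      !neAt τ.ap τ.L τ.n b (appL (monoW cs p v) f) (appL f (monoW cs p v))) k = true) :
    {s | s ∈ gp M.e cs ∧ M.w U * s * (M.w U)⁻¹ ∈ gp M.e cs ∧ s ≠ 1}.ncard ≤ k := by
  classical
  rw [nble_iff, cntLt_eq] at H2
  refine le_trans ?_ (Finset.card_image_le.trans H2 : (Finset.image (fun v => M.w (monoW cs p v)) _).card ≤ k)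
  rw [← Set.ncard_coe_finset]
  refine Set.ncard_le_ncard ?_ (Finset.finite_toSet _)
  rintro s ⟨h1, h2, h3⟩
  obtain ⟨v, hv, rfl⟩ := (h.mem_iff s).mp h1
  refine Finset.mem_coe.mpr (Finset.mem_image_of_mem _ (Finset.mem_filter.mpr ⟨Finset.mem_range.mpr hv, ?_⟩))
  rw [Bool.and_eq_true, Nat.blt_eq, allL_iff]
  refine ⟨Nat.pos_of_ne_zero fun e => h3 ?_, fun f hf => ?_⟩
  · rw [e, w_mono, show vec p 0 = fun _ => 0 from funext (vec_nil _), monoL_zero]
  · obtain ⟨t, ht⟩ := all2_spec H1 f hf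
    have e := M.eqW ht
    rw [lprod_appL, lprod_appL, ← mul_inv_eq_iff_eq_mul] at e
    have h4 : M.w U * M.w f * (M.w U)⁻¹ ∈ gp M.e cs := e ▸ M.xw_mem cs t
    rw [← List.append_nil cs, gp_app] at h2 h4
    have h5 := inv_mul_eq_one.mp (mem_bot.mp (gp_nil.le (h.sec.comm_mem h.hp h2 h4)))
    rw [List.append_nil, conj_mul, conj_mul, mul_left_inj, mul_right_inj] at h5
    rw [Bool.not_eq_true', ← Bool.not_eq_true]
    exact fun a => M.neW a (by rw [lprod_appL, lprod_appL]; exact h5.symm)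

end WM

section pull
variable {G T X : Type*} [Group G] [Group T] [MulAction T X]

/-- the points, with the action through a homomorphism -/
def Vb (_ψ : G →* T) (X : Type*) : Type _ := X

instance Vb.act (ψ : G →* T) : MulAction G (Vb ψ X) := MulAction.compHom X ψ

/-- pull a table back along a homomorphism -/
noncomputable def TabAct.back (A : TabAct T X) (ψ : G →* T) (h : ∀ l, A.e l ∈ ψ.range) : TabAct G (Vb ψ X) where
  e l := (h l).choose
  L := A.L
  n := A.n
  ap := A.ap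
  c := A.c
  lt := A.lt
  act x hx l hl := by
    show ψ (h l).choose⁻¹ • A.c x = _
    rw [map_inv, (h l).choose_spec]; exact A.act x hx l hl
  inj := A.inj

theorem TabAct.back_w (A : TabAct T X) (ψ : G →* T) (h : ∀ l, A.e l ∈ ψ.range) (w : List ℕ) :
    ψ (lprod (A.back ψ h).e w) = lprod A.e w := by
  rw [map_lprod]; exact congrArg (lprod · w) (funext fun l => (h l).choose_spec)

theorem TabAct.Base.back {A : TabAct T X} {bs : List ℕ} (hb : A.Base ⊤ bs) {ψ : G →* T} (hψ : Function.Injective ψ)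
    (h : ∀ l, A.e l ∈ ψ.range) : (A.back ψ h).Base ⊤ bs :=
  ⟨hb.1, eq_bot_iff.mpr fun _ hg => hψ ((hb.eq_one fun b hb' => (TabAct.mem_fx _).mp hg.2 b hb').trans (map_one ψ).symm)⟩

end pull

section cen
variable {Γ G Y : Type*} [Group Γ] [Group G] [MulAction G Y]

theorem card_smul_mem {X : Type*} [MulAction Γ X] (p : X) (Z : Set X) :
    Nat.card {g : Γ | g • p ∈ Z} = Nat.card (stabilizer Γ p) * (Z ∩ orbit Γ p).ncard := by
  have h1 : {g : Γ | g • p ∈ Z} = QuotientGroup.mk ⁻¹' (ofQuotientStabilizer Γ p ⁻¹' Z) := by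
    ext g
    simp only [Set.mem_ofPred_eq, Set.mem_preimage, ofQuotientStabilizer_mk]
  rw [h1, QuotientGroup.card_preimage_mk, Nat.card_coe_set_eq,
    ← Set.ncard_image_of_injective _ (injective_ofQuotientStabilizer Γ p), Set.image_preimage_eq_inter_range]
  congr 3
  ext x
  exact ⟨fun ⟨q, e⟩ => e ▸ ofQuotientStabilizer_mem_orbit Γ p q, fun ⟨g, e⟩ => ⟨g, e⟩⟩

/-- a bound for the part of the centraliser orbit inside an orbit of the stabiliser -/
def OrbLe (φ : Γ →* G) (γ : Γ) (x0 p : Y) (f : ℕ) : Prop :=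
  (orbit (centralizer {φ γ}) x0 ∩ orbit φ.range p).ncard ≤ f

variable {φ : Γ →* G} {γ : Γ} {x0 : Y}

theorem OrbLe.cnt [Finite Γ] [Finite G] (hφ : Function.Injective φ) (hx : stabilizer G x0 = φ.range) {F : Subgroup G}
    (hF : φ.range ≤ normalizer (F : Set G)) (h0 : φ γ ∈ F) (h1 : γ ≠ 1) {u : G} {p : Y} (hp : p = u⁻¹ • x0)
    {T : Subgroup Γ} (hT : ∀ δ ∈ T, φ δ • p = p) {k c m f : ℕ}
    (hk : {s | s ∈ F ∧ u * s * u⁻¹ ∈ F ∧ s ≠ 1}.ncard ≤ k) (hc : Nat.card (centralizer {γ}) ≤ c)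
    (hm : m ≤ Nat.card T) (h : k * c < m * (f + 1)) : OrbLe φ γ x0 p f := by
  let _ := MulAction.compHom Y φ
  have e : orbit φ.range p = orbit Γ p :=
    Set.ext fun _ => ⟨fun ⟨⟨_, g, rfl⟩, e⟩ => ⟨g, e⟩, fun ⟨g, e⟩ => ⟨⟨_, g, rfl⟩, e⟩⟩
  have a0 : ∀ η ∈ φ.range, η⁻¹ * φ γ * η ∈ F := fun η hη => (mem_normalizer_iff''.mp (hF hη) _).mp h0
  have a1 := card_conj_le γ (F.comap ((MulAut.conj u).toMonoidHom.comp φ))
  have a2 : {s | s ∈ F.comap ((MulAut.conj u).toMonoidHom.comp φ) ∧ IsConj γ s}.ncard ≤ k := by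
    refine le_trans (Set.ncard_le_ncard_of_injOn φ ?_ hφ.injOn (Set.toFinite _)) hk
    rintro s ⟨b1, b2⟩
    obtain ⟨d, rfl⟩ := isConj_iff.mp b2
    refine ⟨?_, b1, fun b3 => h1 (conj_eq_one_iff.mp (hφ (b3.trans (map_one φ).symm)))⟩
    simpa using a0 _ ⟨d⁻¹, rfl⟩
  have a3 : Nat.card {g : Γ | g • p ∈ orbit (centralizer {φ γ}) x0} ≤
      Nat.card {g : Γ | g⁻¹ * γ * g ∈ F.comap ((MulAut.conj u).toMonoidHom.comp φ)} := by
    refine Nat.card_mono (Set.toFinite _) ?_
    rintro δ ⟨⟨g, hg⟩, b⟩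
    have b1 : g⁻¹ * φ δ * u⁻¹ ∈ φ.range := hx.le (by
      rw [mem_stabilizer_iff, mul_smul, mul_smul, ← hp, inv_smul_eq_iff]; exact b.symm)
    have b2 := a0 _ b1
    show u * φ (δ⁻¹ * γ * δ) * u⁻¹ ∈ F
    rw [map_mul, map_mul, map_inv]
    convert b2 using 1
    rw [mul_inv_rev, mul_inv_rev, inv_inv, inv_inv, mul_assoc u _ (φ γ), mul_assoc _ g,
      mem_centralizer_singleton_iff.mp hg]
    group
  rw [card_smul_mem] at a3
  have a4 : m ≤ Nat.card (stabilizer Γ p) := hm.trans (card_le_of_le hT)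
  rw [OrbLe, e]
  exact Nat.le_of_lt_succ (Nat.lt_of_mul_lt_mul_left
    (((Nat.mul_le_mul_right _ a4).trans (a3.trans (a1.trans (Nat.mul_le_mul a2 hc)))).trans_lt h))

theorem OrbLe.triv {P : List (Y × ℕ)} (h : DCov φ.range P) {q : Y × ℕ} (hq : q ∈ P) : OrbLe φ γ x0 q.1 q.2 :=
  (Set.ncard_le_ncard Set.inter_subset_right (h.1 q hq).1).trans (h.1 q hq).2

theorem DCov.cen_le2 [Finite G] {P : List (Y × ℕ)} (h : DCov φ.range P) (hφ : Function.Injective φ)
    (hx : stabilizer G x0 = φ.range) (fs : List ℕ) (hf : List.Forall₂ (fun q f => OrbLe φ γ x0 q.1 f) P fs)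
    {c : ℕ} (hc : Nat.card (centralizer {γ}) ≤ c) : Nat.card (centralizer {φ γ}) ≤ fs.sum * c := by
  have h1 : (orbit (centralizer {φ γ}) x0 ∩ {x | ∃ q ∈ P, x ∈ orbit φ.range q.1}).ncard ≤ fs.sum := by
    clear h
    induction hf with
    | nil => simp
    | @cons q f P fs a _ ih =>
      have e1 : {x | ∃ r ∈ q :: P, x ∈ orbit φ.range r.1} =
          orbit φ.range q.1 ∪ {x | ∃ r ∈ P, x ∈ orbit φ.range r.1} := by
        ext x; simp
      rw [e1, Set.inter_union_distrib_left, List.sum_cons]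
      exact (Set.ncard_union_le _ _).trans (Nat.add_le_add a ih)
  rw [h.univ, Set.inter_univ] at h1
  rw [card_eq_orbit_mul_inf _ x0, hx]
  refine Nat.mul_le_mul h1 (le_trans ?_ hc)
  rw [← card_map_of_injective hφ]
  have : Finite Γ := Finite.of_injective φ hφ
  refine card_le_of_le ?_
  rintro _ ⟨hg, δ, rfl⟩
  exact ⟨δ, mem_centralizer_singleton_iff.mpr (hφ (by
    rw [map_mul, map_mul]; exact mem_centralizer_singleton_iff.mp hg)), rfl⟩

theorem cen_le_of_low [Finite G] (hφ : Function.Injective φ) {B : TabAct G (Cj G)} {b k c : ℕ}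
    (h : B.Lower φ.range [b] k) (hb : B.c b = Cj.mk (φ γ)) (h0 : 0 < k) (hc : Nat.card φ.range ≤ k * c) :
    Nat.card (centralizer {γ}) ≤ c := by
  rw [← card_map_of_injective hφ]
  refine (card_le_of_le ?_).trans (h.card_inf_le h0 hc)
  rintro _ ⟨δ, hδ, rfl⟩
  refine ⟨⟨δ, rfl⟩, B.mem_fx.mpr fun x hx => ?_⟩
  rw [List.mem_singleton.mp hx, hb, Cj.smul_mk, ← map_mul, mem_centralizer_singleton_iff.mp hδ, map_mul,
    mul_inv_cancel_right]

/-- the word leading to a point -/
noncomputable def dW (z : ℕ) (ws : List (List ℕ)) : List ℕ :=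
  List.rec [] (fun u _ ih => appL ih (appL u [z])) ws

theorem dpt_eq {E : ℕ → G} {a z : ℕ} {ws : List (List ℕ)} (h : okS a ws = true) :
    dpt (cut a E) (E z) x0 ws = (lprod E (dW z ws))⁻¹ • x0 := by
  induction ws with
  | nil => simp [dpt, dW]
  | cons u ws ih =>
    rw [okS_iff, List.forall_mem_cons, ← okS_iff] at h
    show _ = (lprod E (appL (dW z ws) (appL u [z])))⁻¹ • x0
    rw [dpt, ih h.2, lprod_cut h.1, lprod_appL, lprod_appL, lprod_single, mul_inv_rev, mul_inv_rev, mul_smul, mul_smul]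

end cen

section sets
variable {G T X Y : Type*} [Group G] [Group T] [MulAction G X] [MulAction T Y]

/-- the set coded by a mask -/
def TabAct.sets (B : TabAct T Y) (m : ℕ) : Set Y := {y | ∃ x < B.n, tb m x = true ∧ B.c x = y}

/-- a pair of words respects the labelling by sets -/
noncomputable def setChk (ap ap' : ℕ → ℕ → ℕ) (L L' n n' : ℕ) (o β : List ℕ) (u v π : List ℕ) : Bool :=
  okW L u && okW L' v && allLt (lenL o) fun j => Nat.blt (nth o j) n && Nat.blt (nth π j) (lenL o) &&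
    Nat.beq (tr ap u (nth o j)) (nth o (nth π j)) &&
    allLt n' fun x => beqB (tb (nth β j) x) (tb (nth β (nth π j)) (tr ap' v x))

/-- the relation given by a labelling -/
noncomputable def setRel (A : TabAct G X) (B : TabAct T Y) (o β : List ℕ) : Submonoid (G × T) :=
  Rel (fun j => A.c (nth o j)) (fun j => B.sets (nth β j)) o.length

variable {A : TabAct G X} {B : TabAct T Y} {o β : List ℕ}

theorem setRel_of (hf : B.Full) {u v π : List ℕ} (h : setChk A.ap B.ap A.L B.L A.n B.n o β u v π = true) :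
    (lprod A.e u, lprod B.e v) ∈ setRel A B o β := fun j hj => by
  simp only [setChk, Bool.and_eq_true, allLt_iff, lenL_eq, Nat.blt_eq, nbeq_iff, beqB_iff] at h
  obtain ⟨⟨⟨h1, h2⟩, h3⟩, h4⟩ := h.2 j hj
  refine ⟨_, h2, (A.tr_spec h.1.1 h1).2.trans (congrArg A.c h3), Set.ext fun y => ?_⟩
  obtain ⟨x, hx, e⟩ := hf (lprod B.e v • y)
  have e1 := B.tr_spec h.1.2 hx
  rw [e, inv_smul_smul] at e1
  rw [Set.mem_inv_smul_set_iff, ← e]
  refine ⟨fun ⟨x', a, b, c⟩ => ⟨_, e1.1, by rw [← h4 x hx, ← B.inj _ a _ hx c, b], e1.2.symm⟩,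
    fun ⟨x', a, b, c⟩ => ⟨x, hx, by rw [h4 x hx, ← B.inj _ a _ e1.1 (c.trans e1.2), b], rfl⟩⟩

theorem setRel_one (hf : B.Full) {bs : List ℕ} (hb : B.Base ⊤ bs) (js : List (List ℕ))
    (H : (allLt (lenL o) (fun j => Nat.blt (nth o j) A.n && Nat.beq (idxL o (nth o j)) j) &&
      all2 bs (fun b s => allL s (fun j => Nat.blt j (lenL o) && tb (nth β j) b) &&
        allLt B.n fun x => Nat.beq x b || !allL s fun j => tb (nth β j) x) js) = true) (t : T)
    (h : ((1 : G), t) ∈ setRel A B o β) : MonoidHom.id T t = 1 := by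
  simp only [Bool.and_eq_true, allLt_iff, lenL_eq, Nat.blt_eq, nbeq_iff] at H
  have h1 := Rel.fix (fun i hi j hj e => by
    rw [← (H.1 i hi).2, A.inj _ (H.1 i hi).1 _ (H.1 j hj).1 e, (H.1 j hj).2]) h
  refine hb.eq_one fun b hb' => ?_
  obtain ⟨s, hs⟩ := all2_spec H.2 b hb'
  simp only [Bool.and_eq_true, allLt_iff, allL_iff, lenL_eq, Nat.blt_eq, nbeq_iff, Bool.or_eq_true,
    Bool.not_eq_true'] at hs
  obtain ⟨x, hx, e⟩ := hf (t • B.c b)
  rcases hs.2 x hx with a | a
  · exact e.symm.trans (congrArg B.c a)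
  · refine absurd (allL_iff.mpr fun j hj => ?_) (Bool.eq_false_iff.mp a)
    obtain ⟨x', a1, a2, a3⟩ : t • B.c b ∈ B.sets (nth β j) :=
      h1 j (hs.1 j hj).1 ▸ Set.smul_mem_smul_set ⟨b, hb.1 b hb', (hs.1 j hj).2, rfl⟩
    rw [← B.inj _ a1 _ hx (a3.trans e.symm), a2]

end sets

theorem m24tab_full (Ts : List ℕ) (h : allL Ts A24.okb = true) : (m24tab Ts h).Full :=
  fun p => ⟨gC.idx p, gC.idx_lt p, gC.pt_idx p⟩

theorem j4_shape {G : Type*} [Group G] [Finite G] {C Q N : Subgroup G} {S : Subgroup M24} (h : QH C N S)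
    (hS : Nat.card S = 887040) (h22 : Spor.M22.subgroupOf M24 ≤ S) (hC : Nat.card C = 24576 * 887040) (hQN : Q ≤ N)
    (hQ : C ≤ normalizer (Q : Set G)) (h1 : Nat.card Q = 2 ^ 13) (h2 : IsExtraspecial 2 Q) :
    ∃ Q N M : Subgroup C, Q.Normal ∧ N.Normal ∧ Q ≤ N ∧ N ≤ M ∧ Nat.card Q = 2 ^ 13 ∧ IsExtraspecial 2 Q ∧
      Nat.card N = 3 * 2 ^ 13 ∧ M.index = 2 ∧ ∃ _ : (N.subgroupOf M).Normal, IsM22 (M ⧸ N.subgroupOf M) := by
  obtain ⟨h0, f, rfl, e⟩ := h
  have e1 := subgroupOfEquivOfLe (hQN.trans h0)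
  have e2 : Spor.M22.subgroupOf M24 ≃* Spor.M22 := subgroupOfEquivOfLe (inf_le_left.trans inf_le_left)
  have c2 := (Nat.card_congr e2.toEquiv).trans card_M22
  have a1 := f.ker.card_mul_index
  rw [index_ker, hS, hC] at a1
  have a2 := ((Spor.M22.subgroupOf M24).subgroupOf f.range).index_mul_card
  rw [hS, Nat.card_congr (subgroupOfEquivOfLe h22).toEquiv, c2] at a2
  have a3 : (f.comp ((Spor.M22.subgroupOf M24).comap f).subtype).range = Spor.M22.subgroupOf M24 := by
    rw [MonoidHom.range_comp, range_subtype, map_comap_eq_self h22]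
  have e3 := (QuotientGroup.quotientKerEquivRange (f.comp ((Spor.M22.subgroupOf M24).comap f).subtype)).trans
    ((MulEquiv.subgroupCongr a3).trans e2)
  have := simple_M22
  refine ⟨Q.subgroupOf C, f.ker, (Spor.M22.subgroupOf M24).comap f, (normal_subgroupOf_iff_le_normalizer (hQN.trans h0)).mpr hQ,
    inferInstance, e ▸ subgroupOf_mono C hQN, fun x hx => by rw [mem_comap, (hx : f x = 1)]; exact one_mem _,
    (Nat.card_congr e1.toEquiv).trans h1, H3.isExtraspecial_of_equiv h2 e1.symm, by omega, ?_, inferInstance,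
    e3.isSimpleGroup, (Nat.card_congr e3.toEquiv).trans card_M22⟩
  rw [index_comap, relIndex]; omega

end Cfsg.Agent.H15
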