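import Mathlib
import Cfsg.Agent.H15.Big11
import Cfsg.Agent.H27.Schur4

/-!
# Split extensions of an elementary abelian 2-group given by codes: central extensions
-/

set_option autoImplicit false

namespace Cfsg.Agent.H15

open Cfsg.Agent.H14 MulAction Subgroup
open scoped commutatorElement Pointwise

theorem exists_word {G : Type*} [Group G] [Finite G] {e : ℕ → G} {L : ℕ} {x : G} (h : x ∈ cl e L) :
    ∃ u, okW L u = true ∧ lprod e u = x := by
  let R : Submonoid G := ⟨⟨{x | ∃ u, okW L u = true ∧ lprod e u = x}, by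
    rintro _ _ ⟨u, a, rfl⟩ ⟨v, b, rfl⟩
    exact ⟨u ++ v, okW_iff.mpr (List.forall_mem_append.mpr ⟨okW_iff.mp a, okW_iff.mp b⟩), lprod_append _ _ _⟩⟩,
    ⟨[], rfl, rfl⟩⟩
  exact (cl_le (K := ⟨R, inv_mem_sub⟩)).mpr (fun l hl => ⟨[l], okW_iff.mpr (by simpa using hl), lprod_single l⟩) h

theorem vec_xor (a b i : ℕ) : vec 2 (a ^^^ b) i % 2 = (vec 2 a i + vec 2 b i) % 2 := by
  simp only [vec, ← Nat.toNat_testBit, Nat.testBit_xor]
  cases a.testBit i <;> cases b.testBit i <;> rfl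

/-- translations by codes -/
def xors (ds : List ℕ) : List (ℕ → ℕ) := ds.map fun d v => v ^^^ d

/-- the sum of the codes met along a word -/
noncomputable def acc (ap : ℕ → ℕ → ℕ) (u : List ℕ) : ℕ → ℕ :=
  List.rec (fun _ => 0) (fun l _ ih v => frcN (ap v l) fun y => v ^^^ ih y) u

/-- an elementary abelian 2-group with codes, and a group acting faithfully on it -/
structure XM {S G : Type*} [Group S] [Group G] (φ : S →* G) (e : ℕ → S) (E : Subgroup G) (el : ℕ → G)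
    (ap : ℕ → ℕ → ℕ) (n : ℕ) : Prop where
  mul : ∀ a b, el (a ^^^ b) = el a * el b
  mem : ∀ a ∈ E, ∃ v < n, el v = a
  all : ∀ v, el v ∈ E
  inj : ∀ a < n, ∀ b < n, el a = el b → a = b
  lt : ∀ v l, ap v l < n
  cj : ∀ v, ∀ l < 3, (φ (e l))⁻¹ * el v * φ (e l) = el (ap v l)
  top : cl e 3 = ⊤
  smp : IsSimpleGroup S
  mv : ∃ v < n, ap v 0 ≠ v

theorem comm_commutator {Γ G : Type*} [Group Γ] [Group G] {σ : Γ →* G} (hc : σ.ker ≤ center Γ) {w x y : Γ}
    (hx : Commute (σ w) (σ x)) (hy : Commute (σ w) (σ y)) : Commute w ⁅x, y⁆ := by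
  have := H27.comm_eq_of_eq hc (x := w * x * w⁻¹) (x' := x) (y := w * y * w⁻¹) (y' := y) (by simp [hx.eq])
    (by simp [hy.eq])
  rw [← conjugate_commutatorElement] at this
  exact mul_inv_eq_iff_eq_mul.mp this

theorem exists_section {X Q : Type*} [Group X] [Group Q] {ξ : X →* Q} (hξ : Function.Surjective ξ)
    (h : H27.mult ξ = ⊥) (hQ : commutator Q = ⊤) : ∃ s : Q →* X, ∀ q, ξ (s q) = q := by
  have a : Function.Bijective (ξ.comp (commutator X).subtype) := by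
    refine ⟨(injective_iff_map_eq_one _).mpr fun x hx => Subtype.ext (mem_bot.mp (h.le (H27.mem_mult.mpr ⟨hx, x.2⟩))),
      fun q => ?_⟩
    obtain ⟨x, hx, e⟩ : q ∈ (commutator X).map ξ := by
      rw [map_commutator_eq, MonoidHom.range_eq_top.2 hξ]; exact hQ.ge trivial
    exact ⟨⟨x, hx⟩, e⟩
  exact ⟨(commutator X).subtype.comp (MulEquiv.ofBijective _ a).symm.toMonoidHom,
    (MulEquiv.ofBijective _ a).apply_symm_apply⟩

namespace XM

variable {S G : Type*} [Group S] [Group G] {φ : S →* G} {e : ℕ → S} {E : Subgroup G} {el : ℕ → G}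
  {ap : ℕ → ℕ → ℕ} {n : ℕ} (h : XM φ e E el ap n)
include h

theorem zero : el 0 = 1 := by simpa using h.mul 0 0

theorem inv (a : ℕ) : (el a)⁻¹ = el a := inv_eq_of_mul_eq_one_left (by rw [← h.mul, Nat.xor_self, h.zero])

theorem comm {a b : G} (ha : a ∈ E) (hb : b ∈ E) : Commute a b := by
  obtain ⟨u, -, rfl⟩ := h.mem a ha
  obtain ⟨v, -, rfl⟩ := h.mem b hb
  exact (h.mul u v).symm.trans ((congrArg el (Nat.xor_comm u v)).trans (h.mul v u))

theorem cjw {u : List ℕ} (hu : okW 3 u = true) (v : ℕ) :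
    (φ (lprod e u))⁻¹ * el v * φ (lprod e u) = el (tr ap u v) := by
  induction u generalizing v with
  | nil => simp [tr]
  | cons l u ih =>
    rw [okW_iff, List.forall_mem_cons, ← okW_iff] at hu
    rw [tr_cons, ← ih hu.2, ← h.cj v l hu.1, lprod_cons, map_mul]; group

theorem nrm [Finite S] (m : S) {a : G} (ha : a ∈ E) : (φ m)⁻¹ * a * φ m ∈ E := by
  obtain ⟨u, hu, rfl⟩ := exists_word (h.top.ge (mem_top m))
  obtain ⟨v, -, rfl⟩ := h.mem a ha
  rw [h.cjw hu]; exact h.all _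

theorem nrm' [Finite S] (m : S) {a : G} (ha : a ∈ E) : φ m * a * (φ m)⁻¹ ∈ E := by simpa using h.nrm m⁻¹ ha

theorem le_N [Finite S] : φ.range ≤ normalizer (E : Set G) := by
  rintro _ ⟨m, rfl⟩
  exact mem_normalizer_iff.mpr fun a => ⟨h.nrm' m, fun b => by simpa [mul_assoc] using h.nrm m b⟩

theorem ker [Finite S] (m : S) (hm : φ m ∈ centralizer (E : Set G)) : m = 1 := by
  have := h.smp
  have hn : ((centralizer (E : Set G)).comap φ).Normal := ⟨fun x hx k => mem_centralizer_iff.mpr fun a ha => by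
    have := mem_centralizer_iff.mp hx _ (h.nrm k ha)
    rw [map_mul, map_mul, map_inv]
    calc _ = φ k * ((φ k)⁻¹ * a * φ k * φ x) * (φ k)⁻¹ := by group
      _ = _ := by rw [this]; group⟩
  refine (hn.eq_bot_or_eq_top.resolve_right fun t => ?_).le hm
  obtain ⟨v, hv, a⟩ := h.mv
  refine a (h.inj _ (h.lt _ _) _ hv ?_)
  rw [← h.cj v 0 (by omega), mul_assoc, mem_centralizer_iff.mp (t.ge (mem_top (e 0))) _ (h.all v), inv_mul_cancel_left]

theorem one [Finite S] {m : S} (hm : φ m ∈ E) : m = 1 := h.ker m (mem_centralizer_iff.mpr fun _ ha => h.comm ha hm)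

theorem dec [Finite S] {x : G} (hx : x ∈ E ⊔ φ.range) : ∃ m v, v < n ∧ x = φ m * el v := by
  obtain ⟨_, ⟨m, rfl⟩, a, ha, rfl⟩ := (coe_mul_of_left_le_normalizer_right _ _ h.le_N).le (sup_comm E _ ▸ hx)
  obtain ⟨v, hv, rfl⟩ := h.mem a ha
  exact ⟨m, v, hv, rfl⟩

theorem span {K : Subgroup G} {ds : List ℕ} (hd : ∀ d ∈ ds, el d ∈ K) (H : coverF (xors ds) [0] n = true) : E ≤ K :=
  fun a ha => by
  obtain ⟨v, hv, rfl⟩ := h.mem a ha
  refine coverF_spec H (fun v => el v ∈ K) (fun c hc f hf => ?_) (by simp [h.zero]) v hv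
  obtain ⟨d, hd', rfl⟩ := List.mem_map.mp hf
  exact h.mul c d ▸ mul_mem hc (hd d hd')

variable {Γ : Type*} [Group Γ] {σ : Γ →* G} {s : S →* Γ}

theorem lift {K : Subgroup Γ} (hK : σ.ker ≤ K) {ds : List ℕ} (hd : ∀ d ∈ ds, ∃ a ∈ K, σ a = el d)
    (H : coverF (xors ds) [0] n = true) : E.comap σ ≤ K :=
  (comap_mono (h.span (K := K.map σ) hd H)).trans (comap_map_eq_self hK).le

theorem ab [Finite S] (hσ : Function.Surjective σ) (hc : σ.ker ≤ center Γ) (hs : ∀ m, σ (s m) = φ m) (w : ℕ)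
    (ks : List (List ℕ × ℕ)) (us : List (List ℕ))
    (H : (allL ks (fun k => okW 3 k.1 && Nat.beq (tr ap k.1 w) w) &&
      coverF (xors (ks.map fun k => k.2 ^^^ tr ap k.1 k.2)) [0] n && okS 3 us &&
      coverF (xors (us.map fun u => tr ap u w)) [0] n) = true) :
    E.comap σ ≤ centralizer (E.comap σ : Set Γ) := by
  simp only [Bool.and_eq_true, allL_iff, nbeq_iff, okS_iff] at H
  obtain ⟨a, ha⟩ := hσ (el w)
  have h1 : E.comap σ ≤ centralizer {a} := by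
    refine h.lift (hc.trans (center_le_centralizer _)) (List.forall_mem_map.mpr fun k hk => ?_) H.1.1.2
    obtain ⟨b, hb⟩ := hσ (el k.2)
    have e1 := h.cjw (H.1.1.1 k hk).1 w
    rw [(H.1.1.1 k hk).2, mul_assoc, inv_mul_eq_iff_eq_mul] at e1
    refine ⟨⁅b, (s (lprod e k.1))⁻¹⁆, mem_centralizer_singleton_iff.mpr (comm_commutator hc ?_ ?_).symm, ?_⟩
    · rw [ha, hb]; exact h.comm (h.all _) (h.all _)
    · rw [ha, map_inv, hs]; exact Commute.inv_right e1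
    · rw [map_commutatorElement, map_inv, hs, hb, h.mul, ← h.cjw (H.1.1.1 k hk).1, commutatorElement_def, h.inv]
      group
  refine h.lift (hc.trans (center_le_centralizer _)) (List.forall_mem_map.mpr fun u hu => ?_) H.2
  refine ⟨(s (lprod e u))⁻¹ * a * s (lprod e u), mem_centralizer_iff.mpr fun b hb => ?_, ?_⟩
  · have := mem_centralizer_singleton_iff.mp (h1 (x := s (lprod e u) * b * (s (lprod e u))⁻¹) (by
      rw [mem_comap, map_mul, map_mul, map_inv, hs]; exact h.nrm' _ hb))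
    calc _ = (s (lprod e u))⁻¹ * (s (lprod e u) * b * (s (lprod e u))⁻¹ * a) * s (lprod e u) := by group
      _ = _ := by rw [this]; group
  · rw [map_mul, map_mul, map_inv, hs, ha, h.cjw (H.1.2 u hu)]

theorem no2 [Finite S] (hc : σ.ker ≤ center Γ) (hs : ∀ m, σ (s m) = φ m)
    (hA : E.comap σ ≤ centralizer (E.comap σ : Set Γ)) (h2 : e 0 * e 0 = 1) (h3 : e 1 * e 1 = e 2) {k : ℕ} (hk : (e 0 * e 1) ^ k = 1)
    (rs : List (List ℕ × ℕ)) (hr : ∀ r ∈ rs, okW 2 r.1 = true ∧ lprod e r.1 = 1)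
    (H : coverF (xors (rs.map fun r => acc ap r.1 r.2)) [0] n = true) (hσ : Function.Surjective σ) {w : Γ}
    (hw : σ w = 1) (hw' : w ∈ ⁅(E ⊔ φ.range).comap σ, (E ⊔ φ.range).comap σ⁆) : w ^ k = 1 := by
  have cm : ∀ {a b}, a ∈ E.comap σ → b ∈ E.comap σ → a * b = b * a := fun ha hb => mem_centralizer_iff.mp (hA hb) _ ha
  have cj : ∀ m {a}, a ∈ E.comap σ → (s m)⁻¹ * a * s m ∈ E.comap σ := fun m a ha => by
    rw [mem_comap, map_mul, map_mul, map_inv, hs]; exact h.nrm m ha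
  have cj' : ∀ m {a}, a ∈ E.comap σ → s m * a * (s m)⁻¹ ∈ E.comap σ := fun m a ha => by simpa using cj m⁻¹ ha
  generalize hg : e 0 * e 1 = g at hk
  have n1 : ∀ j : ℕ, ∀ a ∈ E.comap σ, (a * s g) ^ j * (s g ^ j)⁻¹ ∈ E.comap σ ∧ ∀ b ∈ E.comap σ,
      (a * b * s g) ^ j * (s g ^ j)⁻¹ = (a * s g) ^ j * (s g ^ j)⁻¹ * ((b * s g) ^ j * (s g ^ j)⁻¹) := by
    intro j
    induction j with
    | zero => simp
    | succ j ih =>
      have e1 : ∀ a : Γ, (a * s g) ^ (j + 1) * (s g ^ (j + 1))⁻¹ =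
          a * (s g * ((a * s g) ^ j * (s g ^ j)⁻¹) * (s g)⁻¹) := fun a => by rw [pow_succ', pow_succ']; group
      refine fun a ha => ⟨e1 a ▸ mul_mem ha (cj' g (ih a ha).1), fun b hb => ?_⟩
      rw [e1, e1, e1, (ih a ha).2 b hb, mul_assoc a (s g * _ * _), ← mul_assoc _ b, cm (cj' g (ih a ha).1) hb]; group
  have hk' : s g ^ k = 1 := by rw [← map_pow, hk, map_one]
  obtain ⟨N, hN⟩ : ∃ N : Γ → Γ, ∀ a, N a = (a * s g) ^ k := ⟨_, fun _ => rfl⟩
  have nm : ∀ a ∈ E.comap σ, N a ∈ E.comap σ := fun a ha => by simpa [hk', hN] using (n1 k a ha).1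
  have nx : ∀ a ∈ E.comap σ, ∀ b ∈ E.comap σ, N (a * b) = N a * N b := fun a ha b hb => by
    simpa [hk', hN] using (n1 k a ha).2 b hb
  have n0 : N 1 = 1 := by rw [hN, one_mul, hk']
  have ni : ∀ a ∈ E.comap σ, N a⁻¹ = (N a)⁻¹ := fun a ha =>
    eq_inv_of_mul_eq_one_left (by rw [← nx _ (inv_mem ha) _ ha, inv_mul_cancel, n0])
  have ng : ∀ a ∈ E.comap σ, N ((s g)⁻¹ * a * s g) = N a := fun a ha => by
    have c1 : Commute (a * s g) (N a) := hN a ▸ Commute.self_pow _ _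
    have c2 := (Commute.inv_left (cm ha (nm a ha))).mul_left c1
    rw [inv_mul_cancel_left] at c2
    rw [hN, show (s g)⁻¹ * a * s g * s g = (s g)⁻¹ * (a * s g) * (s g)⁻¹⁻¹ by group, conj_pow, ← hN, inv_inv,
      mul_assoc, ← c2.eq, inv_mul_cancel_left]
  have nl : ∀ l < 2, ∀ a ∈ E.comap σ, N ((s (e l))⁻¹ * a * s (e l)) = N ((s (e 0))⁻¹ * a * s (e 0)) := by
    intro l hl a ha
    interval_cases l
    · rfl
    · rw [← ng _ (cj (e 0) ha), show e 1 = e 0 * g by rw [← hg, ← mul_assoc, h2, one_mul], map_mul]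
      congr 1; group
  let I : Subgroup Γ := ⟨⟨⟨{a | a ∈ E.comap σ ∧ N ((s (e 0))⁻¹ * a * s (e 0)) = N a}, fun {a b} ha hb =>
    ⟨mul_mem ha.1 hb.1, by rw [nx _ ha.1 _ hb.1, ← ha.2, ← hb.2, ← nx _ (cj _ ha.1) _ (cj _ hb.1)]; congr 1; group⟩⟩,
    ⟨one_mem _, by simp⟩⟩, fun {a} ha => ⟨inv_mem ha.1, by rw [ni _ ha.1, ← ha.2, ← ni _ (cj _ ha.1)]; congr 1; group⟩⟩
  have wd : ∀ u, okW 2 u = true → ∀ v a, σ a = el v → ∃ b, σ b = el (acc ap u v) ∧
      N ((s (lprod e u))⁻¹ * a * s (lprod e u)) * N b = N ((s (e 0))⁻¹ * b * s (e 0)) * N a := by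
    intro u hu
    induction u with
    | nil => exact fun v a _ => ⟨1, by rw [map_one]; exact h.zero.symm, by simp [n0]⟩
    | cons l u ih =>
      rw [okW_iff, List.forall_mem_cons, ← okW_iff] at hu
      intro v a ha
      have ha' : a ∈ E.comap σ := by rw [mem_comap, ha]; exact h.all _
      obtain ⟨b, b1, b2⟩ := ih hu.2 (ap v l) ((s (e l))⁻¹ * a * s (e l)) (by
        rw [map_mul, map_mul, map_inv, hs, ha, h.cj v l (by omega)])
      have hb : b ∈ E.comap σ := by rw [mem_comap, b1]; exact h.all _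
      refine ⟨b * a, by rw [map_mul, ha, b1, ← h.mul, Nat.xor_comm]; rfl, ?_⟩
      rw [nx _ hb _ ha', ← mul_assoc, lprod_cons, map_mul, show (s (e l) * s (lprod e u))⁻¹ * a * (s (e l) * s (lprod e u)) =
        (s (lprod e u))⁻¹ * ((s (e l))⁻¹ * a * s (e l)) * s (lprod e u) by group, b2, nl l hu.1 a ha',
        ← nx _ (cj _ hb) _ (cj _ ha')]
      congr 2; group
  have hI : E.comap σ ≤ I := by
    refine h.lift (fun z hz => ⟨by rw [mem_comap, (hz : σ z = 1)]; exact one_mem _, by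
      rw [mul_assoc, ← mem_center_iff.mp (hc hz), inv_mul_cancel_left]⟩) (List.forall_mem_map.mpr fun r hr' => ?_) H
    obtain ⟨a, ha⟩ := hσ (el r.2)
    obtain ⟨b, b1, b2⟩ := wd r.1 (hr r hr').1 r.2 a ha
    have hb : b ∈ E.comap σ := by rw [mem_comap, b1]; exact h.all _
    rw [(hr r hr').2, map_one, inv_one, one_mul, mul_one, cm (nm a (by rw [mem_comap, ha]; exact h.all _)) (nm b hb),
      mul_left_inj] at b2
    exact ⟨b, ⟨hb, b2.symm⟩, b1⟩
  have nv : ∀ m, ∀ a ∈ E.comap σ, N (s m * a * (s m)⁻¹) = N a := fun m => by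
    let R : Submonoid S := ⟨⟨{m | ∀ a ∈ E.comap σ, N ((s m)⁻¹ * a * s m) = N a}, fun {x y} hx hy a ha => by
      rw [← hx a ha, ← hy _ (cj x ha), map_mul]; congr 1; group⟩, by simp⟩
    have a0 : e 0 ∈ R := fun a ha => (hI ha).2
    have a1 : e 1 ∈ R := fun a ha => (nl 1 (by omega) a ha).trans (hI ha).2
    intro a ha
    simpa using (cl_le (K := ⟨R, inv_mem_sub⟩)).mpr (fun l hl => by
      interval_cases l; exacts [a0, a1, h3 ▸ R.mul_mem a1 a1]) (h.top.ge (mem_top m⁻¹)) a ha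
  let K : Subgroup Γ := ⟨⟨⟨{x | ∃ a ∈ E.comap σ, ∃ m, N a = 1 ∧ a * s m = x}, by
    rintro _ _ ⟨a, ha, m, a1, rfl⟩ ⟨b, hb, m', b1, rfl⟩
    exact ⟨a * (s m * b * (s m)⁻¹), mul_mem ha (cj' m hb), m * m', by rw [nx _ ha _ (cj' m hb), nv m b hb, a1, b1, one_mul],
      by rw [map_mul]; group⟩⟩, ⟨1, one_mem _, 1, n0, by simp⟩⟩, by
    rintro _ ⟨a, ha, m, a1, rfl⟩
    exact ⟨s m⁻¹ * a⁻¹ * (s m⁻¹)⁻¹, cj' _ (inv_mem ha), m⁻¹, by rw [nv _ _ (inv_mem ha), ni a ha, a1, inv_one],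
      by rw [map_inv]; group⟩⟩
  have dc : ∀ x ∈ (E ⊔ φ.range).comap σ, ∃ a ∈ E.comap σ, ∃ m, x = a * s m := fun x hx => by
    obtain ⟨m, v, -, e1⟩ := h.dec hx
    exact ⟨x * (s m)⁻¹, by rw [mem_comap, map_mul, map_inv, hs, e1]; exact h.nrm' m (h.all v), m, by group⟩
  obtain ⟨a, ha, m, a1, rfl⟩ : w ∈ K := by
    refine commutator_le.mpr (fun x hx y hy => ?_) hw'
    obtain ⟨a, ha, m, rfl⟩ := dc x hx
    obtain ⟨b, hb, m', rfl⟩ := dc y hy
    have c1 := cj' m hb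
    have c2 := cj' (m * m' * m⁻¹) (inv_mem ha)
    have c3 := cj' (m * m' * m⁻¹ * m'⁻¹) (inv_mem hb)
    refine ⟨_, mul_mem (mul_mem (mul_mem ha c1) c2) c3, m * m' * m⁻¹ * m'⁻¹, ?_, ?_⟩
    · rw [nx _ (mul_mem (mul_mem ha c1) c2) _ c3, nx _ (mul_mem ha c1) _ c2, nx _ ha _ c1, nv _ _ hb, nv _ _ (inv_mem ha),
        nv _ _ (inv_mem hb), ni a ha, ni b hb, cm (nm a ha) (nm b hb)]; group
    · simp only [map_mul, map_inv, commutatorElement_def]; group
  have : m = 1 := h.one (by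
    rw [map_mul, hs, ← eq_inv_iff_mul_eq_one] at hw
    exact (Subgroup.inv_mem_iff E).mp (hw ▸ ha))
  rw [this, map_one, mul_one] at hw ⊢
  rwa [hN, (show Commute a (s g) from (mem_center_iff.mp (hc hw) _).symm).mul_pow, hk', mul_one] at a1

end XM

end Cfsg.Agent.H15
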