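import Mathlib
import Cfsg.Agent.H15.Big12

/-!
# Split extensions of an elementary abelian 2-group given by codes: automorphisms
-/

set_option autoImplicit false

namespace Cfsg.Agent.H15

open Cfsg.Agent.H14 MulAction Subgroup
open scoped commutatorElement Pointwise

theorem WM.LD.nmem {τ : FT} {G : Type*} [Group G] {M : WM τ G} {cs gs Css : List (List ℕ)} {p : ℕ} (h : M.LD cs gs Css p)
    {U : List ℕ} {fs ts : List (List ℕ)} {b v : ℕ}
    (H1 : all2 fs (fun f t => τ.eqW (appL U f) (appL (xw cs t) U)) ts = true)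
    (H2 : anyL fs (fun f => neAt τ.ap τ.L τ.n b (appL (monoW cs p v) f) (appL f (monoW cs p v))) = true) :
    M.w U * M.w (monoW cs p v) * (M.w U)⁻¹ ∉ gp M.e cs := fun h2 => by
  obtain ⟨f, hf, a⟩ := anyL_iff.mp H2
  obtain ⟨t, ht⟩ := all2_spec H1 f hf
  have e := M.eqW ht
  rw [lprod_appL, lprod_appL, ← mul_inv_eq_iff_eq_mul] at e
  have h4 : M.w U * M.w f * (M.w U)⁻¹ ∈ gp M.e cs := e ▸ M.xw_mem cs t
  rw [← List.append_nil cs, WM.gp_app] at h2 h4
  have h5 := inv_mul_eq_one.mp (mem_bot.mp (gp_nil.le (h.sec.comm_mem h.hp h2 h4)))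
  rw [List.append_nil, conj_mul, conj_mul, mul_left_inj, mul_right_inj] at h5
  exact M.neW a (by rw [lprod_appL, lprod_appL]; exact h5.symm)

theorem TabAct.Base.cen_one {G X : Type*} [Group G] [MulAction G X] {A : TabAct G X} {bs : List ℕ} (hb : A.Base ⊤ bs)
    (hf : A.Full) {ws : List (List ℕ)} (H : (okS A.L ws && allL bs fun b => allLt A.n fun x => Nat.beq x b ||
      anyL ws fun u => Nat.beq (tr A.ap u b) b && !Nat.beq (tr A.ap u x) x) = true) {c : G}
    (hc : gp A.e ws ≤ centralizer {c}) : c = 1 := by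
  simp only [Bool.and_eq_true, allL_iff, allLt_iff, Bool.or_eq_true, nbeq_iff, anyL_iff, Bool.not_eq_true', nbeq_false,
    okS_iff] at H
  refine hb.eq_one fun b hb' => ?_
  obtain ⟨x, hx, e⟩ := hf (c • A.c b)
  rcases H.2 b hb' x hx with a | ⟨u, hu, a1, a2⟩
  · rw [← e, a]
  · refine absurd ((A.fix_iff (H.1 u hu) hx).mp ?_) a2
    rw [e, ← mul_smul, mem_centralizer_singleton_iff.mp (hc (mem_gp hu)), mul_smul,
      (A.fix_iff (H.1 u hu) (hb.1 b hb')).mpr a1]

theorem card_cen_aut {G : Type*} [Group G] (α : MulAut G) (x : G) :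
    Nat.card (centralizer {α x}) = Nat.card (centralizer {x}) := by
  refine (Nat.card_congr (α.toEquiv.subtypeEquiv fun g => ?_)).symm
  rw [mem_centralizer_singleton_iff, mem_centralizer_singleton_iff, ← α.injective.eq_iff, map_mul, map_mul]; rfl

theorem conj_into {G : Type*} [Group G] [Finite G] {H : Subgroup G} (h : ¬ 2 ∣ H.index) {s : G} (hs : s * s = 1) :
    ∃ g, g⁻¹ * s * g ∈ H := by
  have : IsPGroup 2 (zpowers s) := IsPGroup.of_card_dvd_pow (n := 1) (by
    rw [Nat.card_zpowers]; exact orderOf_dvd_of_pow_eq_one ((pow_two s).trans hs))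
  obtain ⟨x, hx⟩ := this.nonempty_fixed_point_of_prime_not_dvd_card (G ⧸ H) h
  obtain ⟨g, rfl⟩ := QuotientGroup.mk_surjective x
  exact ⟨g, by simpa [mul_assoc] using QuotientGroup.eq.mp (hx ⟨s, mem_zpowers s⟩).symm⟩

/-- inner automorphisms -/
def IsInn {G : Type*} [Group G] (α : MulAut G) : Prop := ∃ g, MulAut.conj g = α

theorem IsInn.of {G : Type*} [Group G] {α : MulAut G} (g : G) (h : IsInn (MulAut.conj g * α)) : IsInn α :=
  let ⟨k, e⟩ := h
  ⟨g⁻¹ * k, by rw [map_mul, e, map_inv, inv_mul_cancel_left]⟩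

/-- the affine action belonging to a cocycle -/
noncomputable def afA (ap : ℕ → ℕ → ℕ) (d v l : ℕ) : ℕ := ap v l ^^^ Bool.rec (ap d 1) d (Nat.beq l 0)

namespace XM

variable {S G : Type*} [Group S] [Group G] {φ : S →* G} {e : ℕ → S} {E : Subgroup G} {el : ℕ → G}
  {ap : ℕ → ℕ → ℕ} {n : ℕ} (h : XM φ e E el ap n)
include h

/-- the action on the codes -/
def tab : TabAct S (Vb φ (Cj G)) where
  e := e
  L := 3
  n := n
  ap := ap
  c v := Cj.mk (el v)
  lt x _ l _ := h.lt x l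
  act x _ l hl := by
    show Cj.mk (φ (e l)⁻¹ * el x * (φ (e l)⁻¹)⁻¹) = _
    rw [map_inv, inv_inv, h.cj x l hl]
  inj := h.inj

theorem fx {bs : List ℕ} {m : S} : m ∈ h.tab.fx bs ↔ ∀ b ∈ bs, φ m * el b = el b * φ m :=
  h.tab.mem_fx.trans (forall₂_congr fun _ _ => mul_inv_eq_iff_eq_mul (G := G))

theorem trl {u : List ℕ} (hu : okW 3 u = true) {v : ℕ} (hv : v < n) : tr ap u v < n := (h.tab.tr_spec hu hv).1

theorem msk [Finite S] {D w : ℕ}
    (H : (Nat.blt w n && tb D w && allLt n fun v => !tb D v || allLt 3 fun l => tb D (ap v l)) = true)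
    {x : G} (hx : x ∈ E ⊔ φ.range) : ∃ v < n, tb D v = true ∧ x⁻¹ * el w * x = el v := by
  simp only [Bool.and_eq_true, allLt_iff, Bool.or_eq_true, Bool.not_eq_true', Nat.blt_eq] at H
  obtain ⟨m, v, -, rfl⟩ := h.dec hx
  obtain ⟨u, hu, rfl⟩ := exists_word (h.top.ge (mem_top m))
  have : ∀ y < n, tb D y = true → tr ap u y < n ∧ tb D (tr ap u y) = true := by
    clear hx
    induction u with
    | nil => exact fun y a b => ⟨a, b⟩
    | cons l u ih =>
      rw [okW_iff, List.forall_mem_cons, ← okW_iff] at hu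
      exact fun y a b => tr_cons ap l u y ▸ ih hu.2 _ (h.lt _ _) ((H.2 y a).resolve_left (by simp [b]) l hu.1)
  refine ⟨_, (this w H.1.1 H.1.2).1, (this w H.1.1 H.1.2).2, ?_⟩
  rw [mul_inv_rev, mul_assoc (el v)⁻¹, ← mul_assoc _ _ (el v), mul_assoc (el v)⁻¹, h.cjw hu, mul_assoc,
    (h.comm (h.all _) (h.all v)).eq, inv_mul_cancel_left]

theorem le_NH [Finite S] : E ⊔ φ.range ≤ normalizer (E : Set G) := sup_le le_normalizer h.le_N

theorem char [Finite S] [Finite G] {w : ℕ} (hW : centralizer {el w} ≤ E ⊔ φ.range) {vs : List (List ℕ)}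
    (hv : okS 3 vs = true) (hK : h.tab.fx [w] = gp e vs) {fuel b : ℕ} {bs : List ℕ}
    (H : (copChk (h.tab.comp vs hv).ap vs.length n 2 fuel b bs && coverF (xors bs) [0] n) = true) {α : MulAut G}
    (ha : α (el w) = el w) : E.map α.toMonoidHom ≤ E := by
  rw [Bool.and_eq_true] at H
  have c0 : E ≤ centralizer {el w} := fun a b => mem_centralizer_singleton_iff.mpr (h.comm b (h.all w))
  have c1 : E.map α.toMonoidHom ≤ centralizer {el w} := by
    rintro _ ⟨a, b, rfl⟩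
    rw [mem_centralizer_singleton_iff, ← ha]
    exact (map_mul α _ _).symm.trans ((congrArg α (h.comm b (h.all w))).trans (map_mul α _ _))
  have c2 : centralizer {el w} ≤ normalizer (E.map α.toMonoidHom : Set G) := fun c hc => by
    obtain ⟨c, rfl⟩ := α.surjective c
    refine le_normalizer_map α.toMonoidHom ⟨c, h.le_NH (hW ?_), rfl⟩
    rw [mem_centralizer_singleton_iff, ← ha, ← map_mul, ← map_mul] at hc
    exact mem_centralizer_singleton_iff.mpr (α.injective hc)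
  have c3 : ∀ m, m ∈ cl (h.tab.comp vs hv).e vs.length ↔ φ m ∈ centralizer {el w} := fun m => by
    rw [show cl (h.tab.comp vs hv).e vs.length = gp e vs from cl_nth e vs, ← hK, h.fx, mem_centralizer_singleton_iff]; simp
  have p0 : IsPGroup 2 E := fun a => ⟨1, Subtype.ext (by
    obtain ⟨v, -, b⟩ := h.mem a a.2
    rw [pow_one, pow_two, coe_mul, ← b, ← h.mul, Nat.xor_self, h.zero, coe_one])⟩
  have p1 := ((p0.map α.toMonoidHom).to_sup_of_normal_right' p0 (c1.trans (hW.trans h.le_NH))).comap_of_injective φ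
    ((injective_iff_map_eq_one φ).mpr fun m a => h.one (a ▸ one_mem E))
  have : (((E.map α.toMonoidHom ⊔ E).comap φ).subgroupOf (cl (h.tab.comp vs hv).e vs.length)).Normal :=
    normal_subgroupOf_of_le_normalizer fun m hm => le_normalizer_comap φ
      (normalizer_inf_normalizer_le_normalizer_sup _ _ ⟨c2 ((c3 m).mp hm), h.le_N ⟨m, rfl⟩⟩)
  intro f hf
  obtain ⟨m, v, -, rfl⟩ := h.dec (hW (c1 hf))
  have m1 : φ m ∈ E.map α.toMonoidHom ⊔ E := (mul_mem_cancel_right (mem_sup_right (h.all v))).mp (mem_sup_left hf)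
  have m2 := (h.fx (m := m)).mp (h.tab.mem_fx.mpr ((TabAct.mem_fx _).mp ((h.tab.comp vs hv).fix_cop H.1
    ⟨⟨m, (c3 m).mpr (sup_le c1 c0 m1)⟩, H2.le_pCore (hN := this) p1.comap_subtype m1, rfl⟩) :))
  rw [h.ker m (mem_centralizer_iff.mpr fun a ha' => mem_centralizer_singleton_iff.mp
    (h.span (K := centralizer {φ m}) (fun d hd => mem_centralizer_singleton_iff.mpr (m2 d hd).symm) H.2 ha')), map_one, one_mul]
  exact h.all v

theorem red [Finite S] [Finite G] (ho : Nat.card (Out S) = 1) {α : MulAut G} (ha : E.map α.toMonoidHom ≤ E)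
    (hb : ∀ m, α (φ m) ∈ E ⊔ φ.range) : ∃ k, ∀ m, (φ m)⁻¹ * (MulAut.conj (φ k) * α) (φ m) ∈ E := by
  choose β v _ hβ using fun m => h.dec (hb m)
  have a1 : ∀ m, (φ (β m))⁻¹ * α (φ m) ∈ E := fun m => by rw [hβ, inv_mul_cancel_left]; exact h.all _
  let B : S →* S := MonoidHom.mk' β fun a b => (inv_mul_eq_one.mp (h.one (by
    have := mul_mem (a1 (a * b)) (inv_mem (mul_mem (h.nrm (β b) (a1 a)) (a1 b)))
    rw [map_mul φ, map_mul α] at this
    rw [map_mul, map_mul, map_inv]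
    convert this using 1; group)))
  have a2 : Function.Injective B := (injective_iff_map_eq_one B).mpr fun m a => h.one (by
    have := a1 m
    rw [show β m = 1 from a, map_one, inv_one, one_mul,
      ← eq_of_le_of_card_ge ha (card_map_of_injective α.injective).ge] at this
    exact (mem_map_iff_mem (f := α.toMonoidHom) α.injective).mp this)
  obtain ⟨k, hk⟩ := (index_eq_one.mp ((index_eq_card _).trans ho)).ge
    (mem_top (MulEquiv.ofBijective B ⟨a2, Finite.surjective_of_injective a2⟩))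
  refine ⟨k⁻¹, fun m => ?_⟩
  have := h.nrm k (a1 m)
  rw [← show k * m * k⁻¹ = β m from DFunLike.congr_fun hk m] at this
  simp only [map_mul, map_inv, MulAut.mul_apply, MulAut.conj_inv_apply] at this ⊢
  convert this using 1; group

theorem cent [Finite S] {w : ℕ} {vs us : List (List ℕ)} (H : (okS 3 vs && fixAt ap vs w && Nat.blt 0 w && Nat.blt w n &&
      allLt n (fun v => Nat.beq v 0 || Nat.beq v w || !fixAt ap vs v) && okS 3 us &&
      coverF (xors (us.map fun u => tr ap u w)) [0] n) = true) {α : MulAut G} (ha : E.map α.toMonoidHom ≤ E)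
    (hb : ∀ m, (φ m)⁻¹ * α (φ m) ∈ E) : ∀ a ∈ E, α a = a := by
  simp only [Bool.and_eq_true, allLt_iff, Bool.or_eq_true, nbeq_iff, Bool.not_eq_true', Nat.blt_eq, okS_iff, fixAt,
    allL_iff] at H
  obtain ⟨⟨⟨⟨⟨⟨h1, h2⟩, h3⟩, h4⟩, h5⟩, h6⟩, h7⟩ := H
  have cj : ∀ m, ∀ a ∈ E, α ((φ m)⁻¹ * a * φ m) = (φ m)⁻¹ * α a * φ m := fun m a b => by
    have := (h.comm (hb m) (h.nrm m (ha ⟨a, b, rfl⟩))).eq
    rw [map_mul, map_mul, map_inv]
    calc _ = ((φ m)⁻¹ * α (φ m))⁻¹ * ((φ m)⁻¹ * α a * φ m * ((φ m)⁻¹ * α (φ m))) := by group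
      _ = _ := by erw [← this]; exact inv_mul_cancel_left _ _
  obtain ⟨v, hv, e1⟩ := h.mem _ (ha ⟨_, h.all w, rfl⟩)
  replace e1 : el v = α (el w) := e1
  have e2 : α (el w) = el w := by
    rcases h5 v hv with (a | a) | a
    · rw [a, h.zero, eq_comm, map_eq_one_iff α α.injective, ← h.zero] at e1
      exact absurd (h.inj _ h4 _ (h3.trans h4) e1) h3.ne'
    · rw [← e1, a]
    · refine absurd (allL_iff.mpr fun u hu => nbeq_iff.mpr (h.inj _ (h.trl (h1 u hu) hv) _ hv ?_))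
        (Bool.eq_false_iff.mp a)
      rw [← h.cjw (h1 u hu), e1, ← cj _ _ (h.all w), h.cjw (h1 u hu), h2 u hu]
  exact h.span (K := α.toMonoidHom.eqLocus (MonoidHom.id G)) (List.forall_mem_map.mpr fun u hu => by
    show α _ = _
    rw [← h.cjw (h6 u hu), cj _ _ (h.all w), e2]; rfl) h7

theorem fpf [Finite S] [Finite G] (H : allLt n (fun v => Nat.beq v 0 || !Nat.beq (tr ap [0, 1] v) v) = true) {a : G}
    (ha : a ∈ E) : ∃ b ∈ E, b * (φ (lprod e [0, 1]) * a) * b⁻¹ = φ (lprod e [0, 1]) := by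
  simp only [allLt_iff, Bool.or_eq_true, nbeq_iff, Bool.not_eq_true', nbeq_false] at H
  obtain ⟨b, hb⟩ := Finite.surjective_of_injective
    (f := fun b : E => (⟨_, mul_mem (h.nrm (lprod e [0, 1]) (inv_mem b.2)) b.2⟩ : E)) (fun b c e1 => by
      simp only [Subtype.mk.injEq] at e1
      obtain ⟨v, hv, e2⟩ := h.mem _ (mul_mem c.2 (inv_mem b.2))
      rcases H v hv with a | a
      · rw [a, h.zero, eq_comm, mul_inv_eq_one] at e2
        exact Subtype.ext e2.symm
      · refine absurd (h.inj _ (h.trl (u := [0, 1]) rfl hv) _ hv ?_) a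
        rw [← h.cjw (u := [0, 1]) rfl, e2]
        calc _ = ((φ (lprod e [0, 1]))⁻¹ * (c : G)⁻¹ * φ (lprod e [0, 1]))⁻¹ *
            ((φ (lprod e [0, 1]))⁻¹ * (b : G)⁻¹ * φ (lprod e [0, 1]) * b) * (b : G)⁻¹ := by group
          _ = _ := by rw [e1]; group) ⟨a, ha⟩
  exact ⟨b, b.2, by rw [← show _ = a from congrArg Subtype.val hb]; group⟩

theorem aff {α : MulAut G} {d : ℕ} (h0 : α (φ (e 0)) = φ (e 0) * el d) (h1 : α (φ (e 1)) = φ (e 1) * el (ap d 1))
    {u : List ℕ} (hu : okW 2 u = true) (v : ℕ) :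
    el v * α (φ (lprod e u)) = φ (lprod e u) * el (tr (afA ap d) u v) := by
  induction u generalizing v with
  | nil => simp [tr]
  | cons l u ih =>
    rw [okW_iff, List.forall_mem_cons, ← okW_iff] at hu
    have : el v * α (φ (e l)) = φ (e l) * el (afA ap d v l) := by
      rw [afA, h.mul, ← h.cj v l (by omega)]
      obtain ⟨a, -⟩ := hu
      interval_cases l
      · rw [h0]; simp [mul_assoc]
      · rw [h1]; simp [mul_assoc]; rfl
    rw [tr_cons, lprod_cons, map_mul, map_mul, ← mul_assoc, this, mul_assoc, ih hu.2, mul_assoc]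

theorem coc [Finite S] [Finite G] (h3 : e 1 * e 1 = e 2) {d0 : ℕ} {rs : List (List ℕ)}
    (hr : ∀ r ∈ rs, okW 2 r = true ∧ lprod e r = 1)
    (H : (allLt n (fun v => Nat.beq v 0 || !Nat.beq (tr ap [0, 1] v) v) && allLt n fun d => Nat.beq d 0 || Nat.beq d d0 ||
      anyL rs fun r => frc (tr (afA ap d) r 0) fun y => Nat.blt 0 y && Nat.blt y n) = true) {α : MulAut G}
    (ha : ∀ a ∈ E, α a = a) (hb : ∀ m, (φ m)⁻¹ * α (φ m) ∈ E) : ∃ b ∈ E,
      (MulAut.conj b * α) (φ (e 0)) = φ (e 0) * el d0 ∨ ∀ x ∈ E ⊔ φ.range, (MulAut.conj b * α) x = x := by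
  rw [Bool.and_eq_true] at H
  obtain ⟨b, b1, b2⟩ := h.fpf H.1 (hb (lprod e [0, 1]))
  rw [mul_inv_cancel_left] at b2
  refine ⟨b, b1, ?_⟩
  have a1 : ∀ a ∈ E, (MulAut.conj b * α) a = a := fun a c => by
    rw [MulAut.mul_apply, ha a c, MulAut.conj_apply, (h.comm b1 c).eq, mul_inv_cancel_right]
  obtain ⟨d, hd, a2⟩ := h.mem ((φ (e 0))⁻¹ * (MulAut.conj b * α) (φ (e 0))) (by
    have := mul_mem (mul_mem (h.nrm (e 0) b1) (hb (e 0))) (inv_mem b1)
    rw [MulAut.mul_apply, MulAut.conj_apply]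
    convert this using 1; group)
  replace b2 : (MulAut.conj b * α) (φ (lprod e [0, 1])) = φ (lprod e [0, 1]) := b2
  generalize MulAut.conj b * α = β at a1 a2 b2
  rw [eq_inv_mul_iff_mul_eq, eq_comm] at a2
  have a3 : β (φ (e 1)) = φ (e 1) * el (ap d 1) := by
    simp only [lprod_cons, lprod_nil, mul_one, map_mul, a2, mul_assoc, mul_right_inj] at b2
    rw [← h.cj d 1 (by omega), ← h.inv d, eq_inv_mul_of_mul_eq b2]; group
  have H2 := allLt_iff.mp H.2 d hd
  simp only [Bool.or_eq_true, nbeq_iff, anyL_iff, frc_eq, Bool.and_eq_true, Nat.blt_eq] at H2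
  rcases H2 with (c | c) | ⟨r, c, c1, c2⟩
  · have c0 : el (ap 0 1) = 1 := by rw [← h.cj 0 1 (by omega), h.zero, mul_one, inv_mul_cancel]
    rw [c, h.zero, mul_one] at a2
    rw [c, c0, mul_one] at a3
    refine Or.inr (sup_le (c := β.toMonoidHom.eqLocus (MonoidHom.id G)) a1 ?_)
    rw [MonoidHom.range_eq_map, ← h.top, map_le_iff_le_comap]
    refine cl_le.mpr fun l hl => ?_
    interval_cases l
    exacts [a2, a3, h3 ▸ mul_mem (a := e 1) a3 a3]
  · exact Or.inl (c ▸ a2)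
  · have := h.aff a2 a3 (hr r c).1 0
    rw [(hr r c).2, map_one, map_one, one_mul, mul_one] at this
    exact absurd (h.inj _ (c1.trans c2) _ c2 this) c1.ne

theorem cen1 [Finite S] {ts : List (List ℕ)} (hS : ∀ m, gp e ts ≤ centralizer {m} → m = 1)
    (H : (okS 3 ts && allLt n fun v => Nat.beq v 0 || !fixAt ap ts v) = true) {c : G} (hc : c ∈ E ⊔ φ.range)
    (hc' : ∀ u ∈ ts, c * φ (lprod e u) = φ (lprod e u) * c) : c = 1 := by
  simp only [Bool.and_eq_true, allLt_iff, Bool.or_eq_true, nbeq_iff, Bool.not_eq_true', okS_iff, fixAt] at H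
  obtain ⟨m, v, hv, rfl⟩ := h.dec hc
  obtain rfl := hS m (gp_le.mpr fun u hu => mem_centralizer_singleton_iff.mpr (inv_mul_eq_one.mp (h.one (by
    have := mul_mem (h.all v) (inv_mem (h.nrm (lprod e u) (h.all v)))
    rw [map_mul, map_inv, map_mul, map_mul]
    convert this using 1
    calc _ = (φ (lprod e u) * φ m)⁻¹ * (φ m * el v * φ (lprod e u)) * ((φ (lprod e u))⁻¹ * el v * φ (lprod e u))⁻¹ := by group
      _ = _ := by rw [hc' u hu]; group))))
  rw [map_one, one_mul] at hc' ⊢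
  rcases H.2 v hv with a | a
  · rw [a, h.zero]
  · refine absurd (allL_iff.mpr fun u hu => nbeq_iff.mpr (h.inj _ (h.trl (H.1 u hu) hv) _ hv ?_))
      (Bool.eq_false_iff.mp a)
    rw [← h.cjw (H.1 u hu), mul_assoc, hc' u hu, inv_mul_cancel_left]

theorem coset {Q : G → Prop} (hQ : ∀ g x, Q x → Q (g⁻¹ * x * g)) {u : List ℕ} {cs : List (List ℕ)}
    (hc : ∀ c ∈ cs, Commute (lprod e c) (lprod e u)) (hu : lprod e u * lprod e u = 1) (bs bad : List ℕ) {good : List ℕ}
    (H : (okW 3 u && okS 3 cs && allL bad (fun r => frc (tr ap u r ^^^ r) fun y => Nat.blt 0 y && Nat.blt y n) &&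
      coverF (cs.map (tr ap) ++ xors (bs.map fun b => tr ap u b ^^^ b)) (good ++ bad) n) = true)
    (hg : ∀ r ∈ good, Q (φ (lprod e u) * el r)) :
    ∀ a ∈ E, φ (lprod e u) * a * (φ (lprod e u) * a) = 1 → Q (φ (lprod e u) * a) := by
  simp only [Bool.and_eq_true, allL_iff, frc_eq, Nat.blt_eq, okS_iff] at H
  obtain ⟨⟨⟨h1, h2⟩, h3⟩, h4⟩ := H
  intro a ha
  obtain ⟨v, hv, rfl⟩ := h.mem a ha
  have k : ∀ g x y : G, g⁻¹ * x * g = y → (x * x = 1 → Q x) → y * y = 1 → Q y := by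
    rintro g x _ rfl a b
    exact hQ g x (a (by simpa [mul_assoc] using congrArg (fun y => g * y * g⁻¹) b))
  refine coverF_spec h4 (fun v => φ (lprod e u) * el v * (φ (lprod e u) * el v) = 1 → Q (φ (lprod e u) * el v))
    (fun c hc' f hf => ?_) (List.forall_mem_append.mpr ⟨fun r hr _ => hg r hr, fun r hr a => ?_⟩) v hv
  · rcases List.mem_append.mp hf with hf | hf
    · obtain ⟨w, hw, rfl⟩ := List.mem_map.mp hf
      refine k (φ (lprod e w)) _ _ ?_ hc'
      rw [← h.cjw (h2 w hw), ← mul_assoc, ← mul_assoc, ← mul_assoc, (((hc w hw).map φ).inv_left).eq]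
    · obtain ⟨d, hd, rfl⟩ := List.mem_map.mp hf
      obtain ⟨b, -, rfl⟩ := List.mem_map.mp hd
      refine k (el b) _ _ ?_ hc'
      rw [h.mul, h.mul, ← mul_assoc (el c), (h.comm (h.all c) (h.all _)).eq, ← h.cjw h1, h.inv]; group
  · refine absurd (h.inj _ (h3 r hr).2 _ ((h3 r hr).1.trans (h3 r hr).2) ?_) (h3 r hr).1.ne'
    rw [h.mul, ← h.cjw h1, h.zero, ← a, inv_eq_of_mul_eq_one_left ((map_mul φ _ _).symm.trans
      ((congrArg φ hu).trans (map_one φ))), mul_assoc (_ * _)]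

end XM

end Cfsg.Agent.H15
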