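import Cfsg.Agent.H15.Words
set_option autoImplicit false
set_option maxRecDepth 100000

namespace Cfsg.Agent.H15.WA4
open Cfsg.Agent.H15 Cfsg.Agent.H14

def tb : Tb := (.node (nat_lit 60) (.node (nat_lit 28) (.node (nat_lit 12) (.node (nat_lit 4) (.leaf (nat_lit 0x4203c000c00002c83001101e000500900002000080f0001c030050000000078000800c01001)) (.node (nat_lit 8) (.leaf (nat_lit 0x6407c000102644042002203e000900102220c00901f000400780101c00c4078000003485107)) (.leaf (nat_lit 0x240fc001a22c00c0c803205e000101810845401102f0005c010162280008178002a05087002)))) (.node (nat_lit 20) (.node (nat_lit 16) (.leaf (nat_lit 0x4617c002000a07c8e80030be000f01d11001401104f0046c0201c42600c81f8000606c8d212)) (.leaf (nat_lit 0x461fc012400e094c680330de000302424663000986f0008c8f80604400cc2f8000a0844391e))) (.node (nat_lit 24) (.leaf (nat_lit 0x6627c00090564a913801313e001508b0120a401988f000201421e114008c478004e02013089)) (.leaf (nat_lit 0x4633c008d0180bd92003317e000582e1184b40018bf000b514a22016008c578025602816228)))))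 (.node (nat_lit 44) (.node (nat_lit 36) (.node (nat_lit 32) (.leaf (nat_lit 0x283fc003512203c1a00341de000703332a2400120ef000c80703111e004c6f8045e8b006830)) (.leaf (nat_lit 0x6847c00110722489c000423e001c23433204401210f004d80803746600d07f8001e0d89aa32))) (.node (nat_lit 40) (.leaf (nat_lit 0x6853c001407c4f4cb801429e001ea310280f000a13f008e91b813076009097801260481d29b)) (.leaf (nat_lit 0x485fc009802e1099f00342de000b04112e50000216f00100cca3c02c0090af8027c0541f998)))) (.node (nat_lit 52) (.node (nat_lit 48) (.leaf (nat_lit 0x286fc019c48a06c23002435e012081a08a91001a19f00064223381340050c7804846700c043)) (.leaf (nat_lit 0x4a7bc014903c128d080353be000e84929068000a9df00120d301d08e0010e78068cd0d9d81c))) (.node (nat_lit 56) (.leaf (nat_lit 0x2a87c024d34a08427002541e005082009ad2401a9ff0007c260a02960014ff800966892381f)) (.leaf (nat_lit 0xa97c035169cac012801549e00d2a50048144012a3f009301185049e00d5178004413d568a3)))))) (.node (nat_lit 88)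 (.node (nat_lit 72) (.node (nat_lit 64) (.leaf (nat_lit 0x2aa3c02546940a02a80254fe00540270a8aac01aa6f00098298a72a4001537800a4d1cd4826)) (.node (nat_lit 68) (.leaf (nat_lit 0xab3c0358560d5416001557e00d6257056160012aaf006b8150574ac00d54f80052159a90aa)) (.leaf (nat_lit 0xcc7c005b5786d01880055fe015835a8a20bc00aaef00d5cd782e0b400956f806ac0b42c9ae)))) (.node (nat_lit 80) (.node (nat_lit 76) (.leaf (nat_lit 0x6cd3c00340bed6c5a801667e012eabf06617801332f002cc1905d56c00d98f800621705915b)) (.leaf (nat_lit 0x4ce3c035f070188dc80066fe01b0abb6bc0dc00b36f006dd300360c20099af803720d43025f))) (.node (nat_lit 84) (.leaf (nat_lit 0x4cf7c035c07a19532003679e001e0645802f40033af00aedb1bc60740059cf806c06e81c863)) (.leaf (nat_lit 0x2d07c02c538410434002681e01620400ce7040033ff00d9a2f2c307e0059f78037e9941f066))))) (.node (nat_lit 104) (.node (nat_lit 96) (.node (nat_lit 92) (.leaf (nat_lit 0x6f1fc00470d4b2c6400068be02342c66d211400b44f0119e310440d2001a1780586da233042))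 (.leaf (nat_lit 0x4f2fc02cf0961b4e6000795e01b63d559c12800bc9f00729358490d8009e47805a612035a6a))) (.node (nat_lit 100) (.leaf (nat_lit 0xf43c046e5a2dbc2800179fe0236bd909e1bc003cdf00b39b746c09a005e67805a07342606e)) (.leaf (nat_lit 0x2f5bc03d98e0158390007a9e016ab717b015000bd3f011acea0530e2009e97808d4148381d3)))) (.node (nat_lit 112) (.node (nat_lit 108) (.leaf (nat_lit 0x3173c03e53ba1703a0028b7e01f205b0e6770003d9f015cab7ada0b2001ebf807b4b61b9057)) (.leaf (nat_lit 0x118bc05759d2b8c310008c1e01f1ae16ea18000c5ff00f8a3985f0ea0022ef805bcdd1f085d))) (.node (nat_lit 116) (.leaf (nat_lit 0x33abc04f07da1a83b8008cfe0274d765d019c00465f015d1733760ca00632780ae6f9c32076)) (.leaf (nat_lit 0x15cfc05f69eabd0398009e1e033bcf25e21c0004edf013bebbaee0da00275f809e2bb1bb86b)))))))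
def wt : Wt := (.node (nat_lit 6) (.node (nat_lit 3) (.node (nat_lit 1) (.leaf [nat_lit 0, nat_lit 2, nat_lit 0, nat_lit 2]) (.node (nat_lit 2) (.leaf [nat_lit 0, nat_lit 0]) (.leaf [nat_lit 0, nat_lit 3, nat_lit 0, nat_lit 3]))) (.node (nat_lit 4) (.leaf [nat_lit 1, nat_lit 3, nat_lit 1, nat_lit 3]) (.node (nat_lit 5) (.leaf [nat_lit 1, nat_lit 1]) (.leaf [nat_lit 1, nat_lit 0, nat_lit 1, nat_lit 0, nat_lit 1, nat_lit 0])))) (.node (nat_lit 9) (.node (nat_lit 7) (.leaf [nat_lit 2, nat_lit 1, nat_lit 2, nat_lit 1, nat_lit 2, nat_lit 1]) (.node (nat_lit 8) (.leaf [nat_lit 2, nat_lit 2]) (.leaf [nat_lit 3, nat_lit 2, nat_lit 3, nat_lit 2, nat_lit 3, nat_lit 2]))) (.node (nat_lit 11) (.node (nat_lit 10) (.leaf [nat_lit 3, nat_lit 3]) (.leaf [nat_lit 2, nat_lit 0, nat_lit 2, nat_lit 0])) (.node (nat_lit 12) (.leaf [nat_lit 3, nat_lit 1, nat_lit 3, nat_lit 1]) (.leaf [nat_lit 3, nat_lit 0, nat_lit 3, nat_lit 0])))))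
noncomputable def P : TCP where
  lk := tlk tb (nat_lit 3) (nat_lit 7) (nat_lit 11) (nat_lit 2047)
  inv := invT (nat_lit 794688) (nat_lit 4)
  wt := wt.get
  gens := [nat_lit 0, nat_lit 1, nat_lit 2, nat_lit 3]
  N := nat_lit 120
  n := nat_lit 120
  eps := nat_lit 4
  VM := nat_lit 127
  Wv := nat_lit 7
  MAXB := nat_lit 1920
  JM := nat_lit 31
  Wj := nat_lit 5
  Hm := nat_lit 0
def ls : List Nat := [nat_lit 0, nat_lit 1, nat_lit 2, nat_lit 3, nat_lit 4]
noncomputable def ap : Nat → Nat → Nat := tlk tb (nat_lit 3) (nat_lit 7) (nat_lit 11) (nat_lit 127)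
def bases : List (List Nat × Nat) := [([0, 0], 1), ([0, 1], 3), ([0, 2], 2), ([0, 3], 2), ([1, 1], 1), ([1, 2], 3), ([1, 3], 2), ([2, 2], 1), ([2, 3], 3), ([3, 3], 1)]
theorem c0 : RowsGood P ls 0 120 :=
  rowsGood_of (Js := [nat_lit 0x8421, nat_lit 0x8420, nat_lit 0x8401, nat_lit 0x8026, nat_lit 0x586, nat_lit 0x8401, nat_lit 0x8024, nat_lit 0x588, nat_lit 0x8580, nat_lit 0x8026, nat_lit 0x546, nat_lit 0xc801, nat_lit 0x586, nat_lit 0xb0026, nat_lit 0x85c0, nat_lit 0x8026, nat_lit 0x546, nat_lit 0xc801, nat_lit 0x588, nat_lit 0xb0024, nat_lit 0x8024, nat_lit 0x588, nat_lit 0xc001, nat_lit 0x586, nat_lit 0xb0026, nat_lit 0xc980, nat_lit 0x546, nat_lit 0xa0026, nat_lit 0xb4801, nat_lit 0x8024, nat_lit 0x548, nat_lit 0xc001, nat_lit 0x586, nat_lit 0xb0026, nat_lit 0xc9c0, nat_lit 0x546, nat_lit 0xa0024, nat_lit 0xb4801, nat_lit 0xc801, nat_lit 0x588, nat_lit 0xb0024, nat_lit 0xe180, nat_lit 0x546, nat_lit 0xa0026, nat_lit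 0xb4001, nat_lit 0x588, nat_lit 0xb0026, nat_lit 0xd4801, nat_lit 0xb4980, nat_lit 0xc001, nat_lit 0x588, nat_lit 0xb0024, nat_lit 0xe180, nat_lit 0x546, nat_lit 0xa0026, nat_lit 0xb4001, nat_lit 0x548, nat_lit 0xb0026, nat_lit 0xd4801, nat_lit 0xb49c0, nat_lit 0xc9c0, nat_lit 0x546, nat_lit 0xa0024, nat_lit 0xb4801, nat_lit 0x588, nat_lit 0xa0026, nat_lit 0xd4801, nat_lit 0xb6180, nat_lit 0xb0024, nat_lit 0xb4001, nat_lit 0xe4980, nat_lit 0xe1c0, nat_lit 0x546, nat_lit 0xa0024, nat_lit 0xb4001, nat_lit 0x588, nat_lit 0xa0026, nat_lit 0xd4801, nat_lit 0xb6180, nat_lit 0xb0024, nat_lit 0xb4001, nat_lit 0xe49c0, nat_lit 0x548, nat_lit 0xb0026, nat_lit 0xd4801, nat_lit 0xb49c0, nat_lit 0xa0024, nat_lit 0xd4001, nat_lit 0xe4980, nat_lit 0xb4801, nat_lit 0xb6180, nat_lit 0x548, nat_lit 0xa0026, nat_lit 0xd4801, nat_lit 0xb61c0, nat_lit 0xa0024, nat_lit 0xd4001, nat_lit 0xe4980, nat_lit 0xb4001, nat_lit 0xb6180, nat_lit 0xb0024,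 nat_lit 0xb4001, nat_lit 0xe49c0, nat_lit 0xd4801, nat_lit 0xe6180, nat_lit 0xb49c0, nat_lit 0xa0024, nat_lit 0xd4001, nat_lit 0xe49c0, nat_lit 0xd4801, nat_lit 0xe6180, nat_lit 0xb61c0, nat_lit 0xb4001, nat_lit 0xb6180, nat_lit 0xe49c0, nat_lit 0xd4001, nat_lit 0xe6180, nat_lit 0xe49c0, nat_lit 0xb61c0, nat_lit 0xe61c0]) (by decide +kernel)
theorem f0 : RowsGood P ls 0 120 :=
  c0
theorem good : RowsGood P (List.range (P.eps + 1)) 0 P.N :=
  (f0 : RowsGood P ls 0 120)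
theorem idx {G : Type*} [Group G] {E : ℕ → G} {inv : ℕ → ℕ} (hi : ∀ l, E (inv l) = (E l)⁻¹)
    {B : List (List ℕ × ℕ)} (hB : ∀ p ∈ B, lprod E p.1 ^ p.2 = 1) (σ : List (List ℕ))
    {hs ks : List (List ℕ)} (hc : certOk P wt bases inv B σ hs ks = true) :
    (gp E hs).relIndex (gp E ks) ≠ 0 ∧ (gp E hs).relIndex (gp E ks) ≤ 120 :=
  tc_gp hi hB rfl (fun _ h => invT_of_le h) good σ hc

end Cfsg.Agent.H15.WA4
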