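import Cfsg.Agent.H15.Words
set_option autoImplicit false
set_option maxRecDepth 100000

namespace Cfsg.Agent.H15.WD5
open Cfsg.Agent.H15 Cfsg.Agent.H14

def tb : Tb := (.node (nat_lit 8) (.node (nat_lit 4) (.leaf (nat_lit 0x18bc04331814860200907c02221010020302083c00010884042100003c001000000000)) (.leaf (nat_lit 0xa97c00a0499c0a6701a13c06602198cc880120fc0650400c0e240118bc044030088845))) (.node (nat_lit 12) (.leaf (nat_lit 0x13a7c00d4582556ab0231fc00726229148a01b1fc00c0382c508901a97c08802a209266)) (.leaf (nat_lit 0x53bc0ef77bbdde0e00cb7c0ce673381a0f0242fc00b568b01ccd023a7c0091513558ac))))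
def wt : Wt := (.node (nat_lit 12) (.node (nat_lit 6) (.node (nat_lit 3) (.node (nat_lit 1) (.leaf [nat_lit 0, nat_lit 4, nat_lit 0, nat_lit 4]) (.node (nat_lit 2) (.leaf [nat_lit 2, nat_lit 4, nat_lit 2, nat_lit 4]) (.leaf [nat_lit 3, nat_lit 4, nat_lit 3, nat_lit 4]))) (.node (nat_lit 4) (.leaf [nat_lit 3, nat_lit 1, nat_lit 3, nat_lit 1]) (.node (nat_lit 5) (.leaf [nat_lit 4, nat_lit 1, nat_lit 4, nat_lit 1, nat_lit 4, nat_lit 1]) (.leaf [nat_lit 3, nat_lit 0, nat_lit 3, nat_lit 0])))) (.node (nat_lit 9) (.node (nat_lit 7) (.leaf [nat_lit 4, nat_lit 0, nat_lit 4, nat_lit 0]) (.node (nat_lit 8) (.leaf [nat_lit 1, nat_lit 0, nat_lit 1, nat_lit 0, nat_lit 1, nat_lit 0]) (.leaf [nat_lit 4, nat_lit 2, nat_lit 4, nat_lit 2]))) (.node (nat_lit 10) (.leaf [nat_lit 1, nat_lit 2, nat_lit 1, nat_lit 2, nat_lit 1, nat_lit 2]) (.node (nat_lit 11) (.leaf [nat_lit 0, nat_lit 2, nat_lit 0, nat_lit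 2]) (.leaf [nat_lit 0, nat_lit 0]))))) (.node (nat_lit 18) (.node (nat_lit 15) (.node (nat_lit 13) (.leaf [nat_lit 1, nat_lit 3, nat_lit 1, nat_lit 3]) (.node (nat_lit 14) (.leaf [nat_lit 4, nat_lit 3, nat_lit 4, nat_lit 3]) (.leaf [nat_lit 2, nat_lit 3, nat_lit 2, nat_lit 3, nat_lit 2, nat_lit 3]))) (.node (nat_lit 16) (.leaf [nat_lit 0, nat_lit 1, nat_lit 0, nat_lit 1, nat_lit 0, nat_lit 1]) (.node (nat_lit 17) (.leaf [nat_lit 2, nat_lit 1, nat_lit 2, nat_lit 1, nat_lit 2, nat_lit 1]) (.leaf [nat_lit 0, nat_lit 3, nat_lit 0, nat_lit 3])))) (.node (nat_lit 21) (.node (nat_lit 19) (.leaf [nat_lit 1, nat_lit 1]) (.node (nat_lit 20) (.leaf [nat_lit 1, nat_lit 4, nat_lit 1, nat_lit 4, nat_lit 1, nat_lit 4]) (.leaf [nat_lit 3, nat_lit 2, nat_lit 3, nat_lit 2, nat_lit 3, nat_lit 2]))) (.node (nat_lit 22) (.leaf [nat_lit 3, nat_lit 3]) (.node (nat_lit 23) (.leaf [nat_lit 2, nat_lit 2]) (.leaf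 [nat_lit 2, nat_lit 0, nat_lit 2, nat_lit 0]))))))
noncomputable def P : TCP where
  lk := tlk tb (nat_lit 3) (nat_lit 8) (nat_lit 9) (nat_lit 511)
  inv := invT (nat_lit 67903552) (nat_lit 5)
  wt := wt.get
  gens := [nat_lit 0, nat_lit 1, nat_lit 2, nat_lit 3, nat_lit 4]
  N := nat_lit 16
  n := nat_lit 16
  eps := nat_lit 5
  VM := nat_lit 31
  Wv := nat_lit 5
  MAXB := nat_lit 480
  JM := nat_lit 63
  Wj := nat_lit 6
  Hm := nat_lit 15
def ls : List Nat := [nat_lit 0, nat_lit 1, nat_lit 2, nat_lit 3, nat_lit 4, nat_lit 5]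
noncomputable def ap : Nat → Nat → Nat := tlk tb (nat_lit 3) (nat_lit 8) (nat_lit 9) (nat_lit 31)
def bases : List (List Nat × Nat) := [([0, 0], 1), ([0, 1], 3), ([0, 2], 2), ([0, 3], 2), ([0, 4], 2), ([1, 1], 1), ([1, 2], 3), ([1, 3], 2), ([1, 4], 3), ([2, 2], 1), ([2, 3], 3), ([2, 4], 2), ([3, 3], 1), ([3, 4], 2), ([4, 4], 1)]
theorem c0 : RowsGood P ls 0 16 :=
  rowsGood_of (Js := [nat_lit 0x1082082, nat_lit 0x206044, nat_lit 0xc281001, nat_lit 0x10381480, nat_lit 0x1404059a, nat_lit 0x14040058, nat_lit 0x1e02071a, nat_lit 0x1064022, nat_lit 0x1e020a26, nat_lit 0x1001726, nat_lit 0xb86a84, nat_lit 0x1b00598, nat_lit 0x230a84, nat_lit 0x206044, nat_lit 0xc2a4001, nat_lit 0x103b2480]) (by decide +kernel)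
theorem f0 : RowsGood P ls 0 16 :=
  c0
theorem good : RowsGood P (List.range (P.eps + 1)) 0 P.N :=
  (f0 : RowsGood P ls 0 16)
theorem idx {G : Type*} [Group G] {E : ℕ → G} {inv : ℕ → ℕ} (hi : ∀ l, E (inv l) = (E l)⁻¹)
    {B : List (List ℕ × ℕ)} (hB : ∀ p ∈ B, lprod E p.1 ^ p.2 = 1) (σ : List (List ℕ))
    {hs ks : List (List ℕ)} (hc : certOk P wt bases inv B σ hs ks = true) :
    (gp E hs).relIndex (gp E ks) ≠ 0 ∧ (gp E hs).relIndex (gp E ks) ≤ 16 :=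
  tc_gp hi hB rfl (fun _ h => invT_of_le h) good σ hc

end Cfsg.Agent.H15.WD5
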