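import Cfsg.Agent.H15.Words
set_option autoImplicit false
set_option maxRecDepth 100000

namespace Cfsg.Agent.H15.WE6
open Cfsg.Agent.H15 Cfsg.Agent.H14

def tb : Tb := (.node (nat_lit 12) (.node (nat_lit 4) (.leaf (nat_lit 0x462f804310c630140201004107e0088011084200c4201420f8000008210842108400003e0004000000000000)) (.node (nat_lit 8) (.leaf (nat_lit 0xca5f808721c0521c8722402293e021886024040202500883f80651940700c651180020fe0190642100619003)) (.leaf (nat_lit 0x10e8f800e0204d2acab2ac033a3e03280d0200c0a4aa00cc6f80a92a4062a44a19c0131be02a00b0288801888)))) (.node (nat_lit 20) (.node (nat_lit 16) (.leaf (nat_lit 0x112cf8012030cf0b4113bc0542fe002cce240ce338ce0110af80100282b13ccd3340242be03b00f2b00a330cc)) (.leaf (nat_lit 0x171f801544d1344d130440553fe003d123c870151120054ff80143c4f13c40f04c054b7e0034f01b8923c0f0))) (.node (nat_lit 24) (.leaf (nat_lit 0x11b5f81370555755c181d804653e0458144d9364d89701593f801305d354d5350d0055c7e004416451140c855))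 (.leaf (nat_lit 0x3867e06699a0659a6699a009f8f81795e41a061795e40175fe0561585e01905d58)))))
def wt : Wt := (.node (nat_lit 17) (.node (nat_lit 8) (.node (nat_lit 4) (.node (nat_lit 2) (.node (nat_lit 1) (.leaf [nat_lit 0, nat_lit 5, nat_lit 0, nat_lit 5]) (.leaf [nat_lit 1, nat_lit 5, nat_lit 1, nat_lit 5])) (.node (nat_lit 3) (.leaf [nat_lit 2, nat_lit 5, nat_lit 2, nat_lit 5]) (.leaf [nat_lit 3, nat_lit 5, nat_lit 3, nat_lit 5]))) (.node (nat_lit 6) (.node (nat_lit 5) (.leaf [nat_lit 0, nat_lit 4, nat_lit 0, nat_lit 4]) (.leaf [nat_lit 2, nat_lit 4, nat_lit 2, nat_lit 4])) (.node (nat_lit 7) (.leaf [nat_lit 3, nat_lit 4, nat_lit 3, nat_lit 4]) (.leaf [nat_lit 5, nat_lit 4, nat_lit 5, nat_lit 4, nat_lit 5, nat_lit 4])))) (.node (nat_lit 12) (.node (nat_lit 10) (.node (nat_lit 9) (.leaf [nat_lit 3, nat_lit 1, nat_lit 3, nat_lit 1]) (.leaf [nat_lit 5, nat_lit 1, nat_lit 5, nat_lit 1])) (.node (nat_lit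 11) (.leaf [nat_lit 4, nat_lit 1, nat_lit 4, nat_lit 1, nat_lit 4, nat_lit 1]) (.leaf [nat_lit 3, nat_lit 0, nat_lit 3, nat_lit 0]))) (.node (nat_lit 14) (.node (nat_lit 13) (.leaf [nat_lit 4, nat_lit 0, nat_lit 4, nat_lit 0]) (.leaf [nat_lit 5, nat_lit 0, nat_lit 5, nat_lit 0])) (.node (nat_lit 15) (.leaf [nat_lit 1, nat_lit 0, nat_lit 1, nat_lit 0, nat_lit 1, nat_lit 0]) (.node (nat_lit 16) (.leaf [nat_lit 4, nat_lit 2, nat_lit 4, nat_lit 2]) (.leaf [nat_lit 5, nat_lit 2, nat_lit 5, nat_lit 2])))))) (.node (nat_lit 25) (.node (nat_lit 21) (.node (nat_lit 19) (.node (nat_lit 18) (.leaf [nat_lit 1, nat_lit 2, nat_lit 1, nat_lit 2, nat_lit 1, nat_lit 2]) (.leaf [nat_lit 0, nat_lit 2, nat_lit 0, nat_lit 2])) (.node (nat_lit 20) (.leaf [nat_lit 0, nat_lit 0]) (.leaf [nat_lit 1, nat_lit 3, nat_lit 1, nat_lit 3]))) (.node (nat_lit 23) (.node (nat_lit 22) (.leaf [nat_lit 4, nat_lit 3, nat_lit 4, nat_lit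 3]) (.leaf [nat_lit 5, nat_lit 3, nat_lit 5, nat_lit 3])) (.node (nat_lit 24) (.leaf [nat_lit 2, nat_lit 3, nat_lit 2, nat_lit 3, nat_lit 2, nat_lit 3]) (.leaf [nat_lit 0, nat_lit 1, nat_lit 0, nat_lit 1, nat_lit 0, nat_lit 1])))) (.node (nat_lit 29) (.node (nat_lit 27) (.node (nat_lit 26) (.leaf [nat_lit 2, nat_lit 1, nat_lit 2, nat_lit 1, nat_lit 2, nat_lit 1]) (.leaf [nat_lit 0, nat_lit 3, nat_lit 0, nat_lit 3])) (.node (nat_lit 28) (.leaf [nat_lit 1, nat_lit 1]) (.leaf [nat_lit 1, nat_lit 4, nat_lit 1, nat_lit 4, nat_lit 1, nat_lit 4]))) (.node (nat_lit 31) (.node (nat_lit 30) (.leaf [nat_lit 3, nat_lit 2, nat_lit 3, nat_lit 2, nat_lit 3, nat_lit 2]) (.leaf [nat_lit 3, nat_lit 3])) (.node (nat_lit 32) (.leaf [nat_lit 4, nat_lit 5, nat_lit 4, nat_lit 5, nat_lit 4, nat_lit 5]) (.node (nat_lit 33) (.leaf [nat_lit 2, nat_lit 2]) (.leaf [nat_lit 2, nat_lit 0, nat_lit 2, nat_lit 0])))))))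
noncomputable def P : TCP where
  lk := tlk tb (nat_lit 3) (nat_lit 9) (nat_lit 10) (nat_lit 1023)
  inv := invT (nat_lit 5436612672) (nat_lit 6)
  wt := wt.get
  gens := [nat_lit 0, nat_lit 1, nat_lit 2, nat_lit 3, nat_lit 4, nat_lit 5]
  N := nat_lit 27
  n := nat_lit 27
  eps := nat_lit 6
  VM := nat_lit 31
  Wv := nat_lit 5
  MAXB := nat_lit 992
  JM := nat_lit 127
  Wj := nat_lit 7
  Hm := nat_lit 31
def ls : List Nat := [nat_lit 0, nat_lit 1, nat_lit 2, nat_lit 3, nat_lit 4, nat_lit 5, nat_lit 6]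
noncomputable def ap : Nat → Nat → Nat := tlk tb (nat_lit 3) (nat_lit 9) (nat_lit 10) (nat_lit 31)
def bases : List (List Nat × Nat) := [([0, 0], 1), ([0, 1], 3), ([0, 2], 2), ([0, 3], 2), ([0, 4], 2), ([0, 5], 2), ([1, 1], 1), ([1, 2], 3), ([1, 3], 2), ([1, 4], 3), ([1, 5], 2), ([2, 2], 1), ([2, 3], 3), ([2, 4], 2), ([2, 5], 2), ([3, 3], 1), ([3, 4], 2), ([3, 5], 2), ([4, 4], 1), ([4, 5], 3), ([5, 5], 1)]
theorem c0 : RowsGood P ls 0 27 :=
  rowsGood_of (Js := [nat_lit 0x820408102, nat_lit 0x11420304, nat_lit 0x900203808c, nat_lit 0xb182804001, nat_lit 0xf1c3405000, nat_lit 0x1222020132a, nat_lit 0x122202000a8, nat_lit 0x182e00c962a, nat_lit 0xb0102d8034, nat_lit 0x182e00c9d38, nat_lit 0x18010005638, nat_lit 0x808039e0c, nat_lit 0x12017c01328, nat_lit 0x802111e0c, nat_lit 0x428020304, nat_lit 0x80203808c, nat_lit 0x421510304, nat_lit 0x9828d8001, nat_lit 0x421421d04, nat_lit 0x9c3519000, nat_lit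 0x1142032a, nat_lit 0x11420304, nat_lit 0x9002039e2a, nat_lit 0x900203808c, nat_lit 0xb182804034, nat_lit 0x12220201328, nat_lit 0x182e00c9638]) (by decide +kernel)
theorem f0 : RowsGood P ls 0 27 :=
  c0
theorem good : RowsGood P (List.range (P.eps + 1)) 0 P.N :=
  (f0 : RowsGood P ls 0 27)
theorem idx {G : Type*} [Group G] {E : ℕ → G} {inv : ℕ → ℕ} (hi : ∀ l, E (inv l) = (E l)⁻¹)
    {B : List (List ℕ × ℕ)} (hB : ∀ p ∈ B, lprod E p.1 ^ p.2 = 1) (σ : List (List ℕ))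
    {hs ks : List (List ℕ)} (hc : certOk P wt bases inv B σ hs ks = true) :
    (gp E hs).relIndex (gp E ks) ≠ 0 ∧ (gp E hs).relIndex (gp E ks) ≤ 27 :=
  tc_gp hi hB rfl (fun _ h => invT_of_le h) good σ hc

end Cfsg.Agent.H15.WE6
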