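import Cfsg.Agent.H15.Simple
import Cfsg.Agent.H15.F22a
import Cfsg.Agent.H15.F22b
import Cfsg.Agent.H15.O7a
import Cfsg.Agent.H15.O7b
import Cfsg.Agent.H15.WE6
import Cfsg.Agent.H15.WD5
import Cfsg.Agent.H15.WA4
import Cfsg.Prelude.Def_Spor_Fi22
set_option autoImplicit false
set_option maxRecDepth 100000

namespace Cfsg.Agent.H15.Fi22
open Cfsg.Agent.H15 Cfsg.Agent.H14

abbrev G := Cfsg.Spor.Fi22
def idx : Cfsg.Spor.Fi22.Gen → ℕ
  | .a => 0
  | .b => 1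
  | .c => 2
  | .d => 3
  | .e => 4
  | .f => 5
  | .g => 6
  | .h => 7
  | .i => 8
def D : PD Cfsg.Spor.Fi22.Gen where
  ls := [(.a, false), (.b, false), (.c, false), (.d, false), (.e, false), (.f, false), (.g, false), (.h, false), (.i, false)]
  idx := idx
  T := 2283003892736064
  L := 9
  B := [([0, 0], 1), ([0, 1], 3), ([0, 2], 2), ([0, 3], 2), ([0, 4], 2), ([0, 5], 2), ([0, 6], 2), ([0, 7], 2), ([0, 8], 2), ([1, 1], 1), ([1, 2], 3), ([1, 3], 2), ([1, 4], 2), ([1, 5], 2), ([1, 6], 2), ([1, 7], 2), ([1, 8], 2), ([2, 2], 1), ([2, 3], 3), ([2, 4], 2), ([2, 5], 2), ([2, 6], 2), ([2, 7], 2), ([2, 8], 2), ([3, 3], 1), ([3, 4], 3), ([3, 5], 2), ([3, 6], 2), ([3, 7], 3), ([3, 8], 2), ([4, 4], 1), ([4, 5], 3), ([4, 6], 2), ([4, 7], 2), ([4, 8], 2), ([5, 5], 1), ([5, 6], 3), ([5, 7], 2), ([5, 8], 2), ([6, 6], 1), ([6, 7], 2), ([6, 8], 2), ([7, 7], 1), ([7, 8], 3), ([8, 8], 1), ([3, 2, 1, 3, 4, 5, 3, 7, 8],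 10), ([0, 1, 2, 3, 4, 5, 7], 9), ([1, 2, 3, 4, 5, 6, 7], 9)]
theorem good : D.Good Cfsg.Spor.Fi22.edges Cfsg.Spor.Fi22.extra :=
  ⟨by decide +kernel, fun x => by cases x <;> rfl⟩
noncomputable abbrev E : ℕ → G := D.E Cfsg.Spor.Fi22.edges Cfsg.Spor.Fi22.extra
theorem iA4 : (gp E []).relIndex (gp E [[2], [3], [4], [5]]) ≠ 0 ∧ (gp E []).relIndex (gp E [[2], [3], [4], [5]]) ≤ 120 :=
  WA4.idx good.hi good.hB [[2], [3], [4], [5]] (by decide +kernel)
theorem cA4 : CardLe (gp E [[2], [3], [4], [5]]) 120 :=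
  (cardLe_nil.step iA4 (by decide +kernel) : CardLe _ (120 * 1))
theorem iD5 : (gp E [[2], [3], [4], [5]]).relIndex (gp E [[2], [3], [4], [5], [7]]) ≠ 0 ∧ (gp E [[2], [3], [4], [5]]).relIndex (gp E [[2], [3], [4], [5], [7]]) ≤ 16 :=
  WD5.idx good.hi good.hB [[2], [3], [4], [5], [7]] (by decide +kernel)
theorem cD5 : CardLe (gp E [[2], [3], [4], [5], [7]]) 1920 :=
  (cA4.step iD5 (by decide +kernel) : CardLe _ (16 * 120))
theorem iE6 : (gp E [[2], [3], [4], [5], [7]]).relIndex (gp E [[2], [3], [4], [5], [7], [8]]) ≠ 0 ∧ (gp E [[2], [3], [4], [5], [7]]).relIndex (gp E [[2], [3], [4], [5], [7], [8]]) ≤ 27 :=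
  WE6.idx good.hi good.hB [[2], [3], [4], [5], [7], [8]] (by decide +kernel)
theorem cE6 : CardLe (gp E [[2], [3], [4], [5], [7], [8]]) 51840 :=
  (cD5.step iE6 (by decide +kernel) : CardLe _ (27 * 1920))
theorem iO7b : (gp E [[2], [3], [4], [5], [7], [8]]).relIndex (gp E [[1], [2], [3], [4], [5], [7], [8]]) ≠ 0 ∧ (gp E [[2], [3], [4], [5], [7], [8]]).relIndex (gp E [[1], [2], [3], [4], [5], [7], [8]]) ≤ 243 :=
  O7b.idx good.hi good.hB [[1], [2], [3], [4], [5], [7], [8]] (by decide +kernel)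
theorem cO7b : CardLe (gp E [[1], [2], [3], [4], [5], [7], [8]]) 12597120 :=
  (cE6.step iO7b (by decide +kernel) : CardLe _ (243 * 51840))
theorem iO7 : (gp E [[1], [2], [3], [4], [5], [7], [8]]).relIndex (gp E [[1], [2], [3], [4], [5], [6], [7], [8]]) ≠ 0 ∧ (gp E [[1], [2], [3], [4], [5], [7], [8]]).relIndex (gp E [[1], [2], [3], [4], [5], [6], [7], [8]]) ≤ 364 :=
  O7a.idx good.hi good.hB [[1], [2], [3], [4], [5], [6], [7], [8]] (by decide +kernel)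
theorem cO7 : CardLe (gp E [[1], [2], [3], [4], [5], [6], [7], [8]]) 4585351680 :=
  (cO7b.step iO7 (by decide +kernel) : CardLe _ (364 * 12597120))
theorem iAll : (gp E [[1], [2], [3], [4], [5], [6], [7], [8]]).relIndex (gp E [[0], [1], [2], [3], [4], [5], [6], [7], [8]]) ≠ 0 ∧ (gp E [[1], [2], [3], [4], [5], [6], [7], [8]]).relIndex (gp E [[0], [1], [2], [3], [4], [5], [6], [7], [8]]) ≤ 14080 :=
  F22b.idx good.hi good.hB [[0], [1], [2], [3], [4], [5], [6], [7], [8]] (by decide +kernel)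
theorem cAll : CardLe (gp E [[0], [1], [2], [3], [4], [5], [6], [7], [8]]) 64561751654400 :=
  (cO7.step iAll (by decide +kernel) : CardLe _ (14080 * 4585351680))
theorem hperm : RAll (permAt F22a.ap D.inv 3510 D.L) 0 3510 := RAll.of (by decide +kernel)
theorem hrel_0 : RAll (relsAt F22a.ap D.B) 0 1200 := RAll.of (by decide +kernel)
theorem hrel_1200 : RAll (relsAt F22a.ap D.B) 1200 2400 := RAll.of (by decide +kernel)
theorem hrel_2400 : RAll (relsAt F22a.ap D.B) 2400 3510 := RAll.of (by decide +kernel)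
theorem hrel : RAll (relsAt F22a.ap D.B) 0 3510 :=
  (RAll.append hrel_0 (RAll.append hrel_1200 hrel_2400))

end Cfsg.Agent.H15.Fi22
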