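import Cfsg.Agent.H15.TC3
set_option autoImplicit false
set_option maxRecDepth 100000

namespace Cfsg.Agent.H15.S44T0
open Cfsg.Agent.H15 Cfsg.Agent.H14

noncomputable def t0_0 (_i : ℕ) : ℕ := (nat_lit 0x22cf0277ad82c00927f00278e12f009a5f00258ccee001a5f00f59e82500564f02bb0923400963f0023bec6800222f01387a422005a1f00620867700160f01309e4200029ff016939c1f0065ef016b078e10025ef01737981e0061df016d0757a0061af006c069390021af01af4701a005d9f00ae0643b001d9f01b147c1900998f001816d6400198f01b28d418004d7f006005cb6000d7f003a4c81700956f00168c19b00556f00390583800915f00150dd2a00515f00360549d005d4f00b40503500952f00120d13100511f00a80443300a50f00105ac3200a0ff000f0c430009cef000e0bce30098df000d5b4530094cf000c2a9e6009cbf000b0b82d0098af000a0b02b00549f002a0242900886f00060a02700103f002609403000c2f002408c0200993f00130888400552f00140489c00111f002104c11008c7f0007080120060ff001f03c41001cef001e0400e0058df001d0340f0014cf001c0380c00508f001b0200d0058af001a0288500149f001902c0900908f00080600a000c7f00090300700486f00110180800040f001701c0000544f0040010cb00903f0003014d4004c2f00040081600881f000100c1500440f00020009000000f008500406)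
noncomputable def blk (i : ℕ) : ℕ := (t0_0 i)
noncomputable def row (x : ℕ) : ℕ := frcN (Nat.shiftRight x (nat_lit 6)) fun b =>
  Nat.land (Nat.shiftRight (blk b) (Nat.mul (Nat.land x (nat_lit 63)) (nat_lit 60))) (nat_lit 0xfffffffffffffff)
noncomputable def lk (x l : ℕ) : ℕ :=
  Nat.land (Nat.shiftRight (row x) (Nat.mul l (nat_lit 10))) (nat_lit 1023)
noncomputable def ap (x l : ℕ) : ℕ :=
  Nat.land (Nat.shiftRight (row x) (Nat.mul l (nat_lit 10))) (nat_lit 63)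
noncomputable def wt : Wt := (.node (nat_lit 6) (.node (nat_lit 3) (.node (nat_lit 1) (.leaf [nat_lit 2, nat_lit 1, nat_lit 2, nat_lit 1, nat_lit 2, nat_lit 1]) (.node (nat_lit 2) (.leaf [nat_lit 2, nat_lit 2]) (.leaf [nat_lit 0, nat_lit 2, nat_lit 0, nat_lit 1, nat_lit 0, nat_lit 2, nat_lit 0, nat_lit 1]))) (.node (nat_lit 4) (.leaf [nat_lit 0, nat_lit 0]) (.node (nat_lit 5) (.leaf [nat_lit 0, nat_lit 1, nat_lit 0, nat_lit 1, nat_lit 0, nat_lit 1, nat_lit 0, nat_lit 1, nat_lit 0, nat_lit 1]) (.leaf [nat_lit 0, nat_lit 1, nat_lit 2, nat_lit 0, nat_lit 1, nat_lit 2, nat_lit 0, nat_lit 1, nat_lit 2])))) (.node (nat_lit 9) (.node (nat_lit 7) (.leaf [nat_lit 0, nat_lit 1, nat_lit 0, nat_lit 2, nat_lit 0, nat_lit 1, nat_lit 0, nat_lit 2]) (.node (nat_lit 8) (.leaf [nat_lit 1, nat_lit 2, nat_lit 1, nat_lit 2, nat_lit 1, nat_lit 2]) (.leaf [nat_lit 1, nat_lit 1]))) (.node (nat_lit 11) (.node (nat_lit 10) (.leaf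 [nat_lit 1, nat_lit 2, nat_lit 0, nat_lit 1, nat_lit 2, nat_lit 0, nat_lit 1, nat_lit 2, nat_lit 0]) (.leaf [nat_lit 1, nat_lit 0, nat_lit 2, nat_lit 0, nat_lit 1, nat_lit 0, nat_lit 2, nat_lit 0])) (.node (nat_lit 12) (.leaf [nat_lit 0, nat_lit 2, nat_lit 1, nat_lit 0, nat_lit 2, nat_lit 1, nat_lit 0, nat_lit 2, nat_lit 1]) (.leaf [nat_lit 2, nat_lit 0, nat_lit 1, nat_lit 0, nat_lit 2, nat_lit 0, nat_lit 1, nat_lit 0])))))
noncomputable def P : TCP where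
  lk := lk
  inv := (fun l => l)
  wt := wt.get
  gens := [nat_lit 0, nat_lit 1, nat_lit 2]
  N := nat_lit 60
  n := nat_lit 60
  eps := nat_lit 3
  VM := nat_lit 63
  Wv := nat_lit 6
  MAXB := nat_lit 960
  JM := nat_lit 31
  Wj := nat_lit 5
  Hm := nat_lit 0
def ls : List Nat := [nat_lit 0, nat_lit 1, nat_lit 2, nat_lit 3]
def cl1 : Cl := (.gen (nat_lit 0) (.gen (nat_lit 1) (.gen (nat_lit 2) (.opt (nat_lit 3) .nil))))
def cl2 : Cl := (.opt (nat_lit 0) (.opt (nat_lit 1) (.opt (nat_lit 2) (.opt (nat_lit 3) .nil))))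
noncomputable def chk : ℕ → List ℕ → ℕ → Bool :=
  rows2 (nat_lit 60) (parOk P) (cols2 lk (nat_lit 960) (nat_lit 60) (nat_lit 60) (ent1 (nat_lit 63) (nat_lit 31) (nat_lit 5) (decJ wt.get)
    (ent2 lk (nat_lit 63) (special P) (slowE lk (fun l => l) (nat_lit 60) (nat_lit 3) (nat_lit 63) (nat_lit 8))))) cl1 cl2
theorem rg {x y : ℕ} (Js : List ℕ) (h : chk y Js x = true) : RowsGood P ls x y :=
  rowsGood_of2 (c1 := cl1) (c2 := cl2) (by decide +kernel) h
def bases : List (List Nat × Nat) := [([0, 0], 1), ([1, 1], 1), ([2, 2], 1), ([1, 2], 3), ([0, 1, 0, 2], 2), ([0, 1], 5), ([0, 1, 2], 3)]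
noncomputable def j0 : List ℕ := nat_lit 0x1821 :: nat_lit 0x40a :: nat_lit 0x21 :: nat_lit 0x401 :: nat_lit 0x2a :: nat_lit 0x100a :: nat_lit 0x420 :: nat_lit 0x401 :: nat_lit 0x420 :: nat_lit 0x21 :: nat_lit 0x420 :: nat_lit 0x408 :: nat_lit 0x401 :: nat_lit 0x420 :: nat_lit 0x401 :: nat_lit 0x420 :: nat_lit 0x40c :: nat_lit 0x21 :: nat_lit 0x420 :: nat_lit 0x40a :: nat_lit 0x2e :: nat_lit 0x420 :: nat_lit 0x420 :: nat_lit 0x21 :: nat_lit 0x401 :: nat_lit 0x21 :: nat_lit 0x21 :: nat_lit 0x28a :: nat_lit 0x290 :: nat_lit 0x2a :: nat_lit 0x21 :: nat_lit 0x281 :: nat_lit 0x1801 :: nat_lit 0x2a :: nat_lit 0x1801 :: nat_lit 0x408 :: nat_lit 0x2e :: nat_lit 0x401 :: nat_lit 0x290 :: nat_lit 0x680 :: nat_lit 0x100a :: nat_lit 0x1a80 :: nat_lit 0x24a :: nat_lit 0x1ac0 :: nat_lit 0x1801 :: nat_lit 0x1b00 :: nat_lit 0x100a :: nat_lit 0x100a :: nat_lit 0x1b00 :: nat_lit 0x101a :: nat_lit 0x7300 :: nat_lit 0x7280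 :: nat_lit 0x100a :: nat_lit 0x1ac0 :: nat_lit 0x28e :: nat_lit 0x1808 :: nat_lit 0x7280 :: nat_lit 0x24e :: nat_lit 0x250 :: nat_lit 0x7300 :: []
theorem c0 : RowsGood P ls 0 60 := rg j0 (by decide +kernel)
theorem f0 : RowsGood P ls 0 60 :=
  c0
theorem good : RowsGood P (List.range (P.eps + 1)) 0 P.N :=
  (f0 : RowsGood P ls 0 60)
theorem idx {G : Type*} [Group G] {E : ℕ → G} {inv : ℕ → ℕ} (hi : ∀ l, E (inv l) = (E l)⁻¹)
    {B : List (List ℕ × ℕ)} (hB : ∀ p ∈ B, lprod E p.1 ^ p.2 = 1) (σ : List (List ℕ))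
    {hs ks : List (List ℕ)} (hc : certOk P wt bases inv B σ hs ks = true) :
    (gp E hs).relIndex (gp E ks) ≠ 0 ∧ (gp E hs).relIndex (gp E ks) ≤ 60 :=
  tc_gp hi hB rfl (fun _ h => rfl) good σ hc

end Cfsg.Agent.H15.S44T0
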