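import Cfsg.Agent.H15.TC3
set_option autoImplicit false
set_option maxRecDepth 100000

namespace Cfsg.Agent.H15.S44T1
open Cfsg.Agent.H15 Cfsg.Agent.H14

noncomputable def t0_0 (_i : ℕ) : ℕ := (nat_lit 0xca0e51f80fc07e000500001929e97f01f80fc0009400631d2558077f00446fc0000c6385a000e7e0085bf800018c6ce5001bfc07e03f0000218d946ff0001bfc07e00006297388805ff01f80fc00008526393fc0004ff01f800018a44d2e011fc07e03f000011608a43f01f80020fe00000207183fe03f00042003800040c206fc07e03f0000600190f3f0003c75fb8fde7e00321c7e00070fbe79f40f80063aefc000b9e7ae386dd000875df8001f80b9a72cb60018eb3f0002c5db14c97760021d5fe0106a02b31d38f40063a9fc000a5c72dbc65a0008753f8001f00a5d7a8370008ca3f00b302d500a1170003193fe0004eb3b518b4f0004327fc022e804e4aa2d5800864df806190098668d390008c9bf00b31159809955e0001937e017682b02dd8098004323fc02ecc046ab66188004647f805db8cc8046a300018c87f0002145120bd66600018ffe0007a03c257007c00631efc00078d5a620396000863bf8001d80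749587ad0008c6ff0051d01d006cc6a00318d7e0003463729a9aa8000319fc000e40705a900c800852df803cd805806e7a80008a5bf0003601a8058a4e00314afe0002a03401980c8006294fc0005064a2a54128000529f8014c0e8473c0140018a4ff0001301880c13440031497e0002492f14fa48c002291fc000bc8480112508000523f8030e145cc5a0110018a43f000101cf8c8805c0021487e0005a0101921078000290fc014ac058193008000851ff80310003c5324960000a3ff007a82cd80ac01e000146fe0005439520d003400628cfc0003073231c0148004519f801920238018318000082ff007912d0125c0160031057e00014028013947000220afc0009883400a0c60008413f8001280243160240000827f0002320988740120021047e000440080c68438004207fc01c5c00e021010000440ff8000f807800e01d001881bf0000600e083c0360011037e002101180030648006205fc0001451a21200d000840bf8000c80140302150018613f00004145885002e0000c27e0002c20a00a8010006183fc0000c0280890098000307f800c70048110003001860bf00002008804070e0020c17e0001e0020070a18002182fc000340180020828008203f80005800420800a0008407f000090418004010000080fe0000e0060028004006080fc000000080030010000001f800008000000000)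
noncomputable def blk (i : ℕ) : ℕ := (t0_0 i)
noncomputable def row (x : ℕ) : ℕ := frcN (Nat.shiftRight x (nat_lit 7)) fun b =>
  Nat.land (Nat.shiftRight (blk b) (Nat.mul (Nat.land x (nat_lit 127)) (nat_lit 91))) (nat_lit 0x7ffffffffffffffffffffff)
noncomputable def lk (x l : ℕ) : ℕ :=
  Nat.land (Nat.shiftRight (row x) (Nat.mul l (nat_lit 13))) (nat_lit 8191)
noncomputable def ap (x l : ℕ) : ℕ :=
  Nat.land (Nat.shiftRight (row x) (Nat.mul l (nat_lit 13))) (nat_lit 127)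
noncomputable def wt : Wt := (.node (nat_lit 16) (.node (nat_lit 8) (.node (nat_lit 4) (.node (nat_lit 2) (.node (nat_lit 1) (.leaf [nat_lit 2, nat_lit 1, nat_lit 3, nat_lit 1, nat_lit 2, nat_lit 1, nat_lit 3, nat_lit 1]) (.leaf [nat_lit 1, nat_lit 2, nat_lit 1, nat_lit 2, nat_lit 1, nat_lit 2])) (.node (nat_lit 3) (.leaf [nat_lit 1, nat_lit 0, nat_lit 1, nat_lit 3, nat_lit 1, nat_lit 0, nat_lit 1, nat_lit 0, nat_lit 1, nat_lit 3, nat_lit 1, nat_lit 0]) (.leaf [nat_lit 0, nat_lit 1, nat_lit 0, nat_lit 1, nat_lit 0, nat_lit 1, nat_lit 0, nat_lit 1, nat_lit 0, nat_lit 1]))) (.node (nat_lit 6) (.node (nat_lit 5) (.leaf [nat_lit 1, nat_lit 3, nat_lit 1, nat_lit 3, nat_lit 1, nat_lit 3, nat_lit 1, nat_lit 3]) (.leaf [nat_lit 3, nat_lit 0, nat_lit 2, nat_lit 1, nat_lit 3, nat_lit 0, nat_lit 2, nat_lit 1, nat_lit 3, nat_lit 0, nat_lit 2, nat_lit 1])) (.node (nat_lit 7) (.leaf [nat_lit 3, nat_lit 3]) (.leaf [nat_lit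 1, nat_lit 3, nat_lit 1, nat_lit 2, nat_lit 1, nat_lit 3, nat_lit 1, nat_lit 2])))) (.node (nat_lit 12) (.node (nat_lit 10) (.node (nat_lit 9) (.leaf [nat_lit 1, nat_lit 1]) (.leaf [nat_lit 0, nat_lit 1, nat_lit 2, nat_lit 0, nat_lit 1, nat_lit 2, nat_lit 0, nat_lit 1, nat_lit 2])) (.node (nat_lit 11) (.leaf [nat_lit 0, nat_lit 0]) (.leaf [nat_lit 2, nat_lit 1, nat_lit 2, nat_lit 1, nat_lit 2, nat_lit 1]))) (.node (nat_lit 14) (.node (nat_lit 13) (.leaf [nat_lit 1, nat_lit 0, nat_lit 2, nat_lit 0, nat_lit 1, nat_lit 0, nat_lit 2, nat_lit 0]) (.leaf [nat_lit 0, nat_lit 2, nat_lit 0, nat_lit 1, nat_lit 0, nat_lit 2, nat_lit 0, nat_lit 1])) (.node (nat_lit 15) (.leaf [nat_lit 2, nat_lit 1, nat_lit 0, nat_lit 2, nat_lit 1, nat_lit 0, nat_lit 2, nat_lit 1, nat_lit 0]) (.leaf [nat_lit 2, nat_lit 2]))))) (.node (nat_lit 24) (.node (nat_lit 20) (.node (nat_lit 18) (.node (nat_lit 17) (.leaf [nat_lit 0, nat_lit 2, nat_lit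 1, nat_lit 0, nat_lit 2, nat_lit 1, nat_lit 0, nat_lit 2, nat_lit 1]) (.leaf [nat_lit 2, nat_lit 0, nat_lit 1, nat_lit 0, nat_lit 2, nat_lit 0, nat_lit 1, nat_lit 0])) (.node (nat_lit 19) (.leaf [nat_lit 1, nat_lit 2, nat_lit 0, nat_lit 1, nat_lit 2, nat_lit 0, nat_lit 1, nat_lit 2, nat_lit 0]) (.leaf [nat_lit 0, nat_lit 3, nat_lit 1, nat_lit 2, nat_lit 0, nat_lit 3, nat_lit 1, nat_lit 2, nat_lit 0, nat_lit 3, nat_lit 1, nat_lit 2]))) (.node (nat_lit 22) (.node (nat_lit 21) (.leaf [nat_lit 3, nat_lit 1, nat_lit 2, nat_lit 0, nat_lit 3, nat_lit 1, nat_lit 2, nat_lit 0, nat_lit 3, nat_lit 1, nat_lit 2, nat_lit 0]) (.leaf [nat_lit 0, nat_lit 1, nat_lit 3, nat_lit 1, nat_lit 0, nat_lit 1, nat_lit 0, nat_lit 1, nat_lit 3, nat_lit 1, nat_lit 0, nat_lit 1])) (.node (nat_lit 23) (.leaf [nat_lit 1, nat_lit 0, nat_lit 1, nat_lit 0, nat_lit 1, nat_lit 0, nat_lit 1, nat_lit 0, nat_lit 1, nat_lit 0]) (.leaf [nat_lit 1,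 nat_lit 0, nat_lit 2, nat_lit 1, nat_lit 0, nat_lit 2, nat_lit 1, nat_lit 0, nat_lit 2])))) (.node (nat_lit 28) (.node (nat_lit 26) (.node (nat_lit 25) (.leaf [nat_lit 1, nat_lit 2, nat_lit 0, nat_lit 3, nat_lit 1, nat_lit 2, nat_lit 0, nat_lit 3, nat_lit 1, nat_lit 2, nat_lit 0, nat_lit 3]) (.leaf [nat_lit 1, nat_lit 2, nat_lit 1, nat_lit 3, nat_lit 1, nat_lit 2, nat_lit 1, nat_lit 3])) (.node (nat_lit 27) (.leaf [nat_lit 2, nat_lit 0, nat_lit 3, nat_lit 1, nat_lit 2, nat_lit 0, nat_lit 3, nat_lit 1, nat_lit 2, nat_lit 0, nat_lit 3, nat_lit 1]) (.leaf [nat_lit 2, nat_lit 1, nat_lit 3, nat_lit 0, nat_lit 2, nat_lit 1, nat_lit 3, nat_lit 0, nat_lit 2, nat_lit 1, nat_lit 3, nat_lit 0]))) (.node (nat_lit 30) (.node (nat_lit 29) (.leaf [nat_lit 0, nat_lit 1, nat_lit 0, nat_lit 2, nat_lit 0, nat_lit 1, nat_lit 0, nat_lit 2]) (.leaf [nat_lit 3, nat_lit 1, nat_lit 3, nat_lit 1, nat_lit 3, nat_lit 1, nat_lit 3, nat_lit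 1])) (.node (nat_lit 31) (.leaf [nat_lit 3, nat_lit 1, nat_lit 2, nat_lit 1, nat_lit 3, nat_lit 1, nat_lit 2, nat_lit 1]) (.node (nat_lit 32) (.leaf [nat_lit 0, nat_lit 2, nat_lit 1, nat_lit 3, nat_lit 0, nat_lit 2, nat_lit 1, nat_lit 3, nat_lit 0, nat_lit 2, nat_lit 1, nat_lit 3]) (.leaf [nat_lit 2, nat_lit 0, nat_lit 1, nat_lit 2, nat_lit 0, nat_lit 1, nat_lit 2, nat_lit 0, nat_lit 1])))))))
noncomputable def P : TCP where
  lk := lk
  inv := (fun l => l)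
  wt := wt.get
  gens := [nat_lit 0, nat_lit 1, nat_lit 2, nat_lit 3]
  N := nat_lit 76
  n := nat_lit 64
  eps := nat_lit 4
  VM := nat_lit 127
  Wv := nat_lit 7
  MAXB := nat_lit 8064
  JM := nat_lit 127
  Wj := nat_lit 7
  Hm := nat_lit 7
def ls : List Nat := [nat_lit 0, nat_lit 1, nat_lit 2, nat_lit 3, nat_lit 4]
def cl1 : Cl := (.gen (nat_lit 0) (.gen (nat_lit 1) (.gen (nat_lit 2) (.gen (nat_lit 3) (.opt (nat_lit 4) .nil)))))
def cl2 : Cl := (.opt (nat_lit 0) (.opt (nat_lit 1) (.opt (nat_lit 2) (.opt (nat_lit 3) (.opt (nat_lit 4) .nil)))))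
noncomputable def chk : ℕ → List ℕ → ℕ → Bool :=
  rows2 (nat_lit 64) (parOk P) (cols2 lk (nat_lit 8064) (nat_lit 64) (nat_lit 76) (ent1 (nat_lit 127) (nat_lit 127) (nat_lit 7) (decJ wt.get)
    (ent2 lk (nat_lit 127) (special P) (slowE lk (fun l => l) (nat_lit 76) (nat_lit 4) (nat_lit 127) (nat_lit 9))))) cl1 cl2
theorem rg {x y : ℕ} (Js : List ℕ) (h : chk y Js x = true) : RowsGood P ls x y :=
  rowsGood_of2 (c1 := cl1) (c2 := cl2) (by decide +kernel) h
def bases : List (List Nat × Nat) := [([0, 0], 1), ([1, 1], 1), ([2, 2], 1), ([3, 3], 1), ([1, 2], 3), ([0, 1, 0, 2], 2), ([0, 1], 5), ([0, 1, 2], 3), ([1, 3], 4), ([1, 2, 1, 3], 2), ([0, 1, 0, 1, 3, 1], 2), ([0, 2, 1, 3], 3)]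
noncomputable def j0 : List ℕ := nat_lit 0x208102 :: nat_lit 0x4081 :: nat_lit 0x204080 :: nat_lit 0x210001 :: nat_lit 0x200301 :: nat_lit 0x20400a :: nat_lit 0x1000481800580119 :: nat_lit 0x20483800580119 :: nat_lit 0x2004400 :: nat_lit 0x4601 :: nat_lit 0x280080 :: nat_lit 0x68a01 :: nat_lit 0x200098 :: nat_lit 0x68a01 :: nat_lit 0x1c88018 :: nat_lit 0x4601 :: nat_lit 0x204001 :: nat_lit 0x10f000b0022200081 :: nat_lit 0x200916 :: nat_lit 0x122600160048ca00 :: nat_lit 0x200901 :: nat_lit 0x28801e :: nat_lit 0x4098 :: nat_lit 0x117000b0022289800 :: nat_lit 0x2068024 :: nat_lit 0x68a01 :: nat_lit 0x299400 :: nat_lit 0x8f80058011123600160048c080 :: nat_lit 0x123000b002220092a :: nat_lit 0x127000b0022204400 :: nat_lit 0x20092e :: nat_lit 0x10a01 :: nat_lit 0x1910005801114cc88002c008a80 :: nat_lit 0x288016 :: nat_lit 0x8862a :: nat_lit 0x4098 :: nat_lit 0x5868a00 :: nat_lit 0x83095800580119 :: nat_lit 0x4081 ::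 nat_lit 0x20402e :: nat_lit 0x18f000580111000497800580119 :: nat_lit 0x205800 :: nat_lit 0x88a0a :: nat_lit 0x326000b0022204018 :: nat_lit 0x200318 :: nat_lit 0x848c002c008a96 :: nat_lit 0x204400 :: nat_lit 0x10618 :: nat_lit 0x208800a :: nat_lit 0x2000a24 :: nat_lit 0x80e8a00 :: nat_lit 0x7c1001e :: nat_lit 0x2000318 :: nat_lit 0x200093c :: nat_lit 0x69a18 :: nat_lit 0x8068018 :: nat_lit 0x200a3c :: nat_lit 0x68a42 :: nat_lit 0x8000318 :: nat_lit 0x89b0a :: nat_lit 0x20193c :: nat_lit 0x111b42 :: nat_lit 0x10642 :: nat_lit 0x10642 :: nat_lit 0x1020000005c020e80 :: nat_lit 0x42c84002800654080 :: nat_lit 0x4180000006c028580 :: nat_lit 0x10e0000005c021b80 :: nat_lit 0x44800000064025980 :: nat_lit 0x22cc38005000c880 :: nat_lit 0x93ab8005000ca80 :: nat_lit 0x11e000000007c031a80 :: nat_lit 0x48800000001f00c72024472330c8c4923d001f8038d :: nat_lit 0x498ec4e271268d1b80104021b809300000000e805b5 :: nat_lit 0x12a000000007c031d80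 :: nat_lit 0x4b800000064025480 :: []
theorem c0 : RowsGood P ls 0 76 := rg j0 (by decide +kernel)
theorem f0 : RowsGood P ls 0 76 :=
  c0
theorem good : RowsGood P (List.range (P.eps + 1)) 0 P.N :=
  (f0 : RowsGood P ls 0 76)
theorem idx {G : Type*} [Group G] {E : ℕ → G} {inv : ℕ → ℕ} (hi : ∀ l, E (inv l) = (E l)⁻¹)
    {B : List (List ℕ × ℕ)} (hB : ∀ p ∈ B, lprod E p.1 ^ p.2 = 1) (σ : List (List ℕ))
    {hs ks : List (List ℕ)} (hc : certOk P wt bases inv B σ hs ks = true) :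
    (gp E hs).relIndex (gp E ks) ≠ 0 ∧ (gp E hs).relIndex (gp E ks) ≤ 64 :=
  tc_gp hi hB rfl (fun _ h => rfl) good σ hc

end Cfsg.Agent.H15.S44T1
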