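import Cfsg.Agent.H15.Iso
import Cfsg.Agent.H15.He
import Cfsg.Agent.S0245
import Cfsg.Agent.H15.S44T0
import Cfsg.Agent.H15.S44T1
import Cfsg.Agent.H15.S44T2
set_option autoImplicit false
set_option maxRecDepth 100000

namespace Cfsg.Agent.H15.HeSp
open Cfsg.Agent.H15 Cfsg.Agent.H14

def pT : ℕ := 67903552
def pB : List (List ℕ × ℕ) := [([0, 0], 1), ([1, 1], 1), ([2, 2], 1), ([3, 3], 1), ([4, 4], 1), ([1, 2], 3), ([0, 1, 0, 2], 2), ([0, 1], 5), ([0, 1, 2], 3), ([1, 3], 4), ([1, 2, 1, 3], 2), ([0, 1, 0, 1, 3, 1], 2), ([0, 2, 1, 3], 3), ([1, 4], 4), ([0, 3, 1, 3, 0, 4, 2, 4], 1), ([0, 4], 4), ([0, 1, 0, 1, 3, 1, 2, 4, 0, 1, 0, 4], 1), ([0, 1, 3, 1, 4, 3, 4, 0, 2, 1, 4, 1, 3, 2], 1)]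
theorem bound {H : Type*} [Group H] {E : ℕ → H} (h : Sat E (invT pT 5) pB) : CardLe (cl E 5) 979200 := by
  have c0 : CardLe (gp E [[0], [1], [2]]) (60 * 1) :=
    cardLe_nil.step (S44T0.idx h.hi h.hB [[0], [1], [2]] (by decide +kernel)) (by decide +kernel)
  have c1 : CardLe (gp E [[0], [1], [2], [3]]) (64 * 60) :=
    c0.step (S44T1.idx h.hi h.hB [[0], [1], [2], [3]] (by decide +kernel)) (by decide +kernel)
  have c2 : CardLe (gp E [[0], [1], [2], [3], [4]]) (255 * 3840) :=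
    c1.step (S44T2.idx h.hi h.hB [[0], [1], [2], [3], [4]] (by decide +kernel)) (by decide +kernel)
  rw [cl_eq_gp (ws := [[0], [1], [2], [3], [4]]) (by decide +kernel)]; exact c2
def σ : List (List ℕ) := [[4, 3, 2, 1, 5, 3, 2, 3, 6, 3, 2, 3, 2, 3, 6, 3, 2, 3, 1, 2, 3, 4, 0], [1, 3, 2, 3, 6, 3, 2, 3, 2, 3, 6, 3, 2, 1, 3, 5, 0], [1, 0, 6, 3, 2, 3, 2, 4, 5, 3, 2, 1, 6, 3, 2, 5, 3, 2, 3, 1, 2, 3, 2, 3, 5, 1, 0], [2, 5, 3, 2, 1, 4, 3, 2, 1, 3, 6, 3, 2, 3, 4, 1, 2, 3, 5, 2], [1, 5, 3, 2, 3, 6, 3, 2, 1, 3, 2, 3, 5, 3, 2, 3, 0, 1, 2, 3, 6, 3, 2, 3, 5, 1]]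
def σ1 : List (List ℕ) := [[0], [1], [2], [3], [4]]
def uC : List (List ℕ) := [[1, 128, 567347999932416, 4398046511104, 268435456, 34359738368, 2097152, 2113536], [1, 128, 16384, 2097152, 268435456, 34359738368, 4398046527488, 562949955518464], [1, 128, 4398046527488, 562949955518464, 268435456, 34359738368, 4398046511104, 562949953421312], [1, 128, 16512, 2097281, 562950223953921, 567382361784448, 4398046511232, 562949953421441], [562949953421441, 567347999932417, 34361852032, 34628190337, 562984583692288, 567348270481408, 567347999932544, 4398046511233]]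
def uI : List (List ℕ) := [[1, 2, 192, 64, 16, 32, 8, 12], [1, 2, 4, 8, 16, 32, 68, 136], [1, 2, 68, 136, 16, 32, 64, 128], [1, 2, 6, 11, 153, 238, 66, 131], [131, 193, 46, 55, 184, 220, 194, 67]]
def lowGS4 : List (List ℕ) := [[4, 3, 1, 4, 2, 1, 4]]
def lowGT4 : List (List ℕ) := lowGS4 ++ []
def lowGS3 : List (List ℕ) := [[1, 4, 3, 0, 4, 0, 3, 4, 1], [3, 0, 3, 2, 4, 2, 3, 0, 3]]
def lowGT3 : List (List ℕ) := lowGS3 ++ lowGT4
def lowGS2 : List (List ℕ) := [[3, 0, 4, 0, 3], [2, 1, 3, 4, 3, 1, 2], [4, 3, 0, 1, 0, 4, 2]]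
def lowGT2 : List (List ℕ) := lowGS2 ++ lowGT3
def lowGS1 : List (List ℕ) := [[0], [2, 4, 2], [3, 4, 3]]
def lowGT1 : List (List ℕ) := lowGS1 ++ lowGT2
def lowGS0 : List (List ℕ) := [[0], [1], [2], [3], [4]]
def lowGT0 : List (List ℕ) := lowGS0 ++ lowGT1
def lowTS3 : List (List ℕ) := [[4, 3, 2, 3, 4], [4, 3, 0, 1, 0, 3, 4]]
def lowTT3 : List (List ℕ) := lowTS3 ++ []
def lowTS2 : List (List ℕ) := [[1], [0, 2, 0], [2, 3, 2], [0, 1, 3, 1, 0]]
def lowTT2 : List (List ℕ) := lowTS2 ++ lowTT3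
def lowTS1 : List (List ℕ) := [[2], [3], [1, 0]]
def lowTT1 : List (List ℕ) := lowTS1 ++ lowTT2
def lowTS0 : List (List ℕ) := [[0], [1], [2], [3], [4]]
def lowTT0 : List (List ℕ) := lowTS0 ++ lowTT1
noncomputable def cS : Crd F4 (Fin 2 ⊕ Fin 2) := crd2 2 1 1 finSumFinEquiv (by norm_num)
theorem uk : all2 uC cS.okM uI = true := by decide +kernel
noncomputable abbrev uA := cS.tab uC uI uk
theorem apU : uA.ap = apL 2 8 uC := cS.tab_ap uk rfl rfl
noncomputable abbrev tA := uA.comp σ1 (by decide +kernel)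
noncomputable abbrev gA := He.A0.comp σ (by decide +kernel)
theorem apT : tA.ap = fun x l => tr (apL 2 8 uC) (nthW σ1 l) x := congrArg (fun ap x l => tr ap (nthW σ1 l) x) apU
theorem satG : Sat (fun l => lprod He.A0.e (nthW σ l)) (invT pT σ.length) pB := He.base0.sat1 (by decide +kernel)
theorem satT : Sat (fun l => lprod uA.e (nthW σ1 l)) (invT pT σ1.length) pB :=
  (cS.base uk).sat1 (cast_ap apU (fun ap => satChk ap 5 (basC 2 8) σ1 [[]] pT pB) (by decide +kernel))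
theorem lowG4 : gA.Lower (gp gA.e lowGT4) [33] 2 :=
  TabAct.Lower.step (k := 2) (TabAct.lower_nil _ _)
    (show stepOk (fun x l => tr HeA.ap (nthW σ l) x) 5 2058 id lowGS4 [] 33 2 = true by decide +kernel)
theorem lowG3 : gA.Lower (gp gA.e lowGT3) [4, 33] 8 :=
  TabAct.Lower.step (k := 4) lowG4
    (show stepOk (fun x l => tr HeA.ap (nthW σ l) x) 5 2058 id lowGS3 lowGT4 4 4 = true by decide +kernel)
theorem lowG2 : gA.Lower (gp gA.e lowGT2) [3, 4, 33] 120 :=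
  TabAct.Lower.step (k := 15) lowG3
    (show stepOk (fun x l => tr HeA.ap (nthW σ l) x) 5 2058 id lowGS2 lowGT3 3 15 = true by decide +kernel)
theorem lowG1 : gA.Lower (gp gA.e lowGT1) [2, 3, 4, 33] 7200 :=
  TabAct.Lower.step (k := 60) lowG2
    (show stepOk (fun x l => tr HeA.ap (nthW σ l) x) 5 2058 id lowGS1 lowGT2 2 60 = true by decide +kernel)
theorem lowG0 : gA.Lower (gp gA.e lowGT0) [1, 2, 3, 4, 33] 979200 :=
  TabAct.Lower.step (k := 136) lowG1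
    (show stepOk (fun x l => tr HeA.ap (nthW σ l) x) 5 2058 id lowGS0 lowGT1 1 136 = true by decide +kernel)
theorem lowT3 : tA.Lower (gp tA.e lowTT3) [16] 4 :=
  TabAct.Lower.step (k := 4) (TabAct.lower_nil _ _)
    (cast_ap apT (fun ap => stepOk ap 5 tA.n id lowTS3 [] 16 4) (by decide +kernel))
theorem lowT2 : tA.Lower (gp tA.e lowTT2) [64, 16] 64 :=
  TabAct.Lower.step (k := 16) lowT3
    (cast_ap apT (fun ap => stepOk ap 5 tA.n id lowTS2 lowTT3 64 16) (by decide +kernel))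
theorem lowT1 : tA.Lower (gp tA.e lowTT1) [4, 64, 16] 3840 :=
  TabAct.Lower.step (k := 60) lowT2
    (cast_ap apT (fun ap => stepOk ap 5 tA.n id lowTS1 lowTT2 4 60) (by decide +kernel))
theorem lowT0 : tA.Lower (gp tA.e lowTT0) [1, 4, 64, 16] 979200 :=
  TabAct.Lower.step (k := 255) lowT1
    (cast_ap apT (fun ap => stepOk ap 5 tA.n id lowTS0 lowTT1 1 255) (by decide +kernel))
theorem leT : cl (fun l => lprod uA.e (nthW σ1 l)) σ1.length ≤ (spGL (Fin 2) F4).range :=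
  (cl_nth _ _).le.trans ((gp_le_cl (L := 5) (by decide +kernel)).trans (cl_le.mpr fun l hl => cS.mem_sp uk hl
    ((show ∀ l < 5, cS.mat (nthW uC l) * Matrix.J (Fin 2) F4 * (cS.mat (nthW uC l)).transpose = Matrix.J (Fin 2) F4 by
      decide +kernel) l hl)))
theorem card : Nat.card (Matrix.symplecticGroup (Fin 2) F4) = 979200 := S0245.result F4.card 2
theorem main : ∃ N : Subgroup (gp He.E He.hs), N.index = 2 ∧ Nonempty (N ≃* Matrix.symplecticGroup (Fin 2) F4) := by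
  have h2 := lowT0.le_gp (by decide +kernel)
  obtain ⟨⟨e⟩, c⟩ := iso_of_card (bound (satG.prod satT)) (lowG0.le_gp (by decide +kernel)) h2
  obtain ⟨-, ⟨f⟩⟩ := eq_range (spGL_inj _ _) leT (card.le.trans h2)
  have h : cl (fun l => lprod He.A0.e (nthW σ l)) 5 ≤ gp He.E He.hs := (cl_nth _ σ).le.trans (He.stab0.1 ▸
    He.A0.gp_le_stabilizer (by decide +kernel) (by decide +kernel) (by decide +kernel))
  exact ⟨_, index_two_of h c He.card_hs, ⟨(Subgroup.subgroupOfEquivOfLe h).trans (e.trans f)⟩⟩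

end Cfsg.Agent.H15.HeSp
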