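import Cfsg.Agent.H15.TC3
set_option autoImplicit false
set_option maxRecDepth 100000

namespace Cfsg.Agent.H15.HezT0
open Cfsg.Agent.H15 Cfsg.Agent.H14

noncomputable def t0_0 (_i : ℕ) : ℕ := (nat_lit 0x12ae6a7f8036602ef8000222b4b0f8002bf800e30013a95bff80f80029f8000132772ef80f80027f800012a579df80f80025f800033a3821023f803adf800033218a3021f80f80f800013217adf80f80021f8000329f7b701ff80f80f8000221e3bcf8001ef80f8000121d725f802f001df8000321918d019f80f80f80002214392f80014f80f80002192414f80012f8016f00339119b011f80f80f8000318d11900df80f80f80002308296f80008f8022300134ff80ad1adc04fa590033c7f800479cf44a8ce000345f8095c4d1b5b0450012c2f809ddb5f0428d50032c1f800412c9bdd0c30022c1f802c90413c77c8003440f800402559cdadf002440f802550409c44d200033af807cc24d8d403a0002b8f80b522508bc0380012b7f802d82d903795c0022b6f8093f036857a4a001333f800b41b80331500022b1f80ad60319c35580012b0f80b5f55d0300b40012aff800b12d602f1d30002aff800b295e05f02f0032aef8002e32f23995e0032a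df8002d2d7a590b30022adf8085702d7480ae00222cf805b902c5c62bf00342af8002aabb4de9d400142af8035a35b02a0c60033a9f800296bd6cc85a000328f8005e33235a028003327f800278c364b1490012a6f802b83b402605d0002a6f806bd2a9a580260032a5f80025946a5215b003224f800248b505c7bc001224f8005b05a0247bd0013a3f800590580233b10023a2f809d402262934b002320f80930020a320a100129ff8074474801f74100321df8001d41e95684200331cf8001ca4a3352b600129bf800a813301b05700229af8054b01a2ce09b001219f80345253019056002218f8081f018055099001218f801a205401833b003197f800178423bb29e001296f80153445016151003295f800151ba05314d000295f8014f3c79be015001214f80150052014440000214f809be52b051014003213f800132ce05004f002213f8004e01372714c000213f8004d04c8a1013001192f8021a04b0121a2000192f800a053011c012000391f8004a21c049011000310f8004834463f01000128ff8013a21500f04700028ff800460a57ae00f00320ef8000e19004504400020ef8004312781d00e00018df8004209704100d00230cf808a100c04031600130cf8023603f00c22c00228bf8092300b82d13e00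028bf8012b03e21700b00220af8083700a03d09d003189f8000943c11a335002189f8003c0097a511f000287f8003b2aa1ab007002206f8021100603a139000206f802ac03919e006002185f8020d005038137000185f8008a037036005000104f800351242a0004003203f80003308034323001203f800332a8003032003182f80002412031030001182f8002f02e00202d003101f8000149402c02b001310f8021b10701002a00328ff8000f22601102900220ef8001000e02802700118df8002600f00d025002104f8019900400e02400328bf8000b02302210800120af8000c02100a020000189f8011801f00b009001101f8001e01d00100a001287f8008031600718c003206f8000619100801c001185f8000701b00501a003104f80004019006018001080f8000500d000017000182f80016080015002002101f80014001013003000080f80012002009000000000f80108103004001)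
noncomputable def blk (i : ℕ) : ℕ := (t0_0 i)
noncomputable def row (x : ℕ) : ℕ := frcN (Nat.shiftRight x (nat_lit 7)) fun b =>
  Nat.land (Nat.shiftRight (blk b) (Nat.mul (Nat.land x (nat_lit 127)) (nat_lit 84))) (nat_lit 0xfffffffffffffffffffff)
noncomputable def lk (x l : ℕ) : ℕ :=
  Nat.land (Nat.shiftRight (row x) (Nat.mul l (nat_lit 12))) (nat_lit 4095)
noncomputable def ap (x l : ℕ) : ℕ :=
  Nat.land (Nat.shiftRight (row x) (Nat.mul l (nat_lit 12))) (nat_lit 127)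
noncomputable def wt : Wt := (.node (nat_lit 15) (.node (nat_lit 7) (.node (nat_lit 3) (.node (nat_lit 1) (.leaf [nat_lit 2, nat_lit 0, nat_lit 2, nat_lit 0]) (.node (nat_lit 2) (.leaf [nat_lit 2, nat_lit 2]) (.leaf [nat_lit 3, nat_lit 1, nat_lit 3, nat_lit 1, nat_lit 3, nat_lit 1]))) (.node (nat_lit 5) (.node (nat_lit 4) (.leaf [nat_lit 3, nat_lit 3]) (.leaf [nat_lit 0, nat_lit 3, nat_lit 0, nat_lit 1, nat_lit 0, nat_lit 1, nat_lit 3])) (.node (nat_lit 6) (.leaf [nat_lit 0, nat_lit 0]) (.leaf [nat_lit 2, nat_lit 1, nat_lit 3, nat_lit 1, nat_lit 2, nat_lit 1, nat_lit 2, nat_lit 3, nat_lit 1])))) (.node (nat_lit 11) (.node (nat_lit 9) (.node (nat_lit 8) (.leaf [nat_lit 3, nat_lit 0, nat_lit 1, nat_lit 0, nat_lit 1, nat_lit 3, nat_lit 0]) (.leaf [nat_lit 1, nat_lit 0, nat_lit 1, nat_lit 0, nat_lit 3, nat_lit 0, nat_lit 3])) (.node (nat_lit 10) (.leaf [nat_lit 1, nat_lit 1]) (.leaf [nat_lit 0, nat_lit 2, nat_lit 0, nat_lit 2]))) (.node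 (nat_lit 13) (.node (nat_lit 12) (.leaf [nat_lit 1, nat_lit 0, nat_lit 1, nat_lit 3, nat_lit 0, nat_lit 3, nat_lit 0]) (.leaf [nat_lit 2, nat_lit 1, nat_lit 2, nat_lit 1, nat_lit 3, nat_lit 1, nat_lit 2, nat_lit 1, nat_lit 3])) (.node (nat_lit 14) (.leaf [nat_lit 2, nat_lit 1, nat_lit 2, nat_lit 3, nat_lit 1, nat_lit 2, nat_lit 1, nat_lit 3, nat_lit 1]) (.leaf [nat_lit 3, nat_lit 1, nat_lit 2, nat_lit 1, nat_lit 3, nat_lit 1, nat_lit 2, nat_lit 1, nat_lit 2]))))) (.node (nat_lit 23) (.node (nat_lit 19) (.node (nat_lit 17) (.node (nat_lit 16) (.leaf [nat_lit 0, nat_lit 1, nat_lit 3, nat_lit 0, nat_lit 3, nat_lit 0, nat_lit 1]) (.leaf [nat_lit 2, nat_lit 3, nat_lit 1, nat_lit 2, nat_lit 1, nat_lit 3, nat_lit 1, nat_lit 2, nat_lit 1])) (.node (nat_lit 18) (.leaf [nat_lit 3, nat_lit 1, nat_lit 2, nat_lit 1, nat_lit 2, nat_lit 3, nat_lit 1, nat_lit 2, nat_lit 1]) (.leaf [nat_lit 1, nat_lit 3, nat_lit 1, nat_lit 3, nat_lit 1, nat_lit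 3]))) (.node (nat_lit 21) (.node (nat_lit 20) (.leaf [nat_lit 0, nat_lit 3, nat_lit 0, nat_lit 3, nat_lit 1, nat_lit 0, nat_lit 1]) (.leaf [nat_lit 0, nat_lit 3, nat_lit 1, nat_lit 0, nat_lit 1, nat_lit 0, nat_lit 3])) (.node (nat_lit 22) (.leaf [nat_lit 1, nat_lit 2, nat_lit 1, nat_lit 3, nat_lit 1, nat_lit 2, nat_lit 1, nat_lit 2, nat_lit 3]) (.leaf [nat_lit 2, nat_lit 1, nat_lit 3, nat_lit 1, nat_lit 2, nat_lit 1, nat_lit 3, nat_lit 2, nat_lit 1])))) (.node (nat_lit 27) (.node (nat_lit 25) (.node (nat_lit 24) (.leaf [nat_lit 1, nat_lit 3, nat_lit 2, nat_lit 1, nat_lit 2, nat_lit 1, nat_lit 3, nat_lit 1, nat_lit 2]) (.leaf [nat_lit 3, nat_lit 2, nat_lit 1, nat_lit 2, nat_lit 1, nat_lit 3, nat_lit 1, nat_lit 2, nat_lit 1])) (.node (nat_lit 26) (.leaf [nat_lit 1, nat_lit 2, nat_lit 1, nat_lit 3, nat_lit 2, nat_lit 1, nat_lit 2, nat_lit 1, nat_lit 3]) (.leaf [nat_lit 0, nat_lit 1, nat_lit 0, nat_lit 1, nat_lit 3, nat_lit 0, nat_lit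 3]))) (.node (nat_lit 29) (.node (nat_lit 28) (.leaf [nat_lit 3, nat_lit 1, nat_lit 0, nat_lit 1, nat_lit 0, nat_lit 3, nat_lit 0]) (.leaf [nat_lit 1, nat_lit 3, nat_lit 0, nat_lit 3, nat_lit 0, nat_lit 1, nat_lit 0])) (.node (nat_lit 30) (.leaf [nat_lit 1, nat_lit 2, nat_lit 3, nat_lit 1, nat_lit 2, nat_lit 1, nat_lit 3, nat_lit 1, nat_lit 2]) (.leaf [nat_lit 1, nat_lit 3, nat_lit 1, nat_lit 2, nat_lit 1, nat_lit 2, nat_lit 3, nat_lit 1, nat_lit 2]))))))
noncomputable def P : TCP where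
  lk := lk
  inv := (fun l => l)
  wt := wt.get
  gens := [nat_lit 0, nat_lit 1, nat_lit 2, nat_lit 3]
  N := nat_lit 113
  n := nat_lit 96
  eps := nat_lit 4
  VM := nat_lit 127
  Wv := nat_lit 7
  MAXB := nat_lit 3968
  JM := nat_lit 127
  Wj := nat_lit 7
  Hm := nat_lit 0
def ls : List Nat := [nat_lit 0, nat_lit 1, nat_lit 2, nat_lit 3, nat_lit 4]
def cl1 : Cl := (.gen (nat_lit 0) (.gen (nat_lit 1) (.gen (nat_lit 2) (.gen (nat_lit 3) (.opt (nat_lit 4) .nil)))))
def cl2 : Cl := (.opt (nat_lit 0) (.opt (nat_lit 1) (.opt (nat_lit 2) (.opt (nat_lit 3) (.opt (nat_lit 4) .nil)))))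
noncomputable def chk : ℕ → List ℕ → ℕ → Bool :=
  rows2 (nat_lit 96) (parOk P) (cols2 lk (nat_lit 3968) (nat_lit 96) (nat_lit 113) (ent1 (nat_lit 127) (nat_lit 127) (nat_lit 7) (decJ wt.get)
    (ent2 lk (nat_lit 127) (special P) (slowE lk (fun l => l) (nat_lit 113) (nat_lit 4) (nat_lit 127) (nat_lit 9))))) cl1 cl2
theorem rg {x y : ℕ} (Js : List ℕ) (h : chk y Js x = true) : RowsGood P ls x y :=
  rowsGood_of2 (c1 := cl1) (c2 := cl2) (by decide +kernel) h
def bases : List (List Nat × Nat) := [([0, 0], 1), ([1, 1], 1), ([2, 2], 1), ([3, 3], 1), ([0, 2], 2), ([1, 3], 3), ([0, 1, 0, 1, 3, 0, 3], 1), ([1, 2, 1, 2, 3, 1, 2, 1, 3], 1)]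
noncomputable def j0 : List ℕ := nat_lit 0x1418081 :: nat_lit 0x204080 :: nat_lit 0x200081 :: nat_lit 0x210080 :: nat_lit 0x204001 :: nat_lit 0x4081 :: nat_lit 0x204001 :: nat_lit 0x18081 :: nat_lit 0x830600160041c00e :: nat_lit 0x204001 :: nat_lit 0x1404080 :: nat_lit 0x204001 :: nat_lit 0x408c :: nat_lit 0x187000b0021600081 :: nat_lit 0x204001 :: nat_lit 0x200081 :: nat_lit 0x18081 :: nat_lit 0x18b000b0021640001 :: nat_lit 0x31e00160041c081 :: nat_lit 0x204001 :: nat_lit 0x32600160041c081 :: nat_lit 0x218001 :: nat_lit 0x382000b0020e05c100058010f :: nat_lit 0x218b00 :: nat_lit 0x2404080 :: nat_lit 0x197000b002160008e :: nat_lit 0x1404b00 :: nat_lit 0x38a000b002160008e :: nat_lit 0x218b00 :: nat_lit 0x10066c002c008b8e :: nat_lit 0x33e00160041ca0e :: nat_lit 0x1a3000b0021600098 :: nat_lit 0x1404d00 :: nat_lit 0xd580058010b0069c002c008b8e :: nat_lit 0x140400e :: nat_lit 0xd780058010b0004c180058010f :: nat_lit 0x210080 :: nat_lit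 0x10c6cc002c008b80 :: nat_lit 0x70081 :: nat_lit 0x1086dc002c008b80 :: nat_lit 0x1478001 :: nat_lit 0x10c6ec002c008b80 :: nat_lit 0x210080 :: nat_lit 0x1237e00160041cd00 :: nat_lit 0x1004022 :: nat_lit 0x1026bc002c008b80 :: nat_lit 0x10070c002c008b8e :: nat_lit 0x70081 :: nat_lit 0xa77c00160041c080 :: nat_lit 0x140400e :: nat_lit 0x1419e00 :: nat_lit 0x1808e :: nat_lit 0x141800e :: nat_lit 0x10b0c :: nat_lit 0x100400e :: nat_lit 0x3a2000b0021600098 :: nat_lit 0x1418001 :: nat_lit 0x6800b18 :: nat_lit 0x4c90001 :: nat_lit 0x1140c :: nat_lit 0x73c00160041cb0e :: nat_lit 0x1418038 :: nat_lit 0x7400b18 :: nat_lit 0xa00ee8002c008b8e :: nat_lit 0x204022 :: nat_lit 0x20400e :: nat_lit 0x1808c :: nat_lit 0x18b0e :: nat_lit 0x4010b00 :: nat_lit 0x1078001 :: nat_lit 0x90b0e :: nat_lit 0x211e00 :: nat_lit 0x38001ae0005c021b8e :: nat_lit 0x141802a :: nat_lit 0x18b0c :: nat_lit 0x1400a18 :: nat_lit 0x1400b18 :: nat_lit 0x18b2c :: nat_lit 0x1970e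 :: nat_lit 0x2410080 :: nat_lit 0x101800e :: nat_lit 0x1418022 :: nat_lit 0x1001f0e :: nat_lit 0x1078022 :: nat_lit 0x100200e :: nat_lit 0x141800e :: nat_lit 0x1411e00 :: nat_lit 0x2410b00 :: nat_lit 0x4001f18 :: nat_lit 0x7140e :: nat_lit 0x4000b18 :: nat_lit 0x70b0c :: nat_lit 0x1418022 :: nat_lit 0x2410d00 :: nat_lit 0x1940c :: nat_lit 0x1078022 :: nat_lit 0x182110788c421f288ac0e00510094203042219000d80199 :: nat_lit 0x61800000064024e80 :: nat_lit 0xc5118843e513a800d8019480 :: nat_lit 0x18e72400280061c00e :: nat_lit 0x64800000064025980 :: nat_lit 0x32ce18005000c580 :: nat_lit 0x3869e00140030f9a0000005c021880 :: nat_lit 0xcf1e8d4e69d1c2cd1d80128025080 :: nat_lit 0x1a23f3da0c921b19800fc01c680 :: nat_lit 0x69800000064025880 :: nat_lit 0x354eb8005000c580 :: nat_lit 0xd73a600140032e035c00000980315 :: nat_lit 0x364e68005000cb80 :: nat_lit 0x36cf08005000cb80 :: nat_lit 0x1ba531088c6e734b800fc01d580 :: nat_lit 0xc7948005000c780df0000680199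 :: nat_lit 0xe1000002600c24300 :: []
theorem c0 : RowsGood P ls 0 113 := rg j0 (by decide +kernel)
theorem f0 : RowsGood P ls 0 113 :=
  c0
theorem good : RowsGood P (List.range (P.eps + 1)) 0 P.N :=
  (f0 : RowsGood P ls 0 113)
theorem idx {G : Type*} [Group G] {E : ℕ → G} {inv : ℕ → ℕ} (hi : ∀ l, E (inv l) = (E l)⁻¹)
    {B : List (List ℕ × ℕ)} (hB : ∀ p ∈ B, lprod E p.1 ^ p.2 = 1) (σ : List (List ℕ))
    {hs ks : List (List ℕ)} (hc : certOk P wt bases inv B σ hs ks = true) :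
    (gp E hs).relIndex (gp E ks) ≠ 0 ∧ (gp E hs).relIndex (gp E ks) ≤ 96 :=
  tc_gp hi hB rfl (fun _ h => rfl) good σ hc

end Cfsg.Agent.H15.HezT0
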