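import Cfsg.Agent.H15.TC3
set_option autoImplicit false
set_option maxRecDepth 100000

namespace Cfsg.Agent.H15.HezT1
open Cfsg.Agent.H15 Cfsg.Agent.H14

noncomputable def t0_0 (_i : ℕ) : ℕ := (nat_lit 0x109161c114a7e0f80f600c9151be0047e03990800891617e0f8011f80250088469fe0f8004f812700084713e0f81073c0040006358c16054142b8030086268822340024482e00c411bbe0007e0f83e000841607e02040134450010acf800cc370dcb6ed00487f800db32cc01e6a00c85f82a8016067ae4900485f82aa729ea0168c01084f800469e68aa62b00c84f828b012892216601063f80036a5e4031c700c63f810500e2b5996800863f812602c03029a500462f8009021c7009e400441f8007018050058300041f81c2189c20100101020f8000685a100c0200000f80010000000000)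
noncomputable def blk (i : ℕ) : ℕ := (t0_0 i)
noncomputable def row (x : ℕ) : ℕ := frcN (Nat.shiftRight x (nat_lit 5)) fun b =>
  Nat.land (Nat.shiftRight (blk b) (Nat.mul (Nat.land x (nat_lit 31)) (nat_lit 80))) (nat_lit 0xffffffffffffffffffff)
noncomputable def lk (x l : ℕ) : ℕ :=
  Nat.land (Nat.shiftRight (row x) (Nat.mul l (nat_lit 10))) (nat_lit 1023)
noncomputable def ap (x l : ℕ) : ℕ :=
  Nat.land (Nat.shiftRight (row x) (Nat.mul l (nat_lit 10))) (nat_lit 31)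
noncomputable def wt : Wt := (.node (nat_lit 15) (.node (nat_lit 7) (.node (nat_lit 3) (.node (nat_lit 1) (.leaf [nat_lit 0, nat_lit 2, nat_lit 0, nat_lit 2]) (.node (nat_lit 2) (.leaf [nat_lit 0, nat_lit 0]) (.leaf [nat_lit 4, nat_lit 0, nat_lit 4, nat_lit 0, nat_lit 3, nat_lit 4, nat_lit 0, nat_lit 2]))) (.node (nat_lit 5) (.node (nat_lit 4) (.leaf [nat_lit 3, nat_lit 0, nat_lit 4, nat_lit 0, nat_lit 4, nat_lit 2, nat_lit 0, nat_lit 4]) (.leaf [nat_lit 0, nat_lit 4, nat_lit 0, nat_lit 4, nat_lit 2, nat_lit 0, nat_lit 4, nat_lit 3])) (.node (nat_lit 6) (.leaf [nat_lit 3, nat_lit 3]) (.leaf [nat_lit 1, nat_lit 3, nat_lit 0, nat_lit 3, nat_lit 0, nat_lit 1, nat_lit 0])))) (.node (nat_lit 11) (.node (nat_lit 9) (.node (nat_lit 8) (.leaf [nat_lit 1, nat_lit 1]) (.leaf [nat_lit 3, nat_lit 0, nat_lit 3, nat_lit 1, nat_lit 0, nat_lit 1, nat_lit 0])) (.node (nat_lit 10) (.leaf [nat_lit 2, nat_lit 4,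 nat_lit 1, nat_lit 4, nat_lit 2, nat_lit 1, nat_lit 4, nat_lit 0, nat_lit 4, nat_lit 1]) (.leaf [nat_lit 1, nat_lit 3, nat_lit 1, nat_lit 3, nat_lit 1, nat_lit 3]))) (.node (nat_lit 13) (.node (nat_lit 12) (.leaf [nat_lit 0, nat_lit 3, nat_lit 0, nat_lit 1, nat_lit 0, nat_lit 1, nat_lit 3]) (.leaf [nat_lit 0, nat_lit 4, nat_lit 1, nat_lit 2, nat_lit 4, nat_lit 1, nat_lit 4, nat_lit 2, nat_lit 1, nat_lit 4])) (.node (nat_lit 14) (.leaf [nat_lit 4, nat_lit 0, nat_lit 2, nat_lit 4, nat_lit 0, nat_lit 4, nat_lit 0, nat_lit 3]) (.leaf [nat_lit 4, nat_lit 4]))))) (.node (nat_lit 23) (.node (nat_lit 19) (.node (nat_lit 17) (.node (nat_lit 16) (.leaf [nat_lit 3, nat_lit 4, nat_lit 0, nat_lit 2, nat_lit 4, nat_lit 0, nat_lit 4, nat_lit 0]) (.leaf [nat_lit 4, nat_lit 2, nat_lit 1, nat_lit 4, nat_lit 0, nat_lit 4, nat_lit 1, nat_lit 2, nat_lit 4, nat_lit 1])) (.node (nat_lit 18) (.leaf [nat_lit 2, nat_lit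 2]) (.leaf [nat_lit 3, nat_lit 1, nat_lit 2, nat_lit 1, nat_lit 2, nat_lit 3, nat_lit 1, nat_lit 2, nat_lit 1]))) (.node (nat_lit 21) (.node (nat_lit 20) (.leaf [nat_lit 2, nat_lit 1, nat_lit 2, nat_lit 1, nat_lit 3, nat_lit 1, nat_lit 2, nat_lit 1, nat_lit 3]) (.leaf [nat_lit 2, nat_lit 1, nat_lit 3, nat_lit 1, nat_lit 2, nat_lit 1, nat_lit 2, nat_lit 3, nat_lit 1])) (.node (nat_lit 22) (.leaf [nat_lit 0, nat_lit 2, nat_lit 4, nat_lit 0, nat_lit 4, nat_lit 0, nat_lit 3, nat_lit 4]) (.leaf [nat_lit 2, nat_lit 0, nat_lit 2, nat_lit 0])))) (.node (nat_lit 27) (.node (nat_lit 25) (.node (nat_lit 24) (.leaf [nat_lit 1, nat_lit 2, nat_lit 3, nat_lit 1, nat_lit 2, nat_lit 1, nat_lit 3, nat_lit 1, nat_lit 2]) (.leaf [nat_lit 4, nat_lit 0, nat_lit 4, nat_lit 1, nat_lit 2, nat_lit 4, nat_lit 1, nat_lit 4, nat_lit 2, nat_lit 1])) (.node (nat_lit 26) (.leaf [nat_lit 3, nat_lit 1, nat_lit 3, nat_lit 1, nat_lit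 3, nat_lit 1]) (.leaf [nat_lit 0, nat_lit 1, nat_lit 3, nat_lit 0, nat_lit 3, nat_lit 0, nat_lit 1]))) (.node (nat_lit 29) (.node (nat_lit 28) (.leaf [nat_lit 2, nat_lit 1, nat_lit 2, nat_lit 3, nat_lit 1, nat_lit 2, nat_lit 1, nat_lit 3, nat_lit 1]) (.leaf [nat_lit 0, nat_lit 4, nat_lit 0, nat_lit 3, nat_lit 4, nat_lit 0, nat_lit 2, nat_lit 4])) (.node (nat_lit 30) (.leaf [nat_lit 2, nat_lit 4, nat_lit 0, nat_lit 4, nat_lit 0, nat_lit 3, nat_lit 4, nat_lit 0]) (.leaf [nat_lit 1, nat_lit 2, nat_lit 4, nat_lit 1, nat_lit 4, nat_lit 2, nat_lit 1, nat_lit 4, nat_lit 0, nat_lit 4]))))))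
noncomputable def P : TCP where
  lk := lk
  inv := (fun l => l)
  wt := wt.get
  gens := [nat_lit 0, nat_lit 1, nat_lit 2, nat_lit 3, nat_lit 4]
  N := nat_lit 23
  n := nat_lit 14
  eps := nat_lit 5
  VM := nat_lit 31
  Wv := nat_lit 5
  MAXB := nat_lit 992
  JM := nat_lit 127
  Wj := nat_lit 7
  Hm := nat_lit 15
def ls : List Nat := [nat_lit 0, nat_lit 1, nat_lit 2, nat_lit 3, nat_lit 4, nat_lit 5]
def cl1 : Cl := (.gen (nat_lit 0) (.gen (nat_lit 1) (.gen (nat_lit 2) (.gen (nat_lit 3) (.gen (nat_lit 4) (.opt (nat_lit 5) .nil))))))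
def cl2 : Cl := (.opt (nat_lit 0) (.opt (nat_lit 1) (.opt (nat_lit 2) (.opt (nat_lit 3) (.opt (nat_lit 4) (.opt (nat_lit 5) .nil))))))
noncomputable def chk : ℕ → List ℕ → ℕ → Bool :=
  rows2 (nat_lit 14) (parOk P) (cols2 lk (nat_lit 992) (nat_lit 14) (nat_lit 23) (ent1 (nat_lit 31) (nat_lit 127) (nat_lit 7) (decJ wt.get)
    (ent2 lk (nat_lit 31) (special P) (slowE lk (fun l => l) (nat_lit 23) (nat_lit 5) (nat_lit 31) (nat_lit 7))))) cl1 cl2
theorem rg {x y : ℕ} (Js : List ℕ) (h : chk y Js x = true) : RowsGood P ls x y :=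
  rowsGood_of2 (c1 := cl1) (c2 := cl2) (by decide +kernel) h
def bases : List (List Nat × Nat) := [([0, 0], 1), ([1, 1], 1), ([2, 2], 1), ([3, 3], 1), ([4, 4], 1), ([0, 2], 2), ([1, 3], 3), ([0, 1, 0, 1, 3, 0, 3], 1), ([1, 2, 1, 2, 3, 1, 2, 1, 3], 1), ([0, 2, 4, 0, 4, 0, 3, 4], 1), ([0, 4, 1, 2, 4, 1, 4, 2, 1, 4], 1)]
noncomputable def j0 : List ℕ := nat_lit 0x10408102 :: nat_lit 0x3f7600200063c7600120049c081 :: nat_lit 0x2180048012107400002600e2c8600120049c080 :: nat_lit 0x20408023800480107 :: nat_lit 0x4093c002400938025800480107 :: nat_lit 0x400400129800480107 :: nat_lit 0xa4002600e7c0262b8004801136b000480107 :: nat_lit 0x3680024008792c002400938127800480107 :: nat_lit 0x68013182b800480107 :: nat_lit 0x5b00090021ec192e :: nat_lit 0x2450a8006 :: nat_lit 0x2000b0c06 :: nat_lit 0x16ce8038 :: nat_lit 0x44fa03c :: nat_lit 0x238e001000326be00090021e00906 :: nat_lit 0x3e00000054020680 :: nat_lit 0x3b0c00200061e100000098038908c0000880315004a10000580185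 :: nat_lit 0x15cd00080018f02040c60000044018880 :: nat_lit 0x218a0010003272a10a0c081020c3800fc024bca0000044018880 :: nat_lit 0x9cdab6002e0081c04e25000800185 :: nat_lit 0x238e00100034e008c000580185 :: nat_lit 0x5600000006402928005f0000880319009400088031b :: nat_lit 0x11c70008001a1016ad461c4a24005800e8c1d000000b8049d :: []
theorem c0 : RowsGood P ls 0 23 := rg j0 (by decide +kernel)
theorem f0 : RowsGood P ls 0 23 :=
  c0
theorem good : RowsGood P (List.range (P.eps + 1)) 0 P.N :=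
  (f0 : RowsGood P ls 0 23)
theorem idx {G : Type*} [Group G] {E : ℕ → G} {inv : ℕ → ℕ} (hi : ∀ l, E (inv l) = (E l)⁻¹)
    {B : List (List ℕ × ℕ)} (hB : ∀ p ∈ B, lprod E p.1 ^ p.2 = 1) (σ : List (List ℕ))
    {hs ks : List (List ℕ)} (hc : certOk P wt bases inv B σ hs ks = true) :
    (gp E hs).relIndex (gp E ks) ≠ 0 ∧ (gp E hs).relIndex (gp E ks) ≤ 14 :=
  tc_gp hi hB rfl (fun _ h => rfl) good σ hc

end Cfsg.Agent.H15.HezT1
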