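import Cfsg.Agent.H15.TC3
set_option autoImplicit false
set_option maxRecDepth 100000

namespace Cfsg.Agent.H15.HezT2
open Cfsg.Agent.H15 Cfsg.Agent.H14

noncomputable def t0_0 (_i : ℕ) : ℕ := (nat_lit 0x14a56a405f83e032be03c00519187013e0f83e0f8111014adf800da3eaf9beaf93c052afe002e2da390e9ba6e00488f800f93a4d9340862c0321be071a09019073b16a00486f800e82ccb3ac066b404297e0220053a1c98a94c00ca5f81c57b005728a939c04193e02a804428a50344800c64f81a4418044b0c742402193e07b1270300402ce600483f81c9028093200331401107e069c0801c06004c401462f800218c8318c0508404107e000c01208820884201420f8000008a10840410c00003e0004000000000000)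
noncomputable def blk (i : ℕ) : ℕ := (t0_0 i)
noncomputable def row (x : ℕ) : ℕ := frcN (Nat.shiftRight x (nat_lit 5)) fun b =>
  Nat.land (Nat.shiftRight (blk b) (Nat.mul (Nat.land x (nat_lit 31)) (nat_lit 90))) (nat_lit 0x3ffffffffffffffffffffff)
noncomputable def lk (x l : ℕ) : ℕ :=
  Nat.land (Nat.shiftRight (row x) (Nat.mul l (nat_lit 10))) (nat_lit 1023)
noncomputable def ap (x l : ℕ) : ℕ :=
  Nat.land (Nat.shiftRight (row x) (Nat.mul l (nat_lit 10))) (nat_lit 31)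
noncomputable def wt : Wt := (.node (nat_lit 16) (.node (nat_lit 8) (.node (nat_lit 4) (.node (nat_lit 2) (.node (nat_lit 1) (.leaf [nat_lit 2, nat_lit 5, nat_lit 2, nat_lit 5]) (.leaf [nat_lit 1, nat_lit 4, nat_lit 5, nat_lit 4, nat_lit 1, nat_lit 4, nat_lit 5, nat_lit 4])) (.node (nat_lit 3) (.leaf [nat_lit 0, nat_lit 5, nat_lit 0, nat_lit 4, nat_lit 5, nat_lit 4, nat_lit 5]) (.leaf [nat_lit 0, nat_lit 0]))) (.node (nat_lit 6) (.node (nat_lit 5) (.leaf [nat_lit 0, nat_lit 5, nat_lit 0, nat_lit 5, nat_lit 4, nat_lit 5, nat_lit 4]) (.leaf [nat_lit 4, nat_lit 5, nat_lit 4, nat_lit 0, nat_lit 5, nat_lit 0, nat_lit 5])) (.node (nat_lit 7) (.leaf [nat_lit 3, nat_lit 4, nat_lit 0, nat_lit 2, nat_lit 4, nat_lit 0, nat_lit 4, nat_lit 0]) (.leaf [nat_lit 2, nat_lit 0, nat_lit 2, nat_lit 0])))) (.node (nat_lit 12) (.node (nat_lit 10) (.node (nat_lit 9) (.leaf [nat_lit 0, nat_lit 1, nat_lit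 3, nat_lit 0, nat_lit 3, nat_lit 0, nat_lit 1]) (.leaf [nat_lit 0, nat_lit 2, nat_lit 0, nat_lit 2])) (.node (nat_lit 11) (.leaf [nat_lit 1, nat_lit 3, nat_lit 1, nat_lit 3, nat_lit 1, nat_lit 3]) (.leaf [nat_lit 2, nat_lit 1, nat_lit 4, nat_lit 0, nat_lit 4, nat_lit 1, nat_lit 2, nat_lit 4, nat_lit 1, nat_lit 4]))) (.node (nat_lit 14) (.node (nat_lit 13) (.leaf [nat_lit 2, nat_lit 2]) (.leaf [nat_lit 0, nat_lit 4, nat_lit 1, nat_lit 2, nat_lit 4, nat_lit 1, nat_lit 4, nat_lit 2, nat_lit 1, nat_lit 4])) (.node (nat_lit 15) (.leaf [nat_lit 4, nat_lit 0, nat_lit 2, nat_lit 4, nat_lit 0, nat_lit 4, nat_lit 0, nat_lit 3]) (.leaf [nat_lit 4, nat_lit 4]))))) (.node (nat_lit 24) (.node (nat_lit 20) (.node (nat_lit 18) (.node (nat_lit 17) (.leaf [nat_lit 0, nat_lit 3, nat_lit 0, nat_lit 1, nat_lit 0, nat_lit 1, nat_lit 3]) (.leaf [nat_lit 3, nat_lit 0, nat_lit 4, nat_lit 0, nat_lit 4,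 nat_lit 2, nat_lit 0, nat_lit 4])) (.node (nat_lit 19) (.leaf [nat_lit 3, nat_lit 3]) (.leaf [nat_lit 5, nat_lit 4, nat_lit 1, nat_lit 4, nat_lit 5, nat_lit 4, nat_lit 1, nat_lit 4]))) (.node (nat_lit 22) (.node (nat_lit 21) (.leaf [nat_lit 5, nat_lit 5]) (.leaf [nat_lit 3, nat_lit 1, nat_lit 2, nat_lit 1, nat_lit 2, nat_lit 3, nat_lit 1, nat_lit 2, nat_lit 1])) (.node (nat_lit 23) (.leaf [nat_lit 2, nat_lit 1, nat_lit 2, nat_lit 1, nat_lit 3, nat_lit 1, nat_lit 2, nat_lit 1, nat_lit 3]) (.leaf [nat_lit 2, nat_lit 1, nat_lit 3, nat_lit 1, nat_lit 2, nat_lit 1, nat_lit 2, nat_lit 3, nat_lit 1])))) (.node (nat_lit 28) (.node (nat_lit 26) (.node (nat_lit 25) (.leaf [nat_lit 0, nat_lit 2, nat_lit 4, nat_lit 0, nat_lit 4, nat_lit 0, nat_lit 3, nat_lit 4]) (.leaf [nat_lit 5, nat_lit 2, nat_lit 5, nat_lit 2])) (.node (nat_lit 27) (.leaf [nat_lit 4, nat_lit 5, nat_lit 4, nat_lit 5, nat_lit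 0, nat_lit 5, nat_lit 0]) (.leaf [nat_lit 4, nat_lit 2, nat_lit 1, nat_lit 4, nat_lit 0, nat_lit 4, nat_lit 1, nat_lit 2, nat_lit 4, nat_lit 1]))) (.node (nat_lit 30) (.node (nat_lit 29) (.leaf [nat_lit 3, nat_lit 1, nat_lit 3, nat_lit 1, nat_lit 3, nat_lit 1]) (.leaf [nat_lit 2, nat_lit 1, nat_lit 2, nat_lit 3, nat_lit 1, nat_lit 2, nat_lit 1, nat_lit 3, nat_lit 1])) (.node (nat_lit 31) (.leaf [nat_lit 4, nat_lit 1, nat_lit 4, nat_lit 5, nat_lit 4, nat_lit 1, nat_lit 4, nat_lit 5]) (.node (nat_lit 32) (.leaf [nat_lit 1, nat_lit 2, nat_lit 4, nat_lit 1, nat_lit 4, nat_lit 2, nat_lit 1, nat_lit 4, nat_lit 0, nat_lit 4]) (.leaf [nat_lit 4, nat_lit 5, nat_lit 0, nat_lit 5, nat_lit 0, nat_lit 4, nat_lit 5])))))))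
noncomputable def P : TCP where
  lk := lk
  inv := (fun l => l)
  wt := wt.get
  gens := [nat_lit 0, nat_lit 1, nat_lit 2, nat_lit 3, nat_lit 4, nat_lit 5]
  N := nat_lit 18
  n := nat_lit 16
  eps := nat_lit 6
  VM := nat_lit 31
  Wv := nat_lit 5
  MAXB := nat_lit 992
  JM := nat_lit 127
  Wj := nat_lit 7
  Hm := nat_lit 31
def ls : List Nat := [nat_lit 0, nat_lit 1, nat_lit 2, nat_lit 3, nat_lit 4, nat_lit 5, nat_lit 6]
def cl1 : Cl := (.gen (nat_lit 0) (.gen (nat_lit 1) (.gen (nat_lit 2) (.gen (nat_lit 3) (.gen (nat_lit 4) (.gen (nat_lit 5) (.opt (nat_lit 6) .nil)))))))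
def cl2 : Cl := (.opt (nat_lit 0) (.opt (nat_lit 1) (.opt (nat_lit 2) (.opt (nat_lit 3) (.opt (nat_lit 4) (.opt (nat_lit 5) (.opt (nat_lit 6) .nil)))))))
noncomputable def chk : ℕ → List ℕ → ℕ → Bool :=
  rows2 (nat_lit 16) (parOk P) (cols2 lk (nat_lit 992) (nat_lit 16) (nat_lit 18) (ent1 (nat_lit 31) (nat_lit 127) (nat_lit 7) (decJ wt.get)
    (ent2 lk (nat_lit 31) (special P) (slowE lk (fun l => l) (nat_lit 18) (nat_lit 6) (nat_lit 31) (nat_lit 7))))) cl1 cl2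
theorem rg {x y : ℕ} (Js : List ℕ) (h : chk y Js x = true) : RowsGood P ls x y :=
  rowsGood_of2 (c1 := cl1) (c2 := cl2) (by decide +kernel) h
def bases : List (List Nat × Nat) := [([0, 0], 1), ([1, 1], 1), ([2, 2], 1), ([3, 3], 1), ([4, 4], 1), ([5, 5], 1), ([0, 2], 2), ([1, 3], 3), ([0, 1, 0, 1, 3, 0, 3], 1), ([1, 2, 1, 2, 3, 1, 2, 1, 3], 1), ([0, 2, 4, 0, 4, 0, 3, 4], 1), ([0, 4, 1, 2, 4, 1, 4, 2, 1, 4], 1), ([2, 5], 2), ([0, 4, 5, 4, 5, 0, 5], 1), ([1, 4, 5, 4], 2)]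
noncomputable def j0 : List ℕ := nat_lit 0x820408102 :: nat_lit 0x1201008a :: nat_lit 0x80201030c :: nat_lit 0xe2048088 :: nat_lit 0x10c00240096810204014 :: nat_lit 0x11c00240096810270014 :: nat_lit 0x16220200096 :: nat_lit 0x30800240096a00070c0a :: nat_lit 0x1600506809e :: nat_lit 0x6300048012d70018c001200474c24 :: nat_lit 0x2a00988e001200474334 :: nat_lit 0xba5cc000a :: nat_lit 0x1b2200c8c0a :: nat_lit 0xa278f8014 :: nat_lit 0x402012108 :: nat_lit 0x442010308 :: nat_lit 0x8c0001a0084c00a :: nat_lit 0x219e00100031602300005801858c00000880309 :: []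
theorem c0 : RowsGood P ls 0 18 := rg j0 (by decide +kernel)
theorem f0 : RowsGood P ls 0 18 :=
  c0
theorem good : RowsGood P (List.range (P.eps + 1)) 0 P.N :=
  (f0 : RowsGood P ls 0 18)
theorem idx {G : Type*} [Group G] {E : ℕ → G} {inv : ℕ → ℕ} (hi : ∀ l, E (inv l) = (E l)⁻¹)
    {B : List (List ℕ × ℕ)} (hB : ∀ p ∈ B, lprod E p.1 ^ p.2 = 1) (σ : List (List ℕ))
    {hs ks : List (List ℕ)} (hc : certOk P wt bases inv B σ hs ks = true) :
    (gp E hs).relIndex (gp E ks) ≠ 0 ∧ (gp E hs).relIndex (gp E ks) ≤ 16 :=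
  tc_gp hi hB rfl (fun _ h => rfl) good σ hc

end Cfsg.Agent.H15.HezT2
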