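import Cfsg.Agent.H15.Iso
import Cfsg.Agent.H15.He
import Cfsg.Agent.H15.HezT0
import Cfsg.Agent.H15.HezT1
import Cfsg.Agent.H15.HezT2
set_option autoImplicit false
set_option maxRecDepth 100000

namespace Cfsg.Agent.H15.HeZ
open Cfsg.Agent.H15 Cfsg.Agent.H14

def pT : ℕ := 5436612672
def pB : List (List ℕ × ℕ) := [([0, 0], 1), ([1, 1], 1), ([2, 2], 1), ([3, 3], 1), ([4, 4], 1), ([5, 5], 1), ([0, 2], 2), ([1, 3], 3), ([0, 1, 0, 1, 3, 0, 3], 1), ([1, 2, 1, 2, 3, 1, 2, 1, 3], 1), ([0, 2, 4, 0, 4, 0, 3, 4], 1), ([0, 4, 1, 2, 4, 1, 4, 2, 1, 4], 1), ([2, 5], 2), ([0, 4, 5, 4, 5, 0, 5], 1), ([1, 4, 5, 4], 2)]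
theorem bound {H : Type*} [Group H] {E : ℕ → H} (h : Sat E (invT pT 6) pB) : CardLe (cl E 6) 21504 := by
  have c0 : CardLe (gp E [[0], [1], [2], [3]]) (96 * 1) :=
    cardLe_nil.step (HezT0.idx h.hi h.hB [[0], [1], [2], [3]] (by decide +kernel)) (by decide +kernel)
  have c1 : CardLe (gp E [[0], [1], [2], [3], [4]]) (14 * 96) :=
    c0.step (HezT1.idx h.hi h.hB [[0], [1], [2], [3], [4]] (by decide +kernel)) (by decide +kernel)
  have c2 : CardLe (gp E [[0], [1], [2], [3], [4], [5]]) (16 * 1344) :=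
    c1.step (HezT2.idx h.hi h.hB [[0], [1], [2], [3], [4], [5]] (by decide +kernel)) (by decide +kernel)
  rw [cl_eq_gp (ws := [[0], [1], [2], [3], [4], [5]]) (by decide +kernel)]; exact c2
def σ : List (List ℕ) := [[2, 5, 3, 2, 1, 4, 3, 2, 5, 6, 3, 4, 5, 3, 6, 2, 3, 4, 1, 2, 3, 5, 2], [0, 1, 4, 3, 2, 3, 4, 6, 3, 2, 1, 0, 3, 6], [0, 5, 3, 2, 1, 3, 5, 6, 3, 2, 1, 3, 6, 5, 3, 2, 3, 5, 3, 0], [0, 1, 5, 3, 2, 1, 3, 5, 6, 3, 2, 1, 3, 6, 5, 3, 2, 3, 5, 3, 1, 0], [1, 0, 4, 3, 2, 1, 3, 4, 5, 3, 2, 1, 3, 4, 5, 3, 2, 3, 4, 0], [2, 3, 6, 3, 2, 3, 4, 3, 2, 3, 6, 3, 2]]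
def σ1 : List (List ℕ) := [[0], [1], [2], [3], [4], [5]]
def uC : List (List ℕ) := [[1, 128, 16384, 2097152, 268451840], [1, 128, 16384, 270532608, 268435456], [1, 128, 16384, 2113537, 268451841], [1, 128, 16384, 268451841, 2113537], [1, 128, 270548993, 268435456, 2097152], [1, 270549121, 16384, 2097152, 268435456], [1, 129, 16384, 2097152, 268435456], [1, 128, 16512, 2097152, 268435456], [1, 128, 16384, 2113536, 268435456], [1, 128, 16384, 2097152, 270532608], [129, 128, 16384, 2097152, 268435456], [1, 16512, 16384, 2097152, 268435456], [1, 128, 2113536, 2097152, 268435456], [1, 128, 16384, 270532608, 268435456]]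
def uI : List (List ℕ) := [[1, 2, 4, 8, 20], [1, 2, 4, 24, 16], [1, 2, 4, 13, 21], [1, 2, 4, 21, 13], [1, 2, 29, 16, 8], [1, 31, 4, 8, 16], [1, 3, 4, 8, 16], [1, 2, 6, 8, 16], [1, 2, 4, 12, 16], [1, 2, 4, 8, 24], [3, 2, 4, 8, 16], [1, 6, 4, 8, 16], [1, 2, 12, 8, 16], [1, 2, 4, 24, 16]]
def lowGS3 : List (List ℕ) := [[4, 1, 5, 2, 1, 0, 4]]
def lowGT3 : List (List ℕ) := lowGS3 ++ []
def lowGS2 : List (List ℕ) := [[0], [1, 2, 1], [5, 2, 1, 0, 1]]
def lowGT2 : List (List ℕ) := lowGS2 ++ lowGT3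
def lowGS1 : List (List ℕ) := [[1, 3, 1], [1, 5, 1], [1, 0, 4, 0, 1]]
def lowGT1 : List (List ℕ) := lowGS1 ++ lowGT2
def lowGS0 : List (List ℕ) := [[0], [1], [2], [3], [4], [5]]
def lowGT0 : List (List ℕ) := lowGS0 ++ lowGT1
def lowTS3 : List (List ℕ) := [[0], [1, 2, 1], [1, 3, 1]]
def lowTT3 : List (List ℕ) := lowTS3 ++ []
def lowTS2 : List (List ℕ) := [[2], [3], [1, 0]]
def lowTT2 : List (List ℕ) := lowTS2 ++ lowTT3
def lowTS1 : List (List ℕ) := [[4, 0], [4, 1]]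
def lowTT1 : List (List ℕ) := lowTS1 ++ lowTT2
def lowTS0 : List (List ℕ) := [[0], [1], [2], [3], [4], [5]]
def lowTT0 : List (List ℕ) := lowTS0 ++ lowTT1
def gS4 : List (List ℕ) := [[0]]
def gT4 : List (List ℕ) := gS4 ++ []
def gS3 : List (List ℕ) := [[3], [4, 3, 5, 3, 4, 1, 0, 1], [6, 3, 5, 2, 3, 6, 4, 3, 1, 2, 3, 6, 4, 1, 3, 2, 1, 4, 5, 3, 6]]
def gT3 : List (List ℕ) := gS3 ++ gT4
def gS2 : List (List ℕ) := [[5], [4, 3], [2, 3, 6, 1, 2, 3, 2, 3, 6, 3, 2, 3, 2, 1, 6, 3, 2]]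
def gT2 : List (List ℕ) := gS2 ++ gT3
def gS1 : List (List ℕ) := [[3, 2], [6, 1, 2, 3, 2, 1, 6]]
def gT1 : List (List ℕ) := gS1 ++ gT2
def gS0 : List (List ℕ) := [[0], [1], [2], [3], [4], [5], [6]]
def gT0 : List (List ℕ) := gS0 ++ gT1
def vS4 : List (List ℕ) := [[0], [9], [1, 2, 1], [7, 0, 7]]
def vT4 : List (List ℕ) := vS4 ++ []
def vS3 : List (List ℕ) := [[1], [2], [3], [8], [7, 2, 7]]
def vT3 : List (List ℕ) := vS3 ++ vT4
def vS2 : List (List ℕ) := [[7], [12], [4, 0]]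
def vT2 : List (List ℕ) := vS2 ++ vT3
def vS1 : List (List ℕ) := [[11, 10, 4, 5], [10, 6, 0, 6], [10, 6, 1, 6]]
def vT1 : List (List ℕ) := vS1 ++ vT2
def vS0 : List (List ℕ) := [[0], [1], [2], [3], [4], [5], [6], [7], [8], [9], [10], [11], [12], [13]]
def vT0 : List (List ℕ) := vS0 ++ vT1
noncomputable def cS : Crd (ZMod 2) (Fin 5) := crd1 2 (Equiv.refl _) (by norm_num)
theorem uk : all2 uC cS.okM uI = true := by decide +kernel
noncomputable abbrev uA := cS.tab uC uI uk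
theorem apU : uA.ap = apL 2 5 uC := cS.tab_ap uk rfl rfl
noncomputable abbrev tA := uA.comp σ1 (by decide +kernel)
noncomputable abbrev gA := He.A0.comp σ (by decide +kernel)
theorem apT : tA.ap = fun x l => tr (apL 2 5 uC) (nthW σ1 l) x := congrArg (fun ap x l => tr ap (nthW σ1 l) x) apU
theorem satG : Sat (fun l => lprod He.A0.e (nthW σ l)) (invT pT σ.length) pB := He.base0.sat1 (by decide +kernel)
theorem satT : Sat (fun l => lprod uA.e (nthW σ1 l)) (invT pT σ1.length) pB :=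
  (cS.base uk).sat1 (cast_ap apU (fun ap => satChk ap 14 (basC 2 5) σ1 [[]] pT pB) (by decide +kernel))
theorem cardGL : Nat.card (GL (Fin 5) (ZMod 2)) = 9999360 := by
  rw [Matrix.card_GL_field, ZMod.card]; decide +kernel
theorem lowG3 : gA.Lower (gp gA.e lowGT3) [33] 2 :=
  TabAct.Lower.step (k := 2) (TabAct.lower_nil _ _)
    (show stepOk (fun x l => tr HeA.ap (nthW σ l) x) 6 2058 id lowGS3 [] 33 2 = true by decide +kernel)
theorem lowG2 : gA.Lower (gp gA.e lowGT2) [2, 33] 64 :=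
  TabAct.Lower.step (k := 32) lowG3
    (show stepOk (fun x l => tr HeA.ap (nthW σ l) x) 6 2058 id lowGS2 lowGT3 2 32 = true by decide +kernel)
theorem lowG1 : gA.Lower (gp gA.e lowGT1) [1, 2, 33] 512 :=
  TabAct.Lower.step (k := 8) lowG2
    (show stepOk (fun x l => tr HeA.ap (nthW σ l) x) 6 2058 id lowGS1 lowGT2 1 8 = true by decide +kernel)
theorem lowG0 : gA.Lower (gp gA.e lowGT0) [0, 1, 2, 33] 21504 :=
  TabAct.Lower.step (k := 42) lowG1
    (show stepOk (fun x l => tr HeA.ap (nthW σ l) x) 6 2058 id lowGS0 lowGT1 0 42 = true by decide +kernel)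
theorem lowT3 : tA.Lower (gp tA.e lowTT3) [16] 8 :=
  TabAct.Lower.step (k := 8) (TabAct.lower_nil _ _)
    (cast_ap apT (fun ap => stepOk ap 6 tA.n id lowTS3 [] 16 8) (by decide +kernel))
theorem lowT2 : tA.Lower (gp tA.e lowTT2) [8, 16] 96 :=
  TabAct.Lower.step (k := 12) lowT3
    (cast_ap apT (fun ap => stepOk ap 6 tA.n id lowTS2 lowTT3 8 12) (by decide +kernel))
theorem lowT1 : tA.Lower (gp tA.e lowTT1) [4, 8, 16] 1344 :=
  TabAct.Lower.step (k := 14) lowT2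
    (cast_ap apT (fun ap => stepOk ap 6 tA.n id lowTS1 lowTT2 4 14) (by decide +kernel))
theorem lowT0 : tA.Lower (gp tA.e lowTT0) [2, 4, 8, 16] 21504 :=
  TabAct.Lower.step (k := 16) lowT1
    (cast_ap apT (fun ap => stepOk ap 6 tA.n id lowTS0 lowTT1 2 16) (by decide +kernel))
theorem gs4 : stepOk He.A0.ap He.A0.L He.A0.n id gS4 [] 33 2 = true :=
  (show stepOk HeA.ap 7 2058 id gS4 [] 33 2 = true by decide +kernel)
theorem gL4 : He.A0.Lower (gp He.A0.e gT4) [33] 2 := TabAct.Lower.step (k := 2) (TabAct.lower_nil _ _) gs4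
theorem gs3 : stepOk He.A0.ap He.A0.L He.A0.n id gS3 gT4 2 8 = true :=
  (show stepOk HeA.ap 7 2058 id gS3 gT4 2 8 = true by decide +kernel)
theorem gL3 : He.A0.Lower (gp He.A0.e gT3) [2, 33] 16 := TabAct.Lower.step (k := 8) gL4 gs3
theorem gs2 : stepOk He.A0.ap He.A0.L He.A0.n id gS2 gT3 1 90 = true :=
  (show stepOk HeA.ap 7 2058 id gS2 gT3 1 90 = true by decide +kernel)
theorem gL2 : He.A0.Lower (gp He.A0.e gT2) [1, 2, 33] 1440 := TabAct.Lower.step (k := 90) gL3 gs2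
theorem gs1 : stepOk He.A0.ap He.A0.L He.A0.n id gS1 gT2 698 1360 = true :=
  (show stepOk HeA.ap 7 2058 id gS1 gT2 698 1360 = true by decide +kernel)
theorem gL1 : He.A0.Lower (gp He.A0.e gT1) [698, 1, 2, 33] 1958400 := TabAct.Lower.step (k := 1360) gL2 gs1
theorem gs0 : stepOk He.A0.ap He.A0.L He.A0.n id gS0 gT1 0 2058 = true :=
  (show stepOk HeA.ap 7 2058 id gS0 gT1 0 2058 = true by decide +kernel)
theorem gL0 : He.A0.Lower (gp He.A0.e gT0) [0, 698, 1, 2, 33] 4030387200 := TabAct.Lower.step (k := 2058) gL1 gs0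
theorem gx0 : gp He.A0.e gT0 ⊓ MulAction.stabilizer _ (He.A0.c 0) = gp He.A0.e gT1 ∧ Nat.card (gp He.A0.e gT1) ≤ 1958400 :=
  TabAct.ex_step ((Subgroup.card_le_card_group _).trans He.card.le) gs0 (by norm_num) gL1.le_card
theorem gx1 : gp He.A0.e gT1 ⊓ MulAction.stabilizer _ (He.A0.c 698) = gp He.A0.e gT2 ∧ Nat.card (gp He.A0.e gT2) ≤ 1440 :=
  TabAct.ex_step gx0.2 gs1 (by norm_num) gL2.le_card
theorem gx2 : gp He.A0.e gT2 ⊓ MulAction.stabilizer _ (He.A0.c 1) = gp He.A0.e gT3 ∧ Nat.card (gp He.A0.e gT3) ≤ 16 :=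
  TabAct.ex_step gx1.2 gs2 (by norm_num) gL3.le_card
theorem gc2 : He.A0.CB [3] gT2 32 :=
  TabAct.CB.step gx2.1 (TabAct.CB.of_le gx2.2) 91 2
    (show (okW 7 [3] && okS 7 gT2 && Nat.blt 1 2058 && orbRun id (gT2.map (tr HeA.ap)) 91 1 fun U _ =>
      Nat.ble (cntLt 2058 fun y => tb U y && beqB (Nat.beq (tr HeA.ap [3] y) y) (Nat.beq (tr HeA.ap [3] 1) 1)) 2) = true by decide +kernel)
theorem gc1 : He.A0.CB [3] gT1 512 :=
  TabAct.CB.step gx1.1 gc2 1361 16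
    (show (okW 7 [3] && okS 7 gT1 && Nat.blt 698 2058 && orbRun id (gT1.map (tr HeA.ap)) 1361 698 fun U _ =>
      Nat.ble (cntLt 2058 fun y => tb U y && beqB (Nat.beq (tr HeA.ap [3] y) y) (Nat.beq (tr HeA.ap [3] 698) 698)) 16) = true by decide +kernel)
theorem gc0 : He.A0.CB [3] gT0 21504 :=
  TabAct.CB.step gx0.1 gc1 2059 42
    (show (okW 7 [3] && okS 7 gT0 && Nat.blt 0 2058 && orbRun id (gT0.map (tr HeA.ap)) 2059 0 fun U _ =>
      Nat.ble (cntLt 2058 fun y => tb U y && beqB (Nat.beq (tr HeA.ap [3] y) y) (Nat.beq (tr HeA.ap [3] 0) 0)) 42) = true by decide +kernel)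
theorem vs4 : stepOk uA.ap uA.L uA.n id vS4 [] 16 16 = true :=
  (cast_ap apU (fun ap => stepOk ap 14 uA.n id vS4 [] 16 16) (by decide +kernel))
theorem vL4 : uA.Lower (gp uA.e vT4) [16] 16 := TabAct.Lower.step (k := 16) (TabAct.lower_nil _ _) vs4
theorem vs3 : stepOk uA.ap uA.L uA.n id vS3 vT4 8 24 = true :=
  (cast_ap apU (fun ap => stepOk ap 14 uA.n id vS3 vT4 8 24) (by decide +kernel))
theorem vL3 : uA.Lower (gp uA.e vT3) [8, 16] 384 := TabAct.Lower.step (k := 24) vL4 vs3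
theorem vs2 : stepOk uA.ap uA.L uA.n id vS2 vT3 4 28 = true :=
  (cast_ap apU (fun ap => stepOk ap 14 uA.n id vS2 vT3 4 28) (by decide +kernel))
theorem vL2 : uA.Lower (gp uA.e vT2) [4, 8, 16] 10752 := TabAct.Lower.step (k := 28) vL3 vs2
theorem vs1 : stepOk uA.ap uA.L uA.n id vS1 vT2 3 30 = true :=
  (cast_ap apU (fun ap => stepOk ap 14 uA.n id vS1 vT2 3 30) (by decide +kernel))
theorem vL1 : uA.Lower (gp uA.e vT1) [3, 4, 8, 16] 322560 := TabAct.Lower.step (k := 30) vL2 vs1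
theorem vs0 : stepOk uA.ap uA.L uA.n id vS0 vT1 2 31 = true :=
  (cast_ap apU (fun ap => stepOk ap 14 uA.n id vS0 vT1 2 31) (by decide +kernel))
theorem vL0 : uA.Lower (gp uA.e vT0) [2, 3, 4, 8, 16] 9999360 := TabAct.Lower.step (k := 31) vL1 vs0
theorem vx0 : gp uA.e vT0 ⊓ MulAction.stabilizer _ (uA.c 2) = gp uA.e vT1 ∧ Nat.card (gp uA.e vT1) ≤ 322560 :=
  TabAct.ex_step ((Subgroup.card_le_card_group _).trans cardGL.le) vs0 (by norm_num) vL1.le_card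
theorem vx1 : gp uA.e vT1 ⊓ MulAction.stabilizer _ (uA.c 3) = gp uA.e vT2 ∧ Nat.card (gp uA.e vT2) ≤ 10752 :=
  TabAct.ex_step vx0.2 vs1 (by norm_num) vL2.le_card
theorem vx2 : gp uA.e vT2 ⊓ MulAction.stabilizer _ (uA.c 4) = gp uA.e vT3 ∧ Nat.card (gp uA.e vT3) ≤ 384 :=
  TabAct.ex_step vx1.2 vs2 (by norm_num) vL3.le_card
theorem vx3 : gp uA.e vT3 ⊓ MulAction.stabilizer _ (uA.c 8) = gp uA.e vT4 ∧ Nat.card (gp uA.e vT4) ≤ 16 :=
  TabAct.ex_step vx2.2 vs3 (by norm_num) vL4.le_card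
theorem vx4 : gp uA.e vT4 ⊓ MulAction.stabilizer _ (uA.c 16) = gp uA.e [] ∧ Nat.card (gp uA.e []) ≤ 1 :=
  TabAct.ex_step vx3.2 vs4 (by norm_num) Nat.card_pos
theorem vc4 : uA.CB [6] vT4 8 :=
  TabAct.CB.step vx4.1 (TabAct.CB.of_le vx4.2) 17 8
    (cast_ap apU (fun ap => (okW 14 [6] && okS 14 vT4 && Nat.blt 16 uA.n && orbRun id (vT4.map (tr ap)) 17 16 fun U _ =>
      Nat.ble (cntLt uA.n fun y => tb U y && beqB (Nat.beq (tr ap [6] y) y) (Nat.beq (tr ap [6] 16) 16)) 8)) (by decide +kernel))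
theorem vc3 : uA.CB [6] vT3 96 :=
  TabAct.CB.step vx3.1 vc4 25 12
    (cast_ap apU (fun ap => (okW 14 [6] && okS 14 vT3 && Nat.blt 8 uA.n && orbRun id (vT3.map (tr ap)) 25 8 fun U _ =>
      Nat.ble (cntLt uA.n fun y => tb U y && beqB (Nat.beq (tr ap [6] y) y) (Nat.beq (tr ap [6] 8) 8)) 12)) (by decide +kernel))
theorem vc2 : uA.CB [6] vT2 1344 :=
  TabAct.CB.step vx2.1 vc3 29 14
    (cast_ap apU (fun ap => (okW 14 [6] && okS 14 vT2 && Nat.blt 4 uA.n && orbRun id (vT2.map (tr ap)) 29 4 fun U _ =>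
      Nat.ble (cntLt uA.n fun y => tb U y && beqB (Nat.beq (tr ap [6] y) y) (Nat.beq (tr ap [6] 4) 4)) 14)) (by decide +kernel))
theorem vc1 : uA.CB [6] vT1 1344 :=
  TabAct.CB.der vx1.1 vc2 2
    (cast_ap apU (fun ap => (okW 14 [6] && okS 14 vT1 && Nat.blt 2 uA.n && fixAt ap vT1 2 && Nat.beq (tr ap [6] 2) 3)) (by decide +kernel))
theorem vc0 : uA.CB [6] vT0 21504 :=
  TabAct.CB.step vx0.1 vc1 32 16
    (cast_ap apU (fun ap => (okW 14 [6] && okS 14 vT0 && Nat.blt 2 uA.n && orbRun id (vT0.map (tr ap)) 32 2 fun U _ =>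
      Nat.ble (cntLt uA.n fun y => tb U y && beqB (Nat.beq (tr ap [6] y) y) (Nat.beq (tr ap [6] 2) 2)) 16)) (by decide +kernel))
theorem cenG : cl (fun l => lprod He.A0.e (nthW σ l)) σ.length = Subgroup.centralizer {lprod He.A0.e [3]} := by
  refine Subgroup.eq_of_le_of_card_ge ((cl_nth _ _).le.trans (He.base0.le_cen (by decide +kernel)))
    (le_trans ?_ (lowG0.le_gp (by decide +kernel)))
  have := gc0
  rwa [TabAct.CB, Subgroup.eq_top_of_le_card _ (He.card.le.trans gL0.le_card), top_inf_eq] at this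
theorem cenT : cl (fun l => lprod uA.e (nthW σ1 l)) σ1.length = Subgroup.centralizer {lprod uA.e [6]} := by
  refine Subgroup.eq_of_le_of_card_ge ((cl_nth _ _).le.trans ((cS.base uk).le_cen (by decide +kernel)))
    (le_trans ?_ (lowT0.le_gp (by decide +kernel)))
  have := vc0
  rwa [TabAct.CB, Subgroup.eq_top_of_le_card _ (cardGL.le.trans vL0.le_card), top_inf_eq] at this
theorem main : Nonempty (Subgroup.centralizer {lprod He.A0.e [3]} ≃* Subgroup.centralizer {lprod uA.e [6]}) := by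
  rw [← cenG, ← cenT]
  exact (iso_of_card (bound (satG.prod satT)) (lowG0.le_gp (by decide +kernel)) (lowT0.le_gp (by decide +kernel))).1
theorem inv_s : (((lprod uA.e [6])⁻¹ : GL (Fin 5) (ZMod 2)) : Matrix (Fin 5) (Fin 5) (ZMod 2)) = Matrix.transvection 0 1 1 := by
  rw [lprod_single, cS.e_inv uk (by decide)]
  decide +kernel

end Cfsg.Agent.H15.HeZ
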