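import Cfsg.Agent.H15.TC3
set_option autoImplicit false
set_option maxRecDepth 100000

namespace Cfsg.Agent.H15.J4T0
open Cfsg.Agent.H15 Cfsg.Agent.H14

noncomputable def t0_0 (_i : ℕ) : ℕ := (nat_lit 0xa2cf012d0b16e009eaf012b0a9af001e7f00ec5bc27001e4f002f4b4240019ff00ea5b81f0019cf002e4ac1c00999f00680656100599f00192a45d00998f00660602d00598f001829c5b00997f006405ce000597f00172942c00996f00620585e00596f001628c5a00955f0060055a900555f00152852500954f005e0502b00554f001427ca300953f005c04ca800553f00132742a00952f005a048a600552f001226ca200151f00290a01100150f0027098100014ff00250900f0014ef00230880e0010df00210800d0010cf001f0780c0010bf001d0700b0010af001b0680a00909f00500241900509f00092441800908f004e0201700508f000823c16008c7f004c01c15004c7f000723414008c6f004a01813004c6f000622c12000c5f001104005000c4f000f0380400083f000d0300300082f000b0280200881f00440040900481f00012140800840f00420000700440f000020c0600040f00050100000000f000300801)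
noncomputable def blk (i : ℕ) : ℕ := (t0_0 i)
noncomputable def row (x : ℕ) : ℕ := frcN (Nat.shiftRight x (nat_lit 6)) fun b =>
  Nat.land (Nat.shiftRight (blk b) (Nat.mul (Nat.land x (nat_lit 63)) (nat_lit 60))) (nat_lit 0xfffffffffffffff)
noncomputable def lk (x l : ℕ) : ℕ :=
  Nat.land (Nat.shiftRight (row x) (Nat.mul l (nat_lit 10))) (nat_lit 1023)
noncomputable def ap (x l : ℕ) : ℕ :=
  Nat.land (Nat.shiftRight (row x) (Nat.mul l (nat_lit 10))) (nat_lit 63)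
noncomputable def wt : Wt := (.node (nat_lit 4) (.node (nat_lit 2) (.node (nat_lit 1) (.leaf [nat_lit 2, nat_lit 2, nat_lit 2]) (.leaf [nat_lit 1, nat_lit 2])) (.node (nat_lit 3) (.leaf [nat_lit 0, nat_lit 2, nat_lit 0, nat_lit 2, nat_lit 0, nat_lit 2, nat_lit 0, nat_lit 1, nat_lit 0, nat_lit 1, nat_lit 0, nat_lit 1]) (.leaf [nat_lit 0, nat_lit 0]))) (.node (nat_lit 6) (.node (nat_lit 5) (.leaf [nat_lit 0, nat_lit 2, nat_lit 0, nat_lit 2, nat_lit 0, nat_lit 1, nat_lit 0, nat_lit 1, nat_lit 0, nat_lit 1, nat_lit 0, nat_lit 2]) (.leaf [nat_lit 0, nat_lit 1, nat_lit 0, nat_lit 2, nat_lit 0, nat_lit 2, nat_lit 0, nat_lit 2, nat_lit 0, nat_lit 1, nat_lit 0, nat_lit 1])) (.node (nat_lit 7) (.leaf [nat_lit 0, nat_lit 1, nat_lit 0, nat_lit 1, nat_lit 0, nat_lit 2, nat_lit 0, nat_lit 2, nat_lit 0, nat_lit 2, nat_lit 0, nat_lit 1]) (.node (nat_lit 8) (.leaf [nat_lit 0, nat_lit 2, nat_lit 0, nat_lit 1, nat_lit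 0, nat_lit 1, nat_lit 0, nat_lit 1, nat_lit 0, nat_lit 2, nat_lit 0, nat_lit 2]) (.leaf [nat_lit 2, nat_lit 0, nat_lit 2, nat_lit 0, nat_lit 2, nat_lit 0, nat_lit 1, nat_lit 0, nat_lit 1, nat_lit 0, nat_lit 1, nat_lit 0])))))
noncomputable def P : TCP where
  lk := lk
  inv := (invT (nat_lit 4224) (nat_lit 3))
  wt := wt.get
  gens := [nat_lit 0, nat_lit 1, nat_lit 2]
  N := nat_lit 48
  n := nat_lit 48
  eps := nat_lit 3
  VM := nat_lit 63
  Wv := nat_lit 6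
  MAXB := nat_lit 960
  JM := nat_lit 31
  Wj := nat_lit 5
  Hm := nat_lit 0
def ls : List Nat := [nat_lit 0, nat_lit 1, nat_lit 2, nat_lit 3]
def cl1 : Cl := (.gen (nat_lit 0) (.gen (nat_lit 1) (.gen (nat_lit 2) (.opt (nat_lit 3) .nil))))
def cl2 : Cl := (.opt (nat_lit 0) (.opt (nat_lit 1) (.opt (nat_lit 2) (.opt (nat_lit 3) .nil))))
noncomputable def chk : ℕ → List ℕ → ℕ → Bool :=
  rows2 (nat_lit 48) (parOk P) (cols2 lk (nat_lit 960) (nat_lit 48) (nat_lit 48) (ent1 (nat_lit 63) (nat_lit 31) (nat_lit 5) (decJ wt.get)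
    (ent2 lk (nat_lit 63) (special P) (slowE lk (invT (nat_lit 4224) (nat_lit 3)) (nat_lit 48) (nat_lit 3) (nat_lit 63) (nat_lit 8))))) cl1 cl2
theorem rg {x y : ℕ} (Js : List ℕ) (h : chk y Js x = true) : RowsGood P ls x y :=
  rowsGood_of2 (c1 := cl1) (c2 := cl2) (by decide +kernel) h
def bases : List (List Nat × Nat) := [([0], 2), ([1], 3), ([0, 1, 0, 1, 0, 1, 0, 2, 0, 2, 0, 2], 1)]
noncomputable def j0 : List ℕ := nat_lit 0x421 :: nat_lit 0x420 :: nat_lit 0xc1 :: nat_lit 0x1001 :: nat_lit 0xc1 :: nat_lit 0x1001 :: nat_lit 0x420 :: nat_lit 0x420 :: nat_lit 0x420 :: nat_lit 0x420 :: nat_lit 0xc1 :: nat_lit 0x1001 :: nat_lit 0xc1 :: nat_lit 0x1001 :: nat_lit 0xc1 :: nat_lit 0x1001 :: nat_lit 0xc1 :: nat_lit 0x1001 :: nat_lit 0x420 :: nat_lit 0x420 :: nat_lit 0x420 :: nat_lit 0x420 :: nat_lit 0x420 :: nat_lit 0x420 :: nat_lit 0x420 :: nat_lit 0x420 :: nat_lit 0xca :: nat_lit 0x100a :: nat_lit 0xc1 ::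 nat_lit 0x100a :: nat_lit 0xca :: nat_lit 0x1001 :: nat_lit 0xca :: nat_lit 0x100a :: nat_lit 0xc8 :: nat_lit 0x100c :: nat_lit 0xc1 :: nat_lit 0x100c :: nat_lit 0xce :: nat_lit 0x1001 :: nat_lit 0xd0 :: nat_lit 0x1012 :: nat_lit 0x4c0 :: nat_lit 0x50c0 :: nat_lit 0x4c0 :: nat_lit 0x50c0 :: nat_lit 0x100a :: nat_lit 0x100c :: []
theorem c0 : RowsGood P ls 0 48 := rg j0 (by decide +kernel)
theorem f0 : RowsGood P ls 0 48 :=
  c0
theorem good : RowsGood P (List.range (P.eps + 1)) 0 P.N :=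
  (f0 : RowsGood P ls 0 48)
theorem idx {G : Type*} [Group G] {E : ℕ → G} {inv : ℕ → ℕ} (hi : ∀ l, E (inv l) = (E l)⁻¹)
    {B : List (List ℕ × ℕ)} (hB : ∀ p ∈ B, lprod E p.1 ^ p.2 = 1) (σ : List (List ℕ))
    {hs ks : List (List ℕ)} (hc : certOk P wt bases inv B σ hs ks = true) :
    (gp E hs).relIndex (gp E ks) ≠ 0 ∧ (gp E hs).relIndex (gp E ks) ≤ 48 :=
  tc_gp hi hB rfl (fun _ h => invT_of_le h) good σ hc

end Cfsg.Agent.H15.J4T0
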