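import Cfsg.Agent.H15.TC3
set_option autoImplicit false
set_option maxRecDepth 100000

namespace Cfsg.Agent.H15.J4T5
open Cfsg.Agent.H15 Cfsg.Agent.H14

noncomputable def t0_0 (i : ℕ) : ℕ := (Bool.rec (Bool.rec (nat_lit 0x470c7f007e00fc01f803f00023e0062014c0009c31fc01f803f007e00fc0000c421f8052000470c3f007e00fc01f803f00023c006001440009c30fc01f803f007e00fc0000c021e8050000470bff007e00fc01f803f00023a005e013c0009c2ffc01f803f007e00fc0000bc21d804e000068bbf007e00fc01f803f00004d009800b80001a2dfc01f803f007e00fc00012c025002d000068b3f007e00fc01f803f000049009000b00001a2bfc01f803f007e00fc00011c023002b000068abf007e00fc01f803f000045008800a80001a29fc01f803f007e00fc0020d031a0029000068a3f007e00fc01f803f000043008400a00001a27fc01f803f007e00fc00010402000270000689bf007e00fc01f803f00003f007c00980001a25fc01f803f007e00fc0000f401e002500006893f007e00fc01f803f00003b007400900011823fc01f803f007e00fc0008b401180390002608ff007e00fc01f803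f000023085c00e00011821fc01f803f007e00fc0008ac010803700026087f007e00fc01f803f000021085800d80011820fc01f803f007e00fc0008a4010003500026083f007e00fc01f803f000020085400d0001181ffc01f803f007e00fc00089c00f80330002607ff007e00fc01f803f00001f085000c8001181efc01f803f007e00fc00208800f003100046077f007e00fc01f803f000224003a00c0000981dfc01f803f007e00fc000074212802f00005873f007e00fc01f803f00002e005a0070000161afc01f803f007e00fc001878513001a00005867f007e00fc01f803f00002c005600640001618fc01f803f007e00fc0000a801480180000585ff007e00fc01f803f000028004e005c0001616fc01f803f007e00fc000098411001600005857f007e00fc01f803f000025004800540011414fc01f803f007e00fc00086c00a002300025053f007e00fc01f803f0000140838586c0011413fc01f803f007e00fc00086400980220002504ff007e00fc01f803f000013083400840011412fc01f803f007e00fc00085c00900200002504bf007e00fc01f803f0000120830007c0011411fc01f803f007e00fc000854008801e00025047f007e00fc01f803f000011082c007400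01210fc01f803f007e00fc00007000d80100000483ff007e00fc01f803f00001a0032003c000120efc01f803f007e00fc00006000b800e00004837f007e00fc01f803f000016002a0034001100cfc01f803f007e00fc00083c006001400024033f007e00fc01f803f00000c0820004c001100bfc01f803f007e00fc00083400580120002402ff007e00fc01f803f00000b081c00440000e0afc01f803f007e00fc000040007800a00003827f007e00fc01f803f00000e001a00240010c08fc01f803f007e00fc000824004000c00023023f007e00fc01f803f0000080814002c0000a07fc01f803f007e00fc000028004800700042017f007e00fc01f803f000206000a00200008805fc01f803f007e00fc000014203820600001813f007e00fc01f803f000007000c00100008401fc01f803f007e00fc00000410100050000180bf007e00fc01f803f000203080600080010401fc01f803f007e00fc001010000800300000803f007e00fc01f803f000002000800000000000fc01f8000007e00000000000000001) (nat_lit 0x8987f007e00fc01f803f00009e612801840002260fc01f803f007e00fc004a2004e80600000897ff007e00fc01f803f00009c0136017c001205efc0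1f803f007e00fc0009ec02f009a0002817bf007e00fc01f803f00005e08f80264001205dfc01f803f007e00fc0009e402e809800028177f007e00fc01f803f00005d08f4025c001205cfc01f803f007e00fc0009dc02e009600028173f007e00fc01f803f00005c08f00254001205bfc01f803f007e00fc0009d402d80940002816ff007e00fc01f803f00005b08ec024c0012059fc01f803f007e00fc0009cc02c809200028167f007e00fc01f803f00005908e802440012057fc01f803f007e00fc0009c402b80900002815ff007e00fc01f803f00005708e4023c0012056fc01f803f007e00fc0009bc02b008e0002815bf007e00fc01f803f00005608e002340012055fc01f803f007e00fc0009b402a808c00028157f007e00fc01f803f00005508dc022c0012054fc01f803f007e00fc0009ac02a008a00028153f007e00fc01f803f00005408d802240012053fc01f803f007e00fc0009a402980880002814ff007e00fc01f803f00005308d4021c0012052fc01f803f007e00fc00099c02900860002814bf007e00fc01f803f00005208d002140012051fc01f803f007e00fc000994028808400028147f007e00fc01f803f00005108cc020c0012050fc01f803f007e00fc000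98c028008200028143f007e00fc01f803f00005008c80204001204ffc01f803f007e00fc00098402780800002813ff007e00fc01f803f00004f08c401fc001204efc01f803f007e00fc00097c027007e0002813bf007e00fc01f803f00004e08c001f40001e4dfc01f803f007e00fc0001f003d804d00007933f007e00fc01f803f00007a00f201300001e4bfc01f803f007e00fc0001e003b804b0000792bf007e00fc01f803f00007600ea01280001e48fc01f803f007e00fc00316852d00480000791ff007e00fc01f803f00007400e6011c0001e46fc01f803f007e00fc00316072c004600007917f007e00fc01f803f00007200e201140001e44fc01f803f007e00fc0001c003780440000790ff007e00fc01f803f00006e00da010c0001e41fc01f803f007e00fc0001b00358041000078fff007e00fc01f803f00006a00d200fc0001e3efc01f803f007e00fc0001a0033803e000078f7f007e00fc01f803f00006600ca00f40001e3cfc01f803f007e00fc000190031803c000078eff007e00fc01f803f00006200c200ec0001e3afc01f803f007e00fc00018002f803a000470e7f007e00fc01f803f00024c007201780009c39fc01f803f007e00fc0000e4226805d000470e3f007e00fc01f803f00024a007001700009c38fc01f803f007e00fc0000e0225805b000470dff007e00fc01f803f000248006e11240009c37fc01f803f007e00fc0000dc224805a000470dbf007e00fc01f803f000246006c01640009c36fc01f803f007e00fc0000d82238058000470d7f007e00fc01f803f000244006a015c0009c35fc01f803f007e00fc0000d42228056000470cff007e00fc01f803f000242006601540009c33fc01f803f007e00fc0000cc2218642000470cbf007e00fc01f803f000240006401500009c32fc01f803f007e00fc0000c82208a40)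 (Nat.ble (nat_lit 1) i)) (Bool.rec (nat_lit 0x9a87f007e00fc01f803f0000db81820284000269ffc01f803f007e00fc00b34c06d009f00009a7bf007e00fc01f803f0034c001b20278000269cfc01f803f007e00fc000362261009c00009a6ff007e00fc01f803f0000d73d98026c0012498fc01f803f007e00fc000ae404c00d600029263f007e00fc01f803f000098097403540012497fc01f803f007e00fc000adc04b80d40002925ff007e00fc01f803f0000970970034c0012496fc01f803f007e00fc000ad404b00d20002925bf007e00fc01f803f000096096c03440012495fc01f803f007e00fc000acc04a80d000029257f007e00fc01f803f0000950968033c0012492fc01f803f007e00fc000ac404900ce0002924bf007e00fc01f803f00009209640334000a48dfc01f803f007e00fc00023514d00cc00049233f007e00fc01f803f0002ae01193274000a48cfc01f803f007e00fc000230257b4a00002922ff007e00fc01f803f00008b3522032c001248afc01f803f007e00fc000aac04500ca0002922bf007e00fc01f803f00008a095803240012489fc01f803f007e00fc000aa404480c800029227f007e00fc01f803f0000890954031c0012487fc01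f803f007e00fc000a9c04380c60002921ff007e00fc01f803f00008709500314000a485fc01f803f007e00fc000214d4c80c400049213f007e00fc01f803f0002a40108030c000a484fc01f803f007e00fc00021025280c20004920bf007e00fc01f803f0002a201040304000a482fc01f803f007e00fc00020825180c000049207f007e00fc01f803f003c90010202fc0012480fc01f803f007e00fc000a7c04036ae00029203f007e00fc01f803f000080094002f8001247ffc01f803f007e00fc00c25003f80bd000291fbf007e00fc01f803f00007e25113abc001247dfc01f803f007e00fc000a6c03e80bc000291f7f007e00fc01f803f00007d093802ec000227cfc01f803f007e00fc0082c1146807c000089eff007e00fc01f803f001ca6310a01ec000227afc01f803f007e00fc0002e805c807a000089e7f007e00fc01f803f0000b8016e01e40002278fc01f803f007e00fc0002d805a8078000089dff007e00fc01f803f0000b4016601dc0002276fc01f803f007e00fc00c9fd94f0076000089d7f007e00fc01f803f004093792601d40002274fc01f803f007e00fc0002c80588074000089cff007e00fc01f803f001cad311601cc0002272fc01f803f007e00fc00fa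05f508072000089c7f007e00fc01f803f004686190601c40002270fc01f803f007e00fc003a386470070000089bff007e00fc01f803f00229a016001bc000226efc01f803f007e00fc0002bc057006e000089b7f007e00fc01f803f001a91015a01b4000226cfc01f803f007e00fc0002b0055806c000089aff007e00fc01f803f0000aa015201ac000226afc01f803f007e00fc00527483f006a000089a7f007e00fc01f803f0000a8014e01a40002268fc01f803f007e00fc01220e44780680000899ff007e00fc01f803f001a99014c019c0002266fc01f803f007e00fc000294052006600008997f007e00fc01f803f000e8f8d0c01940002264fc01f803f007e00fc00028c05100640000898ff007e00fc01f803f0000a17920018c0002262fc01f803f007e00fc00028004f8062) (Bool.rec (nat_lit 0x2b3d3f007e00fc01f803f0000f40a0004200012cf3fc01f803f007e00fc000bf407981070002b3cff007e00fc01f803f0000f309fd63f40012ceffc01f803f007e00fc000bec07781060002b3bff007e00fc01f803f0000ef09f80414000acedfc01f803f007e00fc0003b647881040000ababf007e00fc01f803f005f01b5ea03a80002ae9fc01f803f007e00fc0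173ca97800e90000aba3f007e00fc01f803f0058f7adee03a00002ae4fc01f803f007e00fc00040c08100e40000ab8ff007e00fc01f803f005cf90202038c0002ae1fc01f803f007e00fc00040007f80e10000ab7ff007e00fc01f803f0000fe01fa037c0002addfc01f803f007e00fc014bc2d7c00dd0000ab73f007e00fc01f803f004afa8dda03700002adbfc01f803f007e00fc0153e2a7900db0000ab6bf007e00fc01f803f0000fc01f603680002ad9fc01f803f007e00fc014bba87700d90000ab63f007e00fc01f803f0048f101f403600002ad7fc01f803f007e00fc012bb247600d70004a35bf007e00fc01f803f0002ea01ad5b78000a8d6fc01f803f007e00fc00035827580f90004a347f007e00fc01f803f0002e801a203e0000a8d1fc01f803f007e00fc00034427480f70004a343f007e00fc01f803f0002e601a13394000a8d0fc01f803f007e00fc000340273d6e60004a33bf007e00fc01f803f0002e4019d3b9c000a8cefc01f803f007e00fc00033827280f60004a32ff007e00fc01f803f0002e2019603d4000a8cbfc01f803f007e00fc00032c271d0e20004a32bf007e00fc01f803f002acd019403d000128c7fc01f803f007e00fc014b48063a0e00004a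31bf007e00fc01f803f0002de018c03cc000a8c6fc01f803f007e00fc00031826fd8eb0004a30ff007e00fc01f803f0002dc018603c8000a8c3fc01f803f007e00fc00030c26e80f10004a2fff007e00fc01f803f0042c1017e03c0000a8befc01f803f007e00fc0002f966980ef0002a2f7f007e00fc01f803f0000bd6d8003b800128bcfc01f803f007e00fc01130805e00ed0004a2eff007e00fc01f803f001ecc017603b000026bafc01f803f007e00fc0003ac07500ba00009ae7f007e00fc01f803f0024c9a59e02e400026b8fc01f803f007e00fc011b10e6400b800009adff007e00fc01f803f002eda557c02dc00026b6fc01f803f007e00fc01431ea7000b600009ad7f007e00fc01f803f0000e901d002d400026b4fc01f803f007e00fc00039c07300b400009acff007e00fc01f803f0054d5a99202cc00026b2fc01f803f007e00fc00039407200b200009ac7f007e00fc01f803f0028ca59c202c400026b0fc01f803f007e00fc0072ed06b80b000009ab7f007e00fc01f803f0000e301c402b400026acfc01f803f007e00fc00038536680ac00009aaff007e00fc01f803f0052cf4daa02ac00026aafc01f803f007e00fc007b5256200aa00009aa7f007e00fc01f803f0000e0a1a402a400026a8fc01f803f007e00fc00037c06f00a800009a9ff007e00fc01f803f0020c5458a029c00026a6fc01f803f007e00fc01232246a00a600009a97f007e00fc01f803f0000dd01b8029400026a4fc01f803f007e00fc0112f226c00a400009a8ff007e00fc01f803f0040bf89b6028c00026a2fc01f803f007e00fc00e365a5e80a2)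 (nat_lit 0xa8c79da5f803f007e00fc00031ff007e000002a4a5b2bfe00fc01f803f000129fc01f800000a8bc8585f803f007e00fc0002f016c7e0000009c8995efe00fc01f803f0014c0fc01f800000272070ebf803f007e00fc01f803f00012000009c79f5ffe00fc01f803f007e006d82047800026af953bf803f007e00fc01f803f0000af00009ab99507e00fc01f803f007e00fc0002b8000271a84d1f803f007e00fc01f803f00011a00009c65c397e00fc01f803f007e000262046400026a0695df803f007e00fc01f803f0000a000009c6163b7e00fc01f803f007e00fc000460000269d995ff803f007e00fc01f803f00009d00049268f587e00fc01f803f0003240135f800000a49a411bf803f007e00fc00026bf007e000004925183ffe00fc01f803f007e000129f800000a494613df803f007e00fc000253f00012f0004924df49fe00fc01f803f0003200127f800000a4937527f803f007e00fc00024c290812e00049241e40fe00fc01f803f007e000121f800000a4907943f803f007e00fc000243f00012d0004923504d7e00fc01f803f0002b0011bf80000124868d07f803f007e00fc01f8000437e000002921a347fe00fc01f803f000086fc01f800000a4838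90df803f007e00fc00020c747812a00029205d487e00fc01f803f000081054204a4000a47f5d29f803f007e00fc0001fc14f0127000274587067e00fc01f803f000116fc01f8000001b152021f803f007e00fc01f80008b81150004645090a7e00fc01f803f007e0002280458000161b2837f803f007e00fc000457f00001b0002d447f007e00fc01f803f000111da25bc4c000330ffc01f803f007e00fc01bc4f588810f0000cc37f007e00fc01f803f006d12022604340013109fc01f803f007e00fc000c3c084e9100002c427f007e00fc01f803f0001090a2004480013107fc01f803f007e00fc000c34083db0c0002c41ff007e00fc01f803f0001070a1c04440013106fc01f803f007e00fc01942c0835d0e0000bc0ff007e00fc01f803f006306ce18040c0002f02fc01f803f007e00fc01842af8501020000bc03f007e00fc01f803f000110021e04000002efffc01f803f007e00fc017422d8400ff0000bbfbf007e00fc01f803f00010e021a03f80002efcfc01f803f007e00fc00043328580fc0000bbeff007e00fc01f803f004f059a0a03ec0002efafc01f803f007e00fc016412b8200fa0004b3dbf007e00fc01f803f00030201ec042c000acf6fc01f803f007e00fc0003d8281810a0002b3d7f007e00fc01f803f0000f5b9f37c040012cf4fc01f803f007e00fc000bfc07a0109)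 (Nat.ble (nat_lit 4) i)) (Nat.ble (nat_lit 3) i)) (Nat.ble (nat_lit 2) i))
noncomputable def blk (i : ℕ) : ℕ := (t0_0 i)
noncomputable def row (x : ℕ) : ℕ := frcN (Nat.shiftRight x (nat_lit 6)) fun b =>
  Nat.land (Nat.shiftRight (blk b) (Nat.mul (Nat.land x (nat_lit 63)) (nat_lit 150))) (nat_lit 0x3fffffffffffffffffffffffffffffffffffff)
noncomputable def lk (x l : ℕ) : ℕ :=
  Nat.land (Nat.shiftRight (row x) (Nat.mul l (nat_lit 15))) (nat_lit 32767)
noncomputable def ap (x l : ℕ) : ℕ :=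
  Nat.land (Nat.shiftRight (row x) (Nat.mul l (nat_lit 15))) (nat_lit 511)
noncomputable def wt : Wt := (.node (nat_lit 20) (.node (nat_lit 10) (.node (nat_lit 5) (.node (nat_lit 2) (.node (nat_lit 1) (.leaf [nat_lit 2, nat_lit 0, nat_lit 1, nat_lit 0, nat_lit 3, nat_lit 0, nat_lit 2, nat_lit 0]) (.leaf [nat_lit 1, nat_lit 2])) (.node (nat_lit 3) (.leaf [nat_lit 0, nat_lit 2, nat_lit 0, nat_lit 2, nat_lit 0, nat_lit 5, nat_lit 0, nat_lit 1, nat_lit 0, nat_lit 1]) (.node (nat_lit 4) (.leaf [nat_lit 1, nat_lit 1, nat_lit 1]) (.leaf [nat_lit 2, nat_lit 1])))) (.node (nat_lit 7) (.node (nat_lit 6) (.leaf [nat_lit 2, nat_lit 2, nat_lit 2]) (.leaf [nat_lit 2, nat_lit 0, nat_lit 1, nat_lit 0, nat_lit 2, nat_lit 0, nat_lit 2, nat_lit 0, nat_lit 1, nat_lit 0, nat_lit 2, nat_lit 0, nat_lit 2, nat_lit 0, nat_lit 1, nat_lit 0, nat_lit 1, nat_lit 0, nat_lit 2, nat_lit 0, nat_lit 1, nat_lit 0, nat_lit 1, nat_lit 0, nat_lit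 2, nat_lit 0, nat_lit 1, nat_lit 0, nat_lit 1, nat_lit 0, nat_lit 2, nat_lit 0, nat_lit 1, nat_lit 0, nat_lit 2, nat_lit 0])) (.node (nat_lit 8) (.leaf [nat_lit 1, nat_lit 0, nat_lit 2, nat_lit 0, nat_lit 1, nat_lit 0, nat_lit 1, nat_lit 0, nat_lit 2, nat_lit 0, nat_lit 1, nat_lit 0, nat_lit 1, nat_lit 0, nat_lit 2, nat_lit 0, nat_lit 1, nat_lit 0, nat_lit 2, nat_lit 0, nat_lit 2, nat_lit 0, nat_lit 1, nat_lit 0, nat_lit 2, nat_lit 0, nat_lit 2, nat_lit 0, nat_lit 1, nat_lit 0, nat_lit 2, nat_lit 0, nat_lit 2, nat_lit 0, nat_lit 1, nat_lit 0]) (.node (nat_lit 9) (.leaf [nat_lit 0, nat_lit 2, nat_lit 0, nat_lit 2, nat_lit 0, nat_lit 1, nat_lit 0, nat_lit 1, nat_lit 0, nat_lit 2, nat_lit 0, nat_lit 2, nat_lit 0, nat_lit 1, nat_lit 0, nat_lit 1, nat_lit 0, nat_lit 2, nat_lit 0, nat_lit 2, nat_lit 0, nat_lit 1, nat_lit 0, nat_lit 1, nat_lit 0, nat_lit 2, nat_lit 0, nat_lit 2, nat_lit 0, nat_lit 1, nat_lit 0,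 nat_lit 1, nat_lit 0, nat_lit 2, nat_lit 0, nat_lit 2, nat_lit 0, nat_lit 1, nat_lit 0, nat_lit 1]) (.leaf [nat_lit 0, nat_lit 2, nat_lit 0, nat_lit 1, nat_lit 0, nat_lit 2, nat_lit 0, nat_lit 1, nat_lit 0, nat_lit 2, nat_lit 0, nat_lit 1, nat_lit 0, nat_lit 2, nat_lit 0, nat_lit 1, nat_lit 0, nat_lit 2, nat_lit 0, nat_lit 1, nat_lit 0, nat_lit 2, nat_lit 0, nat_lit 1, nat_lit 0, nat_lit 2, nat_lit 0, nat_lit 1, nat_lit 0, nat_lit 2, nat_lit 0, nat_lit 1, nat_lit 0, nat_lit 2, nat_lit 0, nat_lit 1, nat_lit 0, nat_lit 2, nat_lit 0, nat_lit 1, nat_lit 0, nat_lit 2, nat_lit 0, nat_lit 1, nat_lit 0, nat_lit 2, nat_lit 0, nat_lit 1]))))) (.node (nat_lit 15) (.node (nat_lit 12) (.node (nat_lit 11) (.leaf [nat_lit 0, nat_lit 1, nat_lit 0, nat_lit 1, nat_lit 0, nat_lit 2, nat_lit 0, nat_lit 2, nat_lit 0, nat_lit 1, nat_lit 0, nat_lit 1, nat_lit 0, nat_lit 2, nat_lit 0, nat_lit 2, nat_lit 0, nat_lit 1, nat_lit 0,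 nat_lit 1, nat_lit 0, nat_lit 2, nat_lit 0, nat_lit 2, nat_lit 0, nat_lit 1, nat_lit 0, nat_lit 1, nat_lit 0, nat_lit 2, nat_lit 0, nat_lit 2, nat_lit 0, nat_lit 1, nat_lit 0, nat_lit 1, nat_lit 0, nat_lit 2, nat_lit 0, nat_lit 2]) (.leaf [nat_lit 2, nat_lit 0, nat_lit 2, nat_lit 0, nat_lit 1, nat_lit 0, nat_lit 2, nat_lit 0, nat_lit 2, nat_lit 0, nat_lit 1, nat_lit 0, nat_lit 1, nat_lit 0, nat_lit 2, nat_lit 0, nat_lit 1, nat_lit 0, nat_lit 1, nat_lit 0, nat_lit 2, nat_lit 0, nat_lit 1, nat_lit 0, nat_lit 1, nat_lit 0, nat_lit 2, nat_lit 0, nat_lit 1, nat_lit 0, nat_lit 2, nat_lit 0, nat_lit 2, nat_lit 0, nat_lit 1, nat_lit 0])) (.node (nat_lit 13) (.leaf [nat_lit 0, nat_lit 2, nat_lit 0, nat_lit 1, nat_lit 0, nat_lit 2, nat_lit 0, nat_lit 1, nat_lit 0, nat_lit 1, nat_lit 0, nat_lit 2, nat_lit 0, nat_lit 1, nat_lit 0, nat_lit 2, nat_lit 0, nat_lit 1, nat_lit 0, nat_lit 2, nat_lit 0, nat_lit 1, nat_lit 0,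 nat_lit 1, nat_lit 0, nat_lit 2, nat_lit 0, nat_lit 1, nat_lit 0, nat_lit 2, nat_lit 0, nat_lit 1, nat_lit 0, nat_lit 2, nat_lit 0, nat_lit 1, nat_lit 0, nat_lit 1, nat_lit 0, nat_lit 2, nat_lit 0, nat_lit 1, nat_lit 0, nat_lit 2, nat_lit 0, nat_lit 1, nat_lit 0, nat_lit 2, nat_lit 0, nat_lit 1, nat_lit 0, nat_lit 1, nat_lit 0, nat_lit 2, nat_lit 0, nat_lit 1]) (.node (nat_lit 14) (.leaf [nat_lit 0, nat_lit 0]) (.leaf [nat_lit 1, nat_lit 0, nat_lit 1, nat_lit 0, nat_lit 2, nat_lit 0, nat_lit 2, nat_lit 0, nat_lit 1, nat_lit 0, nat_lit 1, nat_lit 0, nat_lit 2, nat_lit 0, nat_lit 2, nat_lit 0, nat_lit 1, nat_lit 0, nat_lit 1, nat_lit 0, nat_lit 2, nat_lit 0, nat_lit 2, nat_lit 0, nat_lit 1, nat_lit 0, nat_lit 1, nat_lit 0, nat_lit 2, nat_lit 0, nat_lit 2, nat_lit 0, nat_lit 1, nat_lit 0, nat_lit 1, nat_lit 0, nat_lit 2, nat_lit 0, nat_lit 2, nat_lit 0])))) (.node (nat_lit 17) (.node (nat_lit 16) (.leaf [nat_lit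 1, nat_lit 0, nat_lit 1, nat_lit 0, nat_lit 2, nat_lit 0, nat_lit 1, nat_lit 0, nat_lit 2, nat_lit 0, nat_lit 2, nat_lit 0, nat_lit 1, nat_lit 0, nat_lit 2, nat_lit 0, nat_lit 2, nat_lit 0, nat_lit 1, nat_lit 0, nat_lit 2, nat_lit 0, nat_lit 2, nat_lit 0, nat_lit 1, nat_lit 0, nat_lit 1, nat_lit 0, nat_lit 2, nat_lit 0, nat_lit 1, nat_lit 0, nat_lit 1, nat_lit 0, nat_lit 2, nat_lit 0]) (.leaf [nat_lit 1, nat_lit 0, nat_lit 2, nat_lit 0, nat_lit 2, nat_lit 0, nat_lit 1, nat_lit 0, nat_lit 1, nat_lit 0, nat_lit 2, nat_lit 0, nat_lit 2, nat_lit 0, nat_lit 1, nat_lit 0, nat_lit 1, nat_lit 0, nat_lit 2, nat_lit 0, nat_lit 2, nat_lit 0, nat_lit 1, nat_lit 0, nat_lit 1, nat_lit 0, nat_lit 2, nat_lit 0, nat_lit 2, nat_lit 0, nat_lit 1, nat_lit 0, nat_lit 1, nat_lit 0, nat_lit 2, nat_lit 0, nat_lit 2, nat_lit 0, nat_lit 1, nat_lit 0])) (.node (nat_lit 18) (.leaf [nat_lit 2, nat_lit 0, nat_lit 2, nat_lit 0, nat_lit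 1, nat_lit 0, nat_lit 2, nat_lit 0, nat_lit 2, nat_lit 0, nat_lit 1, nat_lit 0, nat_lit 2, nat_lit 0, nat_lit 2, nat_lit 0, nat_lit 1, nat_lit 0, nat_lit 1, nat_lit 0, nat_lit 2, nat_lit 0, nat_lit 1, nat_lit 0, nat_lit 1, nat_lit 0, nat_lit 2, nat_lit 0, nat_lit 1, nat_lit 0, nat_lit 1, nat_lit 0, nat_lit 2, nat_lit 0, nat_lit 1, nat_lit 0]) (.node (nat_lit 19) (.leaf [nat_lit 2, nat_lit 0, nat_lit 2, nat_lit 0, nat_lit 1, nat_lit 0, nat_lit 2, nat_lit 0, nat_lit 1, nat_lit 0, nat_lit 2, nat_lit 0, nat_lit 1, nat_lit 0, nat_lit 2, nat_lit 0, nat_lit 2, nat_lit 0, nat_lit 1, nat_lit 0, nat_lit 2, nat_lit 0, nat_lit 1, nat_lit 0, nat_lit 2, nat_lit 0, nat_lit 1, nat_lit 0, nat_lit 2, nat_lit 0, nat_lit 2, nat_lit 0, nat_lit 1, nat_lit 0, nat_lit 2, nat_lit 0, nat_lit 1, nat_lit 0, nat_lit 2, nat_lit 0, nat_lit 1, nat_lit 0, nat_lit 2, nat_lit 0, nat_lit 2, nat_lit 0, nat_lit 1, nat_lit 0, nat_lit 2, nat_lit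 0, nat_lit 1, nat_lit 0, nat_lit 2, nat_lit 0, nat_lit 1, nat_lit 0]) (.leaf [nat_lit 2, nat_lit 0, nat_lit 2, nat_lit 0, nat_lit 1, nat_lit 0, nat_lit 1, nat_lit 0, nat_lit 2, nat_lit 0, nat_lit 1, nat_lit 0, nat_lit 1, nat_lit 0, nat_lit 2, nat_lit 0, nat_lit 1, nat_lit 0, nat_lit 1, nat_lit 0, nat_lit 2, nat_lit 0, nat_lit 1, nat_lit 0, nat_lit 2, nat_lit 0, nat_lit 2, nat_lit 0, nat_lit 1, nat_lit 0, nat_lit 2, nat_lit 0, nat_lit 2, nat_lit 0, nat_lit 1, nat_lit 0])))))) (.node (nat_lit 30) (.node (nat_lit 25) (.node (nat_lit 22) (.node (nat_lit 21) (.leaf [nat_lit 0, nat_lit 2, nat_lit 0, nat_lit 2, nat_lit 0, nat_lit 2, nat_lit 0, nat_lit 2, nat_lit 0, nat_lit 2, nat_lit 0, nat_lit 2, nat_lit 0, nat_lit 2, nat_lit 0, nat_lit 2, nat_lit 0, nat_lit 2, nat_lit 0, nat_lit 2, nat_lit 0, nat_lit 2, nat_lit 0, nat_lit 2, nat_lit 0, nat_lit 2, nat_lit 0, nat_lit 2, nat_lit 0, nat_lit 2, nat_lit 0, nat_lit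 2, nat_lit 0, nat_lit 2, nat_lit 0, nat_lit 2, nat_lit 0, nat_lit 2, nat_lit 0, nat_lit 2, nat_lit 0, nat_lit 2, nat_lit 0, nat_lit 2, nat_lit 0, nat_lit 2]) (.leaf [nat_lit 1, nat_lit 0, nat_lit 1, nat_lit 0, nat_lit 2, nat_lit 0, nat_lit 1, nat_lit 0, nat_lit 1, nat_lit 0, nat_lit 2, nat_lit 0, nat_lit 1, nat_lit 0, nat_lit 2, nat_lit 0, nat_lit 2, nat_lit 0, nat_lit 1, nat_lit 0, nat_lit 2, nat_lit 0, nat_lit 2, nat_lit 0, nat_lit 1, nat_lit 0, nat_lit 2, nat_lit 0, nat_lit 2, nat_lit 0, nat_lit 1, nat_lit 0, nat_lit 1, nat_lit 0, nat_lit 2, nat_lit 0])) (.node (nat_lit 23) (.leaf [nat_lit 1, nat_lit 0, nat_lit 2, nat_lit 0, nat_lit 1, nat_lit 0, nat_lit 2, nat_lit 0, nat_lit 1, nat_lit 0, nat_lit 2, nat_lit 0, nat_lit 1, nat_lit 0, nat_lit 1, nat_lit 0, nat_lit 2, nat_lit 0, nat_lit 1, nat_lit 0, nat_lit 2, nat_lit 0, nat_lit 1, nat_lit 0, nat_lit 2, nat_lit 0, nat_lit 1, nat_lit 0, nat_lit 1, nat_lit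 0, nat_lit 2, nat_lit 0, nat_lit 1, nat_lit 0, nat_lit 2, nat_lit 0, nat_lit 1, nat_lit 0, nat_lit 2, nat_lit 0, nat_lit 1, nat_lit 0, nat_lit 1, nat_lit 0, nat_lit 2, nat_lit 0, nat_lit 1, nat_lit 0, nat_lit 2, nat_lit 0, nat_lit 1, nat_lit 0, nat_lit 2, nat_lit 0, nat_lit 1, nat_lit 0]) (.node (nat_lit 24) (.leaf [nat_lit 1, nat_lit 0, nat_lit 2, nat_lit 0, nat_lit 1, nat_lit 0, nat_lit 1, nat_lit 0, nat_lit 2, nat_lit 0, nat_lit 1, nat_lit 0, nat_lit 2, nat_lit 0, nat_lit 2, nat_lit 0, nat_lit 1, nat_lit 0, nat_lit 2, nat_lit 0, nat_lit 2, nat_lit 0, nat_lit 1, nat_lit 0, nat_lit 2, nat_lit 0, nat_lit 2, nat_lit 0, nat_lit 1, nat_lit 0, nat_lit 1, nat_lit 0, nat_lit 2, nat_lit 0, nat_lit 1, nat_lit 0]) (.leaf [nat_lit 0, nat_lit 1, nat_lit 0, nat_lit 1, nat_lit 0, nat_lit 1, nat_lit 0, nat_lit 1, nat_lit 0, nat_lit 1, nat_lit 0, nat_lit 1, nat_lit 0, nat_lit 1, nat_lit 0, nat_lit 1, nat_lit 0, nat_lit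 1, nat_lit 0, nat_lit 1, nat_lit 0, nat_lit 1, nat_lit 0, nat_lit 1, nat_lit 0, nat_lit 1, nat_lit 0, nat_lit 1, nat_lit 0, nat_lit 1, nat_lit 0, nat_lit 1, nat_lit 0, nat_lit 1, nat_lit 0, nat_lit 1, nat_lit 0, nat_lit 1, nat_lit 0, nat_lit 1, nat_lit 0, nat_lit 1, nat_lit 0, nat_lit 1, nat_lit 0, nat_lit 1])))) (.node (nat_lit 27) (.node (nat_lit 26) (.leaf [nat_lit 1, nat_lit 0, nat_lit 2, nat_lit 0, nat_lit 2, nat_lit 0, nat_lit 1, nat_lit 0, nat_lit 2, nat_lit 0, nat_lit 2, nat_lit 0, nat_lit 1, nat_lit 0, nat_lit 1, nat_lit 0, nat_lit 2, nat_lit 0, nat_lit 1, nat_lit 0, nat_lit 1, nat_lit 0, nat_lit 2, nat_lit 0, nat_lit 1, nat_lit 0, nat_lit 1, nat_lit 0, nat_lit 2, nat_lit 0, nat_lit 1, nat_lit 0, nat_lit 2, nat_lit 0, nat_lit 2, nat_lit 0]) (.leaf [nat_lit 0, nat_lit 2, nat_lit 0, nat_lit 1, nat_lit 0, nat_lit 2, nat_lit 0, nat_lit 1, nat_lit 0, nat_lit 2, nat_lit 0, nat_lit 1, nat_lit 0, nat_lit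 1, nat_lit 0, nat_lit 2, nat_lit 0, nat_lit 1, nat_lit 0, nat_lit 2, nat_lit 0, nat_lit 1, nat_lit 0, nat_lit 2, nat_lit 0, nat_lit 1, nat_lit 0, nat_lit 1, nat_lit 0, nat_lit 2, nat_lit 0, nat_lit 1, nat_lit 0, nat_lit 2, nat_lit 0, nat_lit 1, nat_lit 0, nat_lit 2, nat_lit 0, nat_lit 1, nat_lit 0, nat_lit 1, nat_lit 0, nat_lit 2, nat_lit 0, nat_lit 1, nat_lit 0, nat_lit 2, nat_lit 0, nat_lit 1, nat_lit 0, nat_lit 2, nat_lit 0, nat_lit 1, nat_lit 0, nat_lit 1])) (.node (nat_lit 28) (.leaf [nat_lit 2, nat_lit 0, nat_lit 1, nat_lit 0, nat_lit 2, nat_lit 0, nat_lit 1, nat_lit 0, nat_lit 2, nat_lit 0, nat_lit 1, nat_lit 0, nat_lit 2, nat_lit 0, nat_lit 1, nat_lit 0, nat_lit 2, nat_lit 0, nat_lit 1, nat_lit 0, nat_lit 2, nat_lit 0, nat_lit 1, nat_lit 0, nat_lit 2, nat_lit 0, nat_lit 1, nat_lit 0, nat_lit 2, nat_lit 0, nat_lit 1, nat_lit 0, nat_lit 2, nat_lit 0, nat_lit 1, nat_lit 0, nat_lit 2, nat_lit 0, nat_lit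 1, nat_lit 0, nat_lit 2, nat_lit 0, nat_lit 1, nat_lit 0, nat_lit 2, nat_lit 0, nat_lit 1, nat_lit 0]) (.node (nat_lit 29) (.leaf [nat_lit 2, nat_lit 0, nat_lit 1, nat_lit 0, nat_lit 2, nat_lit 0, nat_lit 2, nat_lit 0, nat_lit 1, nat_lit 0, nat_lit 2, nat_lit 0, nat_lit 1, nat_lit 0, nat_lit 2, nat_lit 0, nat_lit 1, nat_lit 0, nat_lit 2, nat_lit 0, nat_lit 2, nat_lit 0, nat_lit 1, nat_lit 0, nat_lit 2, nat_lit 0, nat_lit 1, nat_lit 0, nat_lit 2, nat_lit 0, nat_lit 1, nat_lit 0, nat_lit 2, nat_lit 0, nat_lit 2, nat_lit 0, nat_lit 1, nat_lit 0, nat_lit 2, nat_lit 0, nat_lit 1, nat_lit 0, nat_lit 2, nat_lit 0, nat_lit 1, nat_lit 0, nat_lit 2, nat_lit 0, nat_lit 2, nat_lit 0, nat_lit 1, nat_lit 0, nat_lit 2, nat_lit 0, nat_lit 1, nat_lit 0]) (.leaf [nat_lit 1, nat_lit 0, nat_lit 2, nat_lit 0, nat_lit 1, nat_lit 0, nat_lit 2, nat_lit 0, nat_lit 2, nat_lit 0, nat_lit 1, nat_lit 0, nat_lit 2, nat_lit 0, nat_lit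 2, nat_lit 0, nat_lit 1, nat_lit 0, nat_lit 2, nat_lit 0, nat_lit 2, nat_lit 0, nat_lit 1, nat_lit 0, nat_lit 1, nat_lit 0, nat_lit 2, nat_lit 0, nat_lit 1, nat_lit 0, nat_lit 1, nat_lit 0, nat_lit 2, nat_lit 0, nat_lit 1, nat_lit 0]))))) (.node (nat_lit 35) (.node (nat_lit 32) (.node (nat_lit 31) (.leaf [nat_lit 0, nat_lit 1, nat_lit 0, nat_lit 1, nat_lit 0, nat_lit 2, nat_lit 0, nat_lit 1, nat_lit 0, nat_lit 2, nat_lit 0, nat_lit 2, nat_lit 0, nat_lit 1, nat_lit 0, nat_lit 2, nat_lit 0, nat_lit 2, nat_lit 0, nat_lit 1, nat_lit 0, nat_lit 2, nat_lit 0, nat_lit 2, nat_lit 0, nat_lit 1, nat_lit 0, nat_lit 1, nat_lit 0, nat_lit 2, nat_lit 0, nat_lit 1, nat_lit 0, nat_lit 1, nat_lit 0, nat_lit 2]) (.leaf [nat_lit 0, nat_lit 2, nat_lit 0, nat_lit 1, nat_lit 0, nat_lit 2, nat_lit 0, nat_lit 2, nat_lit 0, nat_lit 1, nat_lit 0, nat_lit 2, nat_lit 0, nat_lit 2, nat_lit 0, nat_lit 1, nat_lit 0, nat_lit 2, nat_lit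 0, nat_lit 2, nat_lit 0, nat_lit 1, nat_lit 0, nat_lit 1, nat_lit 0, nat_lit 2, nat_lit 0, nat_lit 1, nat_lit 0, nat_lit 1, nat_lit 0, nat_lit 2, nat_lit 0, nat_lit 1, nat_lit 0, nat_lit 1])) (.node (nat_lit 33) (.leaf [nat_lit 0, nat_lit 1, nat_lit 0, nat_lit 2, nat_lit 0, nat_lit 2, nat_lit 0, nat_lit 1, nat_lit 0, nat_lit 2, nat_lit 0, nat_lit 2, nat_lit 0, nat_lit 1, nat_lit 0, nat_lit 1, nat_lit 0, nat_lit 2, nat_lit 0, nat_lit 1, nat_lit 0, nat_lit 1, nat_lit 0, nat_lit 2, nat_lit 0, nat_lit 1, nat_lit 0, nat_lit 1, nat_lit 0, nat_lit 2, nat_lit 0, nat_lit 1, nat_lit 0, nat_lit 2, nat_lit 0, nat_lit 2]) (.node (nat_lit 34) (.leaf [nat_lit 0, nat_lit 2, nat_lit 0, nat_lit 1, nat_lit 0, nat_lit 2, nat_lit 0, nat_lit 2, nat_lit 0, nat_lit 1, nat_lit 0, nat_lit 2, nat_lit 0, nat_lit 2, nat_lit 0, nat_lit 1, nat_lit 0, nat_lit 1, nat_lit 0, nat_lit 2, nat_lit 0, nat_lit 1, nat_lit 0, nat_lit 1, nat_lit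 0, nat_lit 2, nat_lit 0, nat_lit 1, nat_lit 0, nat_lit 1, nat_lit 0, nat_lit 2, nat_lit 0, nat_lit 1, nat_lit 0, nat_lit 2]) (.leaf [nat_lit 1, nat_lit 0, nat_lit 1, nat_lit 0, nat_lit 2, nat_lit 0, nat_lit 1, nat_lit 0, nat_lit 1, nat_lit 0, nat_lit 2, nat_lit 0, nat_lit 1, nat_lit 0, nat_lit 1, nat_lit 0, nat_lit 2, nat_lit 0, nat_lit 1, nat_lit 0, nat_lit 2, nat_lit 0, nat_lit 2, nat_lit 0, nat_lit 1, nat_lit 0, nat_lit 2, nat_lit 0, nat_lit 2, nat_lit 0, nat_lit 1, nat_lit 0, nat_lit 2, nat_lit 0, nat_lit 2, nat_lit 0])))) (.node (nat_lit 37) (.node (nat_lit 36) (.leaf [nat_lit 1, nat_lit 0, nat_lit 2, nat_lit 0, nat_lit 2, nat_lit 0, nat_lit 1, nat_lit 0, nat_lit 1, nat_lit 0, nat_lit 2, nat_lit 0, nat_lit 1, nat_lit 0, nat_lit 1, nat_lit 0, nat_lit 2, nat_lit 0, nat_lit 1, nat_lit 0, nat_lit 1, nat_lit 0, nat_lit 2, nat_lit 0, nat_lit 1, nat_lit 0, nat_lit 2, nat_lit 0, nat_lit 2, nat_lit 0, nat_lit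 1, nat_lit 0, nat_lit 2, nat_lit 0, nat_lit 2, nat_lit 0]) (.leaf [nat_lit 0, nat_lit 2, nat_lit 0, nat_lit 1, nat_lit 0, nat_lit 1, nat_lit 0, nat_lit 2, nat_lit 0, nat_lit 1, nat_lit 0, nat_lit 1, nat_lit 0, nat_lit 2, nat_lit 0, nat_lit 1, nat_lit 0, nat_lit 2, nat_lit 0, nat_lit 2, nat_lit 0, nat_lit 1, nat_lit 0, nat_lit 2, nat_lit 0, nat_lit 2, nat_lit 0, nat_lit 1, nat_lit 0, nat_lit 2, nat_lit 0, nat_lit 2, nat_lit 0, nat_lit 1, nat_lit 0, nat_lit 1])) (.node (nat_lit 38) (.leaf [nat_lit 0, nat_lit 1, nat_lit 0, nat_lit 2, nat_lit 0, nat_lit 1, nat_lit 0, nat_lit 1, nat_lit 0, nat_lit 2, nat_lit 0, nat_lit 1, nat_lit 0, nat_lit 1, nat_lit 0, nat_lit 2, nat_lit 0, nat_lit 1, nat_lit 0, nat_lit 2, nat_lit 0, nat_lit 2, nat_lit 0, nat_lit 1, nat_lit 0, nat_lit 2, nat_lit 0, nat_lit 2, nat_lit 0, nat_lit 1, nat_lit 0, nat_lit 2, nat_lit 0, nat_lit 2, nat_lit 0, nat_lit 1]) (.node (nat_lit 39) (.leaf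 [nat_lit 0, nat_lit 1, nat_lit 0, nat_lit 1, nat_lit 0, nat_lit 2, nat_lit 0, nat_lit 1, nat_lit 0, nat_lit 1, nat_lit 0, nat_lit 2, nat_lit 0, nat_lit 1, nat_lit 0, nat_lit 2, nat_lit 0, nat_lit 2, nat_lit 0, nat_lit 1, nat_lit 0, nat_lit 2, nat_lit 0, nat_lit 2, nat_lit 0, nat_lit 1, nat_lit 0, nat_lit 2, nat_lit 0, nat_lit 2, nat_lit 0, nat_lit 1, nat_lit 0, nat_lit 1, nat_lit 0, nat_lit 2]) (.leaf [nat_lit 0, nat_lit 1, nat_lit 0, nat_lit 1, nat_lit 0, nat_lit 2, nat_lit 0, nat_lit 1, nat_lit 0, nat_lit 1, nat_lit 0, nat_lit 2, nat_lit 0, nat_lit 1, nat_lit 0, nat_lit 1, nat_lit 0, nat_lit 2, nat_lit 0, nat_lit 1, nat_lit 0, nat_lit 2, nat_lit 0, nat_lit 2, nat_lit 0, nat_lit 1, nat_lit 0, nat_lit 2, nat_lit 0, nat_lit 2, nat_lit 0, nat_lit 1, nat_lit 0, nat_lit 2, nat_lit 0, nat_lit 2])))))))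
noncomputable def P : TCP where
  lk := lk
  inv := (invT (nat_lit 350091219072) (nat_lit 7))
  wt := wt.get
  gens := [nat_lit 0, nat_lit 1, nat_lit 2]
  N := nat_lit 307
  n := nat_lit 276
  eps := nat_lit 7
  VM := nat_lit 511
  Wv := nat_lit 9
  MAXB := nat_lit 32256
  JM := nat_lit 127
  Wj := nat_lit 7
  Hm := nat_lit 126
def ls : List Nat := [nat_lit 0, nat_lit 1, nat_lit 2, nat_lit 3, nat_lit 4, nat_lit 5, nat_lit 6, nat_lit 7]
def cl1 : Cl := (.gen (nat_lit 0) (.gen (nat_lit 1) (.gen (nat_lit 2) (.opt (nat_lit 3) (.opt (nat_lit 4) (.opt (nat_lit 5) (.opt (nat_lit 6) (.opt (nat_lit 7) .nil))))))))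
def cl2 : Cl := (.opt (nat_lit 0) (.opt (nat_lit 1) (.opt (nat_lit 2) (.opt (nat_lit 3) (.opt (nat_lit 4) (.opt (nat_lit 5) (.opt (nat_lit 6) (.opt (nat_lit 7) .nil))))))))
noncomputable def chk : ℕ → List ℕ → ℕ → Bool :=
  rows2 (nat_lit 276) (parOk P) (cols2 lk (nat_lit 32256) (nat_lit 276) (nat_lit 307) (ent1 (nat_lit 511) (nat_lit 127) (nat_lit 7) (decJ wt.get)
    (ent2 lk (nat_lit 511) (special P) (slowE lk (invT (nat_lit 350091219072) (nat_lit 7)) (nat_lit 307) (nat_lit 7) (nat_lit 511) (nat_lit 11))))) cl1 cl2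
theorem rg {x y : ℕ} (Js : List ℕ) (h : chk y Js x = true) : RowsGood P ls x y :=
  rowsGood_of2 (c1 := cl1) (c2 := cl2) (by decide +kernel) h
def bases : List (List Nat × Nat) := [([0], 2), ([1], 3), ([0, 1], 23), ([0, 2, 0, 1], 12), ([0, 2, 0, 2, 0, 1, 0, 1], 5), ([0, 1, 0, 1, 0, 2, 0, 1, 0, 2, 0, 1, 0, 2], 4), ([0, 1, 0, 1, 0, 2, 0, 1, 0, 1, 0, 2, 0, 1, 0, 1, 0, 2, 0, 1, 0, 2, 0, 2, 0, 1, 0, 2, 0, 2, 0, 1, 0, 2, 0, 2], 1), ([3, 0, 2, 0, 2, 0, 1, 0], 1), ([5, 0, 1, 0, 1, 0, 2, 0, 2, 0], 1)]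
noncomputable def j0 : List ℕ := nat_lit 0x20408101 :: nat_lit 0x4080 :: nat_lit 0x30001 :: nat_lit 0x10300 :: nat_lit 0x501 :: nat_lit 0x4080 :: nat_lit 0x308 :: nat_lit 0x38001 :: nat_lit 0x4080 :: nat_lit 0x301 :: nat_lit 0x38001 :: nat_lit 0x4080 :: nat_lit 0x4080 :: nat_lit 0x301 :: nat_lit 0x38001 :: nat_lit 0x301 :: nat_lit 0x38001 :: nat_lit 0x4080 :: nat_lit 0x4080 :: nat_lit 0x4080 :: nat_lit 0x4080 :: nat_lit 0x301 :: nat_lit 0x38001 :: nat_lit 0x301 :: nat_lit 0x38001 :: nat_lit 0x301 :: nat_lit 0x38001 :: nat_lit 0x622980068011f :: nat_lit 0x38001 :: nat_lit 0x4080 :: nat_lit 0x4300 :: nat_lit 0x4080 :: nat_lit 0x4080 :: nat_lit 0x4080 :: nat_lit 0x40300 :: nat_lit 0x4080 :: nat_lit 0x301 :: nat_lit 0x38001 :: nat_lit 0x38001 :: nat_lit 0x301 :: nat_lit 0x38001 :: nat_lit 0x301 :: nat_lit 0x38001 :: nat_lit 0x301 :: nat_lit 0x38001 :: nat_lit 0x301 :: nat_lit 0x38001 :: nat_lit 0x4080 :: nat_lit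 0x4080 :: nat_lit 0x4080 :: nat_lit 0x4080 :: nat_lit 0x4080 :: nat_lit 0x30900 :: nat_lit 0x4080 :: nat_lit 0x4080 :: nat_lit 0x4080 :: nat_lit 0x4080 :: nat_lit 0x4080 :: nat_lit 0x301 :: nat_lit 0x38001 :: nat_lit 0x301 :: nat_lit 0x38001 :: nat_lit 0x301 :: nat_lit 0x38001 :: nat_lit 0x314 :: nat_lit 0x38001 :: nat_lit 0x316 :: nat_lit 0x38001 :: nat_lit 0x301 :: nat_lit 0x38001 :: nat_lit 0x301 :: nat_lit 0x38001 :: nat_lit 0x301 :: nat_lit 0x38018 :: nat_lit 0x301 :: nat_lit 0x38001 :: nat_lit 0x301 :: nat_lit 0x38001 :: nat_lit 0x4080 :: nat_lit 0x4080 :: nat_lit 0x4080 :: nat_lit 0x4080 :: nat_lit 0x4080 :: nat_lit 0x4080 :: nat_lit 0x4080 :: nat_lit 0x4080 :: nat_lit 0x4080 :: nat_lit 0x4080 :: nat_lit 0x68300 :: nat_lit 0x4080 :: nat_lit 0x30900 :: nat_lit 0x4080 :: nat_lit 0x4080 :: nat_lit 0x4080 :: nat_lit 0x4080 :: nat_lit 0x301 :: nat_lit 0x38001 :: nat_lit 0x301 :: nat_lit 0x38001 :: nat_lit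 0x301 :: nat_lit 0x38001 :: nat_lit 0x301 :: nat_lit 0x38001 :: nat_lit 0x301 :: nat_lit 0x38001 :: nat_lit 0x301 :: nat_lit 0x38001 :: nat_lit 0x301 :: nat_lit 0x38001 :: nat_lit 0x301 :: nat_lit 0x38001 :: nat_lit 0x301 :: nat_lit 0x38001 :: nat_lit 0x301 :: nat_lit 0x38001 :: nat_lit 0x301 :: nat_lit 0x38001 :: nat_lit 0x301 :: nat_lit 0x38001 :: nat_lit 0x301 :: nat_lit 0x38001 :: nat_lit 0x301 :: nat_lit 0x38001 :: nat_lit 0x301 :: nat_lit 0x38001 :: nat_lit 0x4080 :: nat_lit 0x30080 :: nat_lit 0x918c0034008380 :: nat_lit 0x4080 :: nat_lit 0x919c0034008380 :: nat_lit 0x4080 :: nat_lit 0x611ac0034008380 :: nat_lit 0x4080 :: nat_lit 0x30080 :: nat_lit 0x11cc0034008691bc0034008380 :: nat_lit 0x4080 :: nat_lit 0x31000 :: nat_lit 0x4080 :: nat_lit 0x4080 :: nat_lit 0x30080 :: nat_lit 0x4080 :: nat_lit 0x8ee001a00434080 :: nat_lit 0x31100 :: nat_lit 0x8d6001a00434900 :: nat_lit 0x11fc0034008691ec0034008380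 :: nat_lit 0x30900 :: nat_lit 0x4080 :: nat_lit 0x121c00340086920c0034008380 :: nat_lit 0x123c00340086922c0034008380 :: nat_lit 0x4080 :: nat_lit 0x4080 :: nat_lit 0x4080 :: nat_lit 0x4080 :: nat_lit 0x31200 :: nat_lit 0x125c00340086924c0034008380 :: nat_lit 0x301 :: nat_lit 0x38001 :: nat_lit 0xa24d80068011f :: nat_lit 0x8c6001a00434001 :: nat_lit 0x301 :: nat_lit 0x70025180068011f :: nat_lit 0x8ce001a00434001 :: nat_lit 0x301 :: nat_lit 0x38001 :: nat_lit 0x301 :: nat_lit 0x38001 :: nat_lit 0x501 :: nat_lit 0x301 :: nat_lit 0x38001 :: nat_lit 0x301 :: nat_lit 0x38001 :: nat_lit 0x301 :: nat_lit 0x38001 :: nat_lit 0x501 :: nat_lit 0x625780068011f :: nat_lit 0x70025980068011f :: nat_lit 0x11dc0034008381 :: nat_lit 0x301 :: nat_lit 0x38001 :: nat_lit 0x301 :: nat_lit 0x38001 :: nat_lit 0x301 :: nat_lit 0x38001 :: nat_lit 0x301 :: nat_lit 0x38001 :: nat_lit 0x301 :: nat_lit 0x38001 :: nat_lit 0x4300 :: nat_lit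 0x930c0034008380 :: nat_lit 0x197c001a00434080 :: nat_lit 0x30080 :: nat_lit 0xb2d80034008380 :: nat_lit 0x612fc0034008380 :: nat_lit 0x96e001a00434300 :: nat_lit 0x330800340086b3080034008380 :: nat_lit 0x4080 :: nat_lit 0x38300 :: nat_lit 0xa8300 :: nat_lit 0x4080 :: nat_lit 0x932c0034008380 :: nat_lit 0x30300 :: nat_lit 0x98300 :: nat_lit 0x5800 :: nat_lit 0x4080 :: nat_lit 0x245000000000000000ee06ea4300 :: nat_lit 0x30300 :: nat_lit 0x4080 :: nat_lit 0x30300 :: nat_lit 0x4080 :: nat_lit 0x4080 :: nat_lit 0x1994001a00434300 :: nat_lit 0x30900 :: nat_lit 0xe9700 :: nat_lit 0x69f00 :: nat_lit 0x4080 :: nat_lit 0x38001 :: nat_lit 0x986001a00434001 :: nat_lit 0x501 :: nat_lit 0x501 :: nat_lit 0x38001 :: nat_lit 0x301 :: nat_lit 0x38001 :: nat_lit 0x31e :: nat_lit 0x38001 :: nat_lit 0x38040 :: nat_lit 0x38001 :: nat_lit 0x342 :: nat_lit 0x38001 :: nat_lit 0x301 :: nat_lit 0x3801e :: nat_lit 0x342 :: nat_lit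 0x38044 :: nat_lit 0x301 :: nat_lit 0x38001 :: nat_lit 0x301 :: nat_lit 0x38046 :: nat_lit 0x31900 :: nat_lit 0x30080 :: nat_lit 0x30900 :: nat_lit 0x4080 :: nat_lit 0x30300 :: nat_lit 0x31200 :: nat_lit 0x9a500 :: nat_lit 0x4080 :: nat_lit 0x4080 :: nat_lit 0x30080 :: nat_lit 0x4080 :: nat_lit 0x30900 :: nat_lit 0x32400 :: nat_lit 0x31100 :: nat_lit 0x501 :: nat_lit 0x301 :: nat_lit 0x38001 :: nat_lit 0x34c :: nat_lit 0x38001 :: nat_lit 0x301 :: nat_lit 0x38001 :: nat_lit 0x54e :: nat_lit 0x301 :: nat_lit 0x38001 :: nat_lit 0x32400 :: nat_lit 0x30900 :: nat_lit 0x4300 :: nat_lit 0x4080 :: nat_lit 0x30900 :: nat_lit 0x4080 :: nat_lit 0x30900 :: nat_lit 0x98300 :: nat_lit 0x3801e :: nat_lit 0x301 :: nat_lit 0x38050 :: nat_lit 0x301 :: nat_lit 0x38052 :: nat_lit 0x30080 :: nat_lit 0x32400 :: nat_lit 0x54e :: nat_lit 0x4570a4003000634080 :: nat_lit 0x45b08400300067c001 :: nat_lit 0x45f06400300061c080 :: nat_lit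 0x11480000000000000000000000000001e40e0e80 :: nat_lit 0x93e768006000cf808c47f80058008581 :: nat_lit 0x94e728006000cf808cc8180058008581 :: nat_lit 0x4ab34400300067c046a00034008581 :: nat_lit 0x23731a8006000c680 :: nat_lit 0x23931a8006000c380 :: nat_lit 0x23b3258006000c6c7600034008780 :: nat_lit 0x11e98cc003000634001 :: nat_lit 0x23f3198006000c380 :: nat_lit 0x25d9d600180033e00301 :: nat_lit 0x906938006000c6c8600034008780 :: nat_lit 0x12298c4003000634001 :: nat_lit 0x2473188006000c380 :: nat_lit 0x92eb08006000c380 :: nat_lit 0x4960000000000000000000000001940b96c9600034008780 :: nat_lit 0x24d32c8006000cf80 :: nat_lit 0x1188000000000000000000001640a1280 :: nat_lit 0x25132b8006000cf80 :: nat_lit 0x4c72bc00300061c080 :: nat_lit 0x11a8000000000000000000144091b80 :: nat_lit 0x4ae0000000000000000000144090980 :: nat_lit 0x4b2000000000000000000000000000001e40e1e80 :: nat_lit 0x8f6a18006000cfcb68f4908e515e22c448ad1c24748e8e115a224358550820c41281d03608c1583b09217c3b89f1863fc9e97b302514a38060408d980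 :: nat_lit 0x2410000011e8000000000000168090d80 :: nat_lit 0x48b4f400300067c91400000000000000000027811a7 :: nat_lit 0x984000000000000000000000000000003c81c390130979000b0010b :: nat_lit 0x466000000000000000000000001940b9a80 :: nat_lit 0x4ca0000000000000000000000001940b9a80 :: []
theorem c0 : RowsGood P ls 0 307 := rg j0 (by decide +kernel)
theorem f0 : RowsGood P ls 0 307 :=
  c0
theorem good : RowsGood P (List.range (P.eps + 1)) 0 P.N :=
  (f0 : RowsGood P ls 0 307)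
theorem idx {G : Type*} [Group G] {E : ℕ → G} {inv : ℕ → ℕ} (hi : ∀ l, E (inv l) = (E l)⁻¹)
    {B : List (List ℕ × ℕ)} (hB : ∀ p ∈ B, lprod E p.1 ^ p.2 = 1) (σ : List (List ℕ))
    {hs ks : List (List ℕ)} (hc : certOk P wt bases inv B σ hs ks = true) :
    (gp E hs).relIndex (gp E ks) ≠ 0 ∧ (gp E hs).relIndex (gp E ks) ≤ 276 :=
  tc_gp hi hB rfl (fun _ h => invT_of_le h) good σ hc

end Cfsg.Agent.H15.J4T5
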