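import Cfsg.Agent.H15.TC3
set_option autoImplicit false
set_option maxRecDepth 100000

namespace Cfsg.Agent.H15.L37T1
open Cfsg.Agent.H15 Cfsg.Agent.H14

noncomputable def t0_0 (_i : ℕ) : ℕ := (nat_lit 0x429554d90ebf00015fc004c493e00410a4290029f80fc07e03f01f800000851f49f80fc03aa084a014fc00000826b29413fe03f003b2009fe0000a3925d1fe00025f80fc0128bf000031c9287ff0039549b80491369970010e49613f80fc0004bf0099729b0010620b160087e0122ff800c910e000828f611003ff01f80fc07e007460031072c20565f80fc0003bf01f800010839527f80fc0003bf01f80454800441cb981537e00975f80fc0003800618b2cefe03f01f80005909bf000020c59a73f01f80005fe03f01f800018a25525f80fc00a7c013f8004b0004512a97fc00ce087c19610f80240042085877e0137a0081c98263f00003151fe02456cad6d6008db5edae0020873f0001c91344b9a44ca37180010435f8000d3e95d451af7181eb000a319fc034c00330aa8901c9213c00414afe0002ae17691b8c105cd220018853f00f2a9581e640291a17940010827f80009bead32912d6942294002392fc02e9cf3889b50bac4c0240051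88fe01b3a01174d4091d56caa0008c47f0109e5d49e70b2269c0088000623f808d7b060b2239d008987400a310fc03cb80210247cf24a8840005147fe0222800f81440960287ad002083bf0000e60900c1b58ca2697801441bf806478035b5ef2e6d6308c00820dfc0003664121e90d48824560051067e0274200c8d6b46494b2a10020833f0000c54a8c4d624b1b58b8010317f80005c09e04b2a1896c06400218bfc00c61c5042630598980160000c5fe0105202f385a09c016727002862bf001960052c5505208e54f8010315f8000500ba542e2834c8c5000a289fc000b4012da0415c278e34000144fe0184c39d0cb0254012b8e0028823f00dac00426a572ca9f5c48004411f805c8046d62e1185890020000208fc02a7c05811858d80209260040c3fe0000f124015a4a87350240020e1bf000060152e3873e4155d4801460bf80611801553eb89014ae5800a284fc000a0008627293009c04c0031427e0004ab961c3801070c30f001880ff0002465102140063901460010305f80001008d710b1360c046c004182fc000880420021030a2810e0010c17e0004001f102022861e0020020407f0000100f1874e3801d00e000c203f8000d80682180011018c34006208fc00064206b120042c5c0300050c3fe0002e007004ae3802c0150010407f0000800a000482010d182801060bf80002804c51a3050c09040002284fc0004800c2860878e1c008001101fe000220800080a3000a003002860bf00189001003c3040041450004203f80001803840600d0060004008080fc0000001600a003800840c0000007e002080010000000000000)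
noncomputable def blk (i : ℕ) : ℕ := (t0_0 i)
noncomputable def row (x : ℕ) : ℕ := frcN (Nat.shiftRight x (nat_lit 7)) fun b =>
  Nat.land (Nat.shiftRight (blk b) (Nat.mul (Nat.land x (nat_lit 127)) (nat_lit 117))) (nat_lit 0x1fffffffffffffffffffffffffffff)
noncomputable def lk (x l : ℕ) : ℕ :=
  Nat.land (Nat.shiftRight (row x) (Nat.mul l (nat_lit 13))) (nat_lit 8191)
noncomputable def ap (x l : ℕ) : ℕ :=
  Nat.land (Nat.shiftRight (row x) (Nat.mul l (nat_lit 13))) (nat_lit 127)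
noncomputable def wt : Wt := (.node (nat_lit 25) (.node (nat_lit 12) (.node (nat_lit 6) (.node (nat_lit 3) (.node (nat_lit 1) (.leaf [nat_lit 4, nat_lit 0, nat_lit 2, nat_lit 4, nat_lit 1, nat_lit 5, nat_lit 1]) (.node (nat_lit 2) (.leaf [nat_lit 5, nat_lit 4]) (.leaf [nat_lit 2, nat_lit 5, nat_lit 1, nat_lit 4, nat_lit 1, nat_lit 5, nat_lit 0]))) (.node (nat_lit 4) (.leaf [nat_lit 3, nat_lit 2]) (.node (nat_lit 5) (.leaf [nat_lit 1, nat_lit 5, nat_lit 0, nat_lit 2, nat_lit 5, nat_lit 1, nat_lit 4]) (.leaf [nat_lit 0, nat_lit 1])))) (.node (nat_lit 9) (.node (nat_lit 7) (.leaf [nat_lit 3, nat_lit 1, nat_lit 5, nat_lit 0, nat_lit 4, nat_lit 0, nat_lit 5]) (.node (nat_lit 8) (.leaf [nat_lit 2, nat_lit 3]) (.leaf [nat_lit 0, nat_lit 3, nat_lit 1, nat_lit 2]))) (.node (nat_lit 10) (.leaf [nat_lit 1, nat_lit 0]) (.node (nat_lit 11) (.leaf [nat_lit 4, nat_lit 1, nat_lit 4, nat_lit 0, nat_lit 4, nat_lit 2, nat_lit 5, nat_lit 3]) (.leaf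 [nat_lit 1, nat_lit 2, nat_lit 0, nat_lit 3]))))) (.node (nat_lit 18) (.node (nat_lit 15) (.node (nat_lit 13) (.leaf [nat_lit 2, nat_lit 2, nat_lit 1, nat_lit 1]) (.node (nat_lit 14) (.leaf [nat_lit 3, nat_lit 0, nat_lit 2, nat_lit 1]) (.leaf [nat_lit 2, nat_lit 1, nat_lit 1, nat_lit 2]))) (.node (nat_lit 16) (.leaf [nat_lit 1, nat_lit 1, nat_lit 2, nat_lit 2]) (.node (nat_lit 17) (.leaf [nat_lit 3, nat_lit 0, nat_lit 0, nat_lit 3]) (.leaf [nat_lit 0, nat_lit 0, nat_lit 3, nat_lit 3])))) (.node (nat_lit 21) (.node (nat_lit 19) (.leaf [nat_lit 2, nat_lit 1, nat_lit 3, nat_lit 0]) (.node (nat_lit 20) (.leaf [nat_lit 0, nat_lit 5, nat_lit 3, nat_lit 1, nat_lit 5, nat_lit 0, nat_lit 4]) (.leaf [nat_lit 1, nat_lit 5, nat_lit 0, nat_lit 5, nat_lit 2, nat_lit 4, nat_lit 3, nat_lit 5]))) (.node (nat_lit 23) (.node (nat_lit 22) (.leaf [nat_lit 4, nat_lit 1, nat_lit 5, nat_lit 0, nat_lit 2, nat_lit 5, nat_lit 1]) (.leaf [nat_lit 5, nat_lit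 1, nat_lit 4, nat_lit 0, nat_lit 2, nat_lit 4, nat_lit 1])) (.node (nat_lit 24) (.leaf [nat_lit 4, nat_lit 5]) (.leaf [nat_lit 1, nat_lit 5, nat_lit 0, nat_lit 4, nat_lit 0, nat_lit 5, nat_lit 3])))))) (.node (nat_lit 38) (.node (nat_lit 31) (.node (nat_lit 28) (.node (nat_lit 26) (.leaf [nat_lit 3, nat_lit 5, nat_lit 1, nat_lit 5, nat_lit 0, nat_lit 5, nat_lit 2, nat_lit 4]) (.node (nat_lit 27) (.leaf [nat_lit 5, nat_lit 1, nat_lit 5, nat_lit 0, nat_lit 5, nat_lit 2, nat_lit 4, nat_lit 3]) (.leaf [nat_lit 0, nat_lit 5, nat_lit 0, nat_lit 4, nat_lit 3, nat_lit 1, nat_lit 4]))) (.node (nat_lit 29) (.leaf [nat_lit 0, nat_lit 2, nat_lit 4, nat_lit 1, nat_lit 5, nat_lit 1, nat_lit 4]) (.node (nat_lit 30) (.leaf [nat_lit 1, nat_lit 4, nat_lit 0, nat_lit 4, nat_lit 2, nat_lit 5, nat_lit 3, nat_lit 4]) (.leaf [nat_lit 0, nat_lit 4, nat_lit 0, nat_lit 5, nat_lit 3, nat_lit 1, nat_lit 5])))) (.node (nat_lit 34) (.node (nat_lit 32) (.leaf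 [nat_lit 2, nat_lit 4, nat_lit 3, nat_lit 5, nat_lit 1, nat_lit 5, nat_lit 0, nat_lit 5]) (.node (nat_lit 33) (.leaf [nat_lit 3, nat_lit 3, nat_lit 0, nat_lit 0]) (.leaf [nat_lit 1, nat_lit 1, nat_lit 1, nat_lit 1, nat_lit 1, nat_lit 1]))) (.node (nat_lit 36) (.node (nat_lit 35) (.leaf [nat_lit 2, nat_lit 4, nat_lit 1, nat_lit 5, nat_lit 1, nat_lit 4, nat_lit 0]) (.leaf [nat_lit 1, nat_lit 4, nat_lit 0, nat_lit 2, nat_lit 4, nat_lit 1, nat_lit 5])) (.node (nat_lit 37) (.leaf [nat_lit 5, nat_lit 3, nat_lit 1, nat_lit 5, nat_lit 0, nat_lit 4, nat_lit 0]) (.leaf [nat_lit 0, nat_lit 4, nat_lit 2, nat_lit 5, nat_lit 3, nat_lit 4, nat_lit 1, nat_lit 4]))))) (.node (nat_lit 44) (.node (nat_lit 41) (.node (nat_lit 39) (.leaf [nat_lit 2, nat_lit 0, nat_lit 3, nat_lit 1]) (.node (nat_lit 40) (.leaf [nat_lit 5, nat_lit 1, nat_lit 4, nat_lit 1, nat_lit 5, nat_lit 0, nat_lit 2]) (.leaf [nat_lit 3, nat_lit 4, nat_lit 1, nat_lit 4, nat_lit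 0, nat_lit 4, nat_lit 2, nat_lit 5]))) (.node (nat_lit 42) (.leaf [nat_lit 1, nat_lit 2, nat_lit 2, nat_lit 1]) (.node (nat_lit 43) (.leaf [nat_lit 0, nat_lit 2, nat_lit 1, nat_lit 3]) (.leaf [nat_lit 0, nat_lit 5, nat_lit 2, nat_lit 4, nat_lit 3, nat_lit 5, nat_lit 1, nat_lit 5])))) (.node (nat_lit 47) (.node (nat_lit 45) (.leaf [nat_lit 1, nat_lit 3, nat_lit 0, nat_lit 2]) (.node (nat_lit 46) (.leaf [nat_lit 4, nat_lit 1, nat_lit 5, nat_lit 1, nat_lit 4, nat_lit 0, nat_lit 2]) (.leaf [nat_lit 4, nat_lit 0, nat_lit 5, nat_lit 0, nat_lit 4, nat_lit 3, nat_lit 1]))) (.node (nat_lit 49) (.node (nat_lit 48) (.leaf [nat_lit 3, nat_lit 1, nat_lit 4, nat_lit 0, nat_lit 5, nat_lit 0, nat_lit 4]) (.leaf [nat_lit 1, nat_lit 5, nat_lit 1, nat_lit 4, nat_lit 0, nat_lit 2, nat_lit 4])) (.node (nat_lit 50) (.leaf [nat_lit 2, nat_lit 5, nat_lit 3, nat_lit 4, nat_lit 1, nat_lit 4, nat_lit 0, nat_lit 4]) (.leaf [nat_lit 5, nat_lit 3, nat_lit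 4, nat_lit 1, nat_lit 4, nat_lit 0, nat_lit 4, nat_lit 2])))))))
noncomputable def P : TCP where
  lk := lk
  inv := (invT (nat_lit 4379389953) (nat_lit 6))
  wt := wt.get
  gens := [nat_lit 0, nat_lit 1, nat_lit 2, nat_lit 3, nat_lit 4, nat_lit 5]
  N := nat_lit 66
  n := nat_lit 49
  eps := nat_lit 6
  VM := nat_lit 127
  Wv := nat_lit 7
  MAXB := nat_lit 8064
  JM := nat_lit 127
  Wj := nat_lit 7
  Hm := nat_lit 15
def ls : List Nat := [nat_lit 0, nat_lit 1, nat_lit 2, nat_lit 3, nat_lit 4, nat_lit 5, nat_lit 6]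
def cl1 : Cl := (.gen (nat_lit 0) (.gen (nat_lit 1) (.gen (nat_lit 2) (.gen (nat_lit 3) (.gen (nat_lit 4) (.gen (nat_lit 5) (.opt (nat_lit 6) .nil)))))))
def cl2 : Cl := (.opt (nat_lit 0) (.opt (nat_lit 1) (.opt (nat_lit 2) (.opt (nat_lit 3) (.opt (nat_lit 4) (.opt (nat_lit 5) (.opt (nat_lit 6) .nil)))))))
noncomputable def chk : ℕ → List ℕ → ℕ → Bool :=
  rows2 (nat_lit 49) (parOk P) (cols2 lk (nat_lit 8064) (nat_lit 49) (nat_lit 66) (ent1 (nat_lit 127) (nat_lit 127) (nat_lit 7) (decJ wt.get)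
    (ent2 lk (nat_lit 127) (special P) (slowE lk (invT (nat_lit 4379389953) (nat_lit 6)) (nat_lit 66) (nat_lit 6) (nat_lit 127) (nat_lit 9))))) cl1 cl2
theorem rg {x y : ℕ} (Js : List ℕ) (h : chk y Js x = true) : RowsGood P ls x y :=
  rowsGood_of2 (c1 := cl1) (c2 := cl2) (by decide +kernel) h
def bases : List (List Nat × Nat) := [([0, 0, 3, 3], 1), ([0, 2, 1, 3], 1), ([0], 6), ([0, 2, 4, 1, 5, 1, 4], 1), ([0, 2, 5, 1, 4, 1, 5], 1), ([0, 4, 2, 5, 3, 4, 1, 4], 1)]
noncomputable def j0 : List ℕ := nat_lit 0x3010408102 :: nat_lit 0x1020408e :: nat_lit 0x811404080 :: nat_lit 0x300022008e :: nat_lit 0x840248080 :: nat_lit 0x812048b00 :: nat_lit 0x1144860e :: nat_lit 0x810048b14 :: nat_lit 0x400118e00160044c081 :: nat_lit 0x2606780058010b0032c002c008b81 :: nat_lit 0x811400d0e :: nat_lit 0x46b80058010b1a600160044c081 :: nat_lit 0x813c70b00 :: nat_lit 0x810081114 :: nat_lit 0x238c002c00858df000b0022636c002c008b8e :: nat_lit 0x4738005801334800b26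 :: nat_lit 0x4758005801334800d26 :: nat_lit 0x10028001b4002a00f0c081 :: nat_lit 0x7b800580107003cc002c00858ef000b00226047580058010f :: nat_lit 0x8c7000b0021648630001a0068c7d80058010f :: nat_lit 0x81800580133023f8000d003a2587f80058010f :: nat_lit 0x1e600160041c08a20e00160044c00e :: nat_lit 0x2ea000b0020eb86580058010b3833c002c008b80 :: nat_lit 0x9800750001a00694758005801131e600160045c7780058010f :: nat_lit 0x5b400160041d90a50006380058010f :: nat_lit 0x801448b0e :: nat_lit 0x11421f2a :: nat_lit 0xc018300058010b90b07980058010f :: nat_lit 0x180ad2000b002164800e :: nat_lit 0x60c852d6000b00226b58002c008b80 :: nat_lit 0x5e1448b14 :: nat_lit 0x2f2000b00266d86780058011320e00160045c6580058010f :: nat_lit 0x3001508b0e :: nat_lit 0x603c72b0e :: nat_lit 0x5cc00160041c00a24587b80058010f :: nat_lit 0xbd8002c0099812439c002c008b8e :: nat_lit 0x18100058010700bf8002c0085afe000b00226bf8002c008b8e :: nat_lit 0x13000ff000b0021620b40 :: nat_lit 0xd036c002c00998a10006b80058010f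 :: nat_lit 0x187d8005801334872300 :: nat_lit 0xc000a1fe00160044ee5a :: nat_lit 0x5f400160041c20a2437c002c008b80 :: nat_lit 0x642891607d00000a803cf :: nat_lit 0x18324801a0e :: nat_lit 0x32c448b2a :: nat_lit 0x300210a540 :: nat_lit 0x32c448b2a :: nat_lit 0x326d9b20e :: nat_lit 0x1c184800d26 :: nat_lit 0x839b8005000c7b18000005401cc8063000002600c258c2213000d801a3 :: nat_lit 0xca5e400280065d90a65000068019d65168dc3a050c800d8019a80 :: nat_lit 0xce5e400280062d9c328005000d2806700006801a7 :: nat_lit 0xd200003c011180 :: nat_lit 0x1ac9a2326800900122806b000068019b :: nat_lit 0xef13000a001976d0e8140e0911800d80198b680003400cf80 :: nat_lit 0x1e67e00140032601bc3a37000d80195 :: nat_lit 0x65978005000c3b88000005401dc80 :: nat_lit 0x732f600140031e01cc0000098033b :: nat_lit 0x1d4b28005000c58020c3c80001c007aaea00000150077eea0730000d0033d :: nat_lit 0x772ca00140032e01dcda75000d801d7770000680195 :: nat_lit 0xf22b088791589c007000e45e4000002a00e65e40001a0069403c80003400cdbc875000a001d9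 :: nat_lit 0xc71d000a0018700f61d40000d0034b :: nat_lit 0x1965e001400326fa000004c01a6be80003400d480 :: nat_lit 0xfe512b95496210f800fc01efbf8a46a001b0038afe000004c01a480 :: nat_lit 0x408000005401c680 :: nat_lit 0x832f200140031f06000004c01a9808300006801a3830000680195 :: []
theorem c0 : RowsGood P ls 0 66 := rg j0 (by decide +kernel)
theorem f0 : RowsGood P ls 0 66 :=
  c0
theorem good : RowsGood P (List.range (P.eps + 1)) 0 P.N :=
  (f0 : RowsGood P ls 0 66)
theorem idx {G : Type*} [Group G] {E : ℕ → G} {inv : ℕ → ℕ} (hi : ∀ l, E (inv l) = (E l)⁻¹)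
    {B : List (List ℕ × ℕ)} (hB : ∀ p ∈ B, lprod E p.1 ^ p.2 = 1) (σ : List (List ℕ))
    {hs ks : List (List ℕ)} (hc : certOk P wt bases inv B σ hs ks = true) :
    (gp E hs).relIndex (gp E ks) ≠ 0 ∧ (gp E hs).relIndex (gp E ks) ≤ 49 :=
  tc_gp hi hB rfl (fun _ h => invT_of_le h) good σ hc

end Cfsg.Agent.H15.L37T1
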