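import Cfsg.Agent.H15.TC3
set_option autoImplicit false
set_option maxRecDepth 100000

namespace Cfsg.Agent.H15.LyT1
open Cfsg.Agent.H15 Cfsg.Agent.H14

noncomputable def t0_0 (_i : ℕ) : ℕ := (nat_lit 0x23c5d4fc0031fc01fc0031f0615fc0030fc003d0022b7fc00372757bb77b000239fc07f87630392790021f6fc003605b2ba03a0012b7fc03677ba2b703700225efc001e03b0382f8002199fc00190396f6736000234fc02bb21f0347340021f0fc00306a87750350021affc002f0526f36b30012b1fc04ee66a23103100227dfc06145a40322720011affc06550341af02f002150fc00100330301f00022ecfc002c5325254a50012ecfc040e4203ac02c0022abfc002b02e02d3ed00226afc002a02c3292a9000226fc06b202b02626600221dfc001d24b2eb36b0001e7fc06f41960271670021a2fc00223b81a80280021c9fc00091972aa02a002161fc002104c4ee56e0001e3fc05f119a0231630031a2fc07ba0221a4024001161fc0023027121021002106fc000602502216200029ffc03ed1d101f25f00325efc027501e2a002000121dfc001f03721d01d0021dcfc001c02901e25e00019bfc024a01d01b1db003158fc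00b901821c01c000199fc01e41930191d9002158fc001803621a01a000103fc001b019003143000256fc01e61470161d6003215fc01e80152170170011d4fc0016670194014002193fc00136310151d5000152fc01da01401215200310ffc00b300f193013000150fc022010d01015000210ffc000f02f1910110000c2fc00120100020c200214dfc000d46d10e14e00010cfc015100e00c0cc0030c5fc00a500510d00d00320afc02a900a20b1cb0011c9fc000b21c189009002188fc000802600a1ca002147fc0007009104084000106fc01970080060c60020c5fc0005021107007000081fc000c006001041002103fc00030400c81480020c2fc0002004198018002081fc000100310f00f002040fc0000002085005000000fc0084001000000)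
noncomputable def blk (i : ℕ) : ℕ := (t0_0 i)
noncomputable def row (x : ℕ) : ℕ := frcN (Nat.shiftRight x (nat_lit 6)) fun b =>
  Nat.land (Nat.shiftRight (blk b) (Nat.mul (Nat.land x (nat_lit 63)) (nat_lit 84))) (nat_lit 0xfffffffffffffffffffff)
noncomputable def lk (x l : ℕ) : ℕ :=
  Nat.land (Nat.shiftRight (row x) (Nat.mul l (nat_lit 12))) (nat_lit 4095)
noncomputable def ap (x l : ℕ) : ℕ :=
  Nat.land (Nat.shiftRight (row x) (Nat.mul l (nat_lit 12))) (nat_lit 63)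
noncomputable def wt : Wt := (.node (nat_lit 8) (.node (nat_lit 4) (.node (nat_lit 2) (.node (nat_lit 1) (.leaf [nat_lit 2, nat_lit 2, nat_lit 2, nat_lit 2, nat_lit 2]) (.leaf [nat_lit 3, nat_lit 2])) (.node (nat_lit 3) (.leaf [nat_lit 0, nat_lit 3, nat_lit 1, nat_lit 1, nat_lit 2, nat_lit 0]) (.leaf [nat_lit 1, nat_lit 0]))) (.node (nat_lit 6) (.node (nat_lit 5) (.leaf [nat_lit 0, nat_lit 2, nat_lit 0, nat_lit 2, nat_lit 0, nat_lit 2, nat_lit 0, nat_lit 2]) (.leaf [nat_lit 1, nat_lit 1, nat_lit 3, nat_lit 0, nat_lit 0, nat_lit 2])) (.node (nat_lit 7) (.leaf [nat_lit 0, nat_lit 1]) (.leaf [nat_lit 1, nat_lit 3, nat_lit 0, nat_lit 0, nat_lit 2, nat_lit 1])))) (.node (nat_lit 12) (.node (nat_lit 10) (.node (nat_lit 9) (.leaf [nat_lit 0, nat_lit 2, nat_lit 1, nat_lit 3, nat_lit 0, nat_lit 2, nat_lit 1, nat_lit 3, nat_lit 0, nat_lit 2, nat_lit 1, nat_lit 3]) (.leaf [nat_lit 0, nat_lit 2, nat_lit 1, nat_lit 1, nat_lit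 3, nat_lit 0])) (.node (nat_lit 11) (.leaf [nat_lit 1, nat_lit 3, nat_lit 0, nat_lit 2, nat_lit 1, nat_lit 3, nat_lit 0, nat_lit 2, nat_lit 1, nat_lit 3, nat_lit 0, nat_lit 2]) (.leaf [nat_lit 2, nat_lit 0, nat_lit 2, nat_lit 0, nat_lit 2, nat_lit 0, nat_lit 2, nat_lit 0]))) (.node (nat_lit 14) (.node (nat_lit 13) (.leaf [nat_lit 2, nat_lit 1, nat_lit 3, nat_lit 0, nat_lit 2, nat_lit 1, nat_lit 3, nat_lit 0, nat_lit 2, nat_lit 1, nat_lit 3, nat_lit 0]) (.leaf [nat_lit 3, nat_lit 1, nat_lit 3, nat_lit 1, nat_lit 3, nat_lit 1, nat_lit 3, nat_lit 1])) (.node (nat_lit 15) (.leaf [nat_lit 2, nat_lit 3]) (.node (nat_lit 16) (.leaf [nat_lit 3, nat_lit 3, nat_lit 3, nat_lit 3, nat_lit 3]) (.leaf [nat_lit 3, nat_lit 0, nat_lit 2, nat_lit 1, nat_lit 3, nat_lit 0, nat_lit 2, nat_lit 1, nat_lit 3, nat_lit 0, nat_lit 2, nat_lit 1]))))))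
noncomputable def P : TCP where
  lk := lk
  inv := (invT (nat_lit 536577) (nat_lit 4))
  wt := wt.get
  gens := [nat_lit 0, nat_lit 1, nat_lit 2, nat_lit 3]
  N := nat_lit 62
  n := nat_lit 60
  eps := nat_lit 4
  VM := nat_lit 63
  Wv := nat_lit 6
  MAXB := nat_lit 4032
  JM := nat_lit 63
  Wj := nat_lit 6
  Hm := nat_lit 3
def ls : List Nat := [nat_lit 0, nat_lit 1, nat_lit 2, nat_lit 3, nat_lit 4]
def cl1 : Cl := (.gen (nat_lit 0) (.gen (nat_lit 1) (.gen (nat_lit 2) (.gen (nat_lit 3) (.opt (nat_lit 4) .nil)))))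
def cl2 : Cl := (.opt (nat_lit 0) (.opt (nat_lit 1) (.opt (nat_lit 2) (.opt (nat_lit 3) (.opt (nat_lit 4) .nil)))))
noncomputable def chk : ℕ → List ℕ → ℕ → Bool :=
  rows2 (nat_lit 60) (parOk P) (cols2 lk (nat_lit 4032) (nat_lit 60) (nat_lit 62) (ent1 (nat_lit 63) (nat_lit 63) (nat_lit 6) (decJ wt.get)
    (ent2 lk (nat_lit 63) (special P) (slowE lk (invT (nat_lit 536577) (nat_lit 4)) (nat_lit 62) (nat_lit 4) (nat_lit 63) (nat_lit 8))))) cl1 cl2
theorem rg {x y : ℕ} (Js : List ℕ) (h : chk y Js x = true) : RowsGood P ls x y :=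
  rowsGood_of2 (c1 := cl1) (c2 := cl2) (by decide +kernel) h
def bases : List (List Nat × Nat) := [([0], 8), ([2], 5), ([0, 2], 4), ([1, 1, 3, 0, 0, 2], 1), ([1, 3, 0, 2], 3)]
noncomputable def j0 : List ℕ := nat_lit 0x181082 :: nat_lit 0x1281 :: nat_lit 0x1281 :: nat_lit 0x1281 :: nat_lit 0x4290 :: nat_lit 0x41008 :: nat_lit 0x1281 :: nat_lit 0x181008 :: nat_lit 0x138c :: nat_lit 0x1050 :: nat_lit 0x5a480 :: nat_lit 0x180294 :: nat_lit 0x180281 :: nat_lit 0x181016 :: nat_lit 0x20610 :: nat_lit 0x41008 :: nat_lit 0x1281 :: nat_lit 0x19a008 :: nat_lit 0x180281 :: nat_lit 0x181016 :: nat_lit 0x7d8002800a1050 :: nat_lit 0x17c8002800a1480 :: nat_lit 0x180281 :: nat_lit 0x19c016 :: nat_lit 0x41016 :: nat_lit 0x1281 :: nat_lit 0x19a008 :: nat_lit 0x180281 :: nat_lit 0x181016 :: nat_lit 0x1050 :: nat_lit 0x41480 :: nat_lit 0x180281 :: nat_lit 0x79c016 :: nat_lit 0x1050 :: nat_lit 0x41480 :: nat_lit 0x180281 :: nat_lit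 0x19c016 :: nat_lit 0x4290 :: nat_lit 0x4281 :: nat_lit 0x20281 :: nat_lit 0x19a008 :: nat_lit 0x4290 :: nat_lit 0x181016 :: nat_lit 0x138c :: nat_lit 0x1050 :: nat_lit 0x8a0480 :: nat_lit 0x2038c :: nat_lit 0x1050 :: nat_lit 0xf3000a0021c1480 :: nat_lit 0xf7000a0021da050 :: nat_lit 0x3c8000001c00b95a00f600100054c0 :: nat_lit 0x428c :: nat_lit 0x4281 :: nat_lit 0x19a016 :: nat_lit 0x1610 :: nat_lit 0x1050 :: nat_lit 0x904480 :: nat_lit 0x4281 :: nat_lit 0x19a016 :: nat_lit 0x428c :: nat_lit 0x3dd48004800cb001 :: nat_lit 0x3db1a49a93800a0016304f20000400157 :: []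
theorem c0 : RowsGood P ls 0 62 := rg j0 (by decide +kernel)
theorem f0 : RowsGood P ls 0 62 :=
  c0
theorem good : RowsGood P (List.range (P.eps + 1)) 0 P.N :=
  (f0 : RowsGood P ls 0 62)
theorem idx {G : Type*} [Group G] {E : ℕ → G} {inv : ℕ → ℕ} (hi : ∀ l, E (inv l) = (E l)⁻¹)
    {B : List (List ℕ × ℕ)} (hB : ∀ p ∈ B, lprod E p.1 ^ p.2 = 1) (σ : List (List ℕ))
    {hs ks : List (List ℕ)} (hc : certOk P wt bases inv B σ hs ks = true) :
    (gp E hs).relIndex (gp E ks) ≠ 0 ∧ (gp E hs).relIndex (gp E ks) ≤ 60 :=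
  tc_gp hi hB rfl (fun _ h => invT_of_le h) good σ hc

end Cfsg.Agent.H15.LyT1
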