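import Cfsg.Agent.H15.TC3
set_option autoImplicit false
set_option maxRecDepth 100000

namespace Cfsg.Agent.H15.LyMc1
open Cfsg.Agent.H15 Cfsg.Agent.H14

noncomputable def t0_0 (_i : ℕ) : ℕ := (nat_lit 0x148246c90024fc03f00fc03f0015e0002209122efc03f0000901511cc863a00088235d08b4d04a40230543f00fc00001208dc26fc03f00fc03f0010a80230014822444402229fbf00fc03f0021b80042088f4efc00022fc0093429bff00000451e3527f00fc03f00fc0014a00780051475a250074a21fc03f0019fff00001451c4c5401cfc03f0021d3f0019a8002147082bfc03f000070148fc0032d000c41b6513f002934146006ff00fc000041065438fc000191ddff00fc03f00000841984dff00593c0190501e4818d80041061a31fc00018fc03f00fc0192900107164443f00005bf00fc0016e25ec0051c5541c0057f00fc03f00fc03f00001466938bc0692ca8d2f2cbff002de800419a500605b4069fc03f0025ec2710004512401ff00fc03f00fc03f0000480001449013fc03f00fc03f00004bf0000145114088011053bf00fc03f00fc0000414412160458010fc03f001ddff0000005073c4806f01bbf00fc00007044c0032567f00ad9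e8647590059a182b64000464bfc02c689d2e45fb99a75d012c005151ff00011eb5db59e05fb59ac660008541fc02546b194041ad8606295180051503f0001029687165e68a9a1a60000c53ffc02258a58416200fea47816c00214fff00b18ab6200fc263891a165000053ffc0284ba98ec65a90403f110c00514fbf0000f99599d828606d92968001483afc0003a98f2166959e35504f400520e3f0000e1e5b8d15f5b6935641000c733fc02245b19a03d00ce64ba19c0021ccbf009511c3e00ca55a8d019380014731fc000317d79e5e8516163711c00118aff007d29d49997243228b402b0014829fc0002969800687590a59256400020a7f008d8c3406cd0d4e00a5c310004828fc01e5770ac45288d5b3000a0004209ff003d240279d5a656995224c000c827fc022559150154009e13d917c002209ff008d4a555009c2558d327560008826fc0222c0d400267d29e4f78e40042093f00895002418d45572d38d2f000c824fc01e51752132e0091d5074b0003208ff00813c453610802310b1c510008822fc0215088dc02218e97397d4c0052087f000085122396103418bcc520008620fc018426910020251d9416d78003147ff0090f203b052c01f8d5a254000851ffc02961a19c01f09300679d74000147bf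008169a28814de260078e49000851dfc01056796801d1084e4a38780031473f007d21e5124ac01c78da237001041bfc00066006ca4d2081d5bad8c002106ff009994b46006da449996362000441bfc0235d710e05b9178144006c000106ff009171a4d6919a1b006c245001441afc0001a6d15e43750c5610cfc001106bf006135829608d8500cf801a0014419fc0001904fe961019575e69340031067f00019045888dc01918e245c0014418fc000180904063018844301840031063f000181d5c109401808684420010717fc01f2a005df33857425f89540031c5ff008d3275f04ec01794ce13b0008717fc01f2d853001708f223c84cc0041c57f00017c0151d3c5224cb8132000c715fc021391cd01380055f53613c0021c57f000179519005423969707400014614fc00014893e219890224888d80041853f0088d40141c7851a88ddf480004614fc0213684b23571d4813400500001853f0088d08394139c5800502350014613fc00013147c05d80f603b90f0004184ff00348c013956805c08e932e000c613fc0005b6c60130004dd586ca4002184ff0068b851d004c23168a1c570014512fc000123ca8f2f3cbcc521d380041447f006cc00114c913514cc933a000c511fc0203b087012c004492b2d68002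1447f008d4e035004422d79445500014510fc00010755c91c252005a24b40031443f0078f4f2f18580100c8dd26000c70ffc000596108128003db3101600021c3ff001499b4a003c229015d930001470efc0000e0158055015031f1c5c0041c3bf0018a000e7d2805374a9d23000470efc01b1d6c8431814f812400380001c3bf007090052014532e0038225001070dfc00c3200340506109d2610a80011c37f00484504e18e804f048400d000070dfc0004e6c945490c7400d08880051433f000030920251c04d2480820001440bfc0000b18cc04c012c417109c004102ff00203400b0c68836392404a000440bfc01b2518c0421012411c002c000102ff00505432d012092b002c21d001430afc0000a011da44011804501100040c2bf00010c00a18d841e010833e000430afc0004154e004088dc11800280000c2bf0000fdb3100f842500282190014608fc0000800f403c00ec827147c0011823f004c59210144072a04540080000608fc0151c00e803900e00080858002141ff0000dc036001c51200d40340004507fc0003300c803100c1012001c004101bf0000bc0061850407441d1130004406fc0112200b802d00b01100018000101bf0000ad31600a861600182110010605fc00709001402900a040f0c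3c0031817f00009c026043400500940240008605fc0091e008c00508380220084003100ff00008070c0424003143060c000c302fc0001f0078106000801d00700020807f00006c01a000440800640180008403fc0080f14240030830404080c004141ff00005c007142830100580150014406fc000060020512005001340480020c0bf00001c012000820b00440100014504fc00004003c00e00343020404000100ff0000143040c10404000c3090014302fc00002180c00c002430900100000807f00000c101002c00600042050014100fc000000808408002820500080000003f00000400000000000000000)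
noncomputable def blk (i : ℕ) : ℕ := (t0_0 i)
noncomputable def row (x : ℕ) : ℕ := frcN (Nat.shiftRight x (nat_lit 7)) fun b =>
  Nat.land (Nat.shiftRight (blk b) (Nat.mul (Nat.land x (nat_lit 127)) (nat_lit 126))) (nat_lit 0x3fffffffffffffffffffffffffffffff)
noncomputable def lk (x l : ℕ) : ℕ :=
  Nat.land (Nat.shiftRight (row x) (Nat.mul l (nat_lit 14))) (nat_lit 16383)
noncomputable def ap (x l : ℕ) : ℕ :=
  Nat.land (Nat.shiftRight (row x) (Nat.mul l (nat_lit 14))) (nat_lit 255)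
noncomputable def wt : Wt := (.node (nat_lit 34) (.node (nat_lit 17) (.node (nat_lit 8) (.node (nat_lit 4) (.node (nat_lit 2) (.node (nat_lit 1) (.leaf [nat_lit 4, nat_lit 5, nat_lit 0, nat_lit 4, nat_lit 5, nat_lit 0]) (.leaf [nat_lit 4, nat_lit 4])) (.node (nat_lit 3) (.leaf [nat_lit 0, nat_lit 5, nat_lit 0, nat_lit 5, nat_lit 0, nat_lit 5, nat_lit 0, nat_lit 5]) (.leaf [nat_lit 1, nat_lit 0]))) (.node (nat_lit 6) (.node (nat_lit 5) (.leaf [nat_lit 3, nat_lit 5, nat_lit 0, nat_lit 5, nat_lit 2, nat_lit 0, nat_lit 5, nat_lit 4, nat_lit 5, nat_lit 0]) (.leaf [nat_lit 2, nat_lit 3])) (.node (nat_lit 7) (.leaf [nat_lit 4, nat_lit 1, nat_lit 5, nat_lit 4, nat_lit 1, nat_lit 5]) (.leaf [nat_lit 0, nat_lit 0, nat_lit 0])))) (.node (nat_lit 12) (.node (nat_lit 10) (.node (nat_lit 9) (.leaf [nat_lit 2, nat_lit 5, nat_lit 4, nat_lit 2, nat_lit 5, nat_lit 4, nat_lit 2, nat_lit 5, nat_lit 4]) (.leaf [nat_lit 3, nat_lit 2])) (.node (nat_lit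 11) (.leaf [nat_lit 0, nat_lit 5, nat_lit 4, nat_lit 5, nat_lit 0, nat_lit 3, nat_lit 5, nat_lit 0, nat_lit 5, nat_lit 2]) (.leaf [nat_lit 4, nat_lit 0, nat_lit 2, nat_lit 1, nat_lit 3, nat_lit 4, nat_lit 1, nat_lit 2]))) (.node (nat_lit 14) (.node (nat_lit 13) (.leaf [nat_lit 4, nat_lit 1, nat_lit 4, nat_lit 1, nat_lit 4, nat_lit 1]) (.leaf [nat_lit 2, nat_lit 2, nat_lit 2])) (.node (nat_lit 15) (.leaf [nat_lit 3, nat_lit 3, nat_lit 3]) (.node (nat_lit 16) (.leaf [nat_lit 1, nat_lit 3, nat_lit 1, nat_lit 3, nat_lit 1, nat_lit 3]) (.leaf [nat_lit 0, nat_lit 1])))))) (.node (nat_lit 25) (.node (nat_lit 21) (.node (nat_lit 19) (.node (nat_lit 18) (.leaf [nat_lit 4, nat_lit 3, nat_lit 4, nat_lit 3, nat_lit 4, nat_lit 3]) (.leaf [nat_lit 0, nat_lit 4, nat_lit 0, nat_lit 4, nat_lit 0, nat_lit 4])) (.node (nat_lit 20) (.leaf [nat_lit 5, nat_lit 0, nat_lit 4, nat_lit 5, nat_lit 0, nat_lit 4]) (.leaf [nat_lit 5, nat_lit 5]))) (.node (nat_lit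 23) (.node (nat_lit 22) (.leaf [nat_lit 1, nat_lit 1, nat_lit 1]) (.leaf [nat_lit 2, nat_lit 4, nat_lit 2, nat_lit 4, nat_lit 2, nat_lit 4])) (.node (nat_lit 24) (.leaf [nat_lit 3, nat_lit 1, nat_lit 3, nat_lit 1, nat_lit 3, nat_lit 1]) (.leaf [nat_lit 3, nat_lit 4, nat_lit 3, nat_lit 4, nat_lit 3, nat_lit 4])))) (.node (nat_lit 29) (.node (nat_lit 27) (.node (nat_lit 26) (.leaf [nat_lit 5, nat_lit 3, nat_lit 4, nat_lit 5, nat_lit 3, nat_lit 4, nat_lit 5, nat_lit 3, nat_lit 4]) (.leaf [nat_lit 1, nat_lit 5, nat_lit 2, nat_lit 1, nat_lit 5, nat_lit 4, nat_lit 5, nat_lit 1, nat_lit 3, nat_lit 5])) (.node (nat_lit 28) (.leaf [nat_lit 0, nat_lit 5, nat_lit 2, nat_lit 0, nat_lit 5, nat_lit 4, nat_lit 5, nat_lit 0, nat_lit 3, nat_lit 5]) (.leaf [nat_lit 4, nat_lit 5, nat_lit 0, nat_lit 3, nat_lit 5, nat_lit 0, nat_lit 5, nat_lit 2, nat_lit 0, nat_lit 5]))) (.node (nat_lit 31) (.node (nat_lit 30) (.leaf [nat_lit 2, nat_lit 0, nat_lit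 2, nat_lit 0, nat_lit 2, nat_lit 0]) (.leaf [nat_lit 5, nat_lit 4, nat_lit 2, nat_lit 5, nat_lit 4, nat_lit 2, nat_lit 5, nat_lit 4, nat_lit 2])) (.node (nat_lit 32) (.leaf [nat_lit 1, nat_lit 4, nat_lit 3, nat_lit 0, nat_lit 4, nat_lit 2, nat_lit 0, nat_lit 3]) (.node (nat_lit 33) (.leaf [nat_lit 4, nat_lit 1, nat_lit 2, nat_lit 4, nat_lit 0, nat_lit 2, nat_lit 1, nat_lit 3]) (.leaf [nat_lit 2, nat_lit 0, nat_lit 3, nat_lit 1, nat_lit 4, nat_lit 3, nat_lit 0, nat_lit 4]))))))) (.node (nat_lit 51) (.node (nat_lit 42) (.node (nat_lit 38) (.node (nat_lit 36) (.node (nat_lit 35) (.leaf [nat_lit 1, nat_lit 4, nat_lit 1, nat_lit 4, nat_lit 1, nat_lit 4]) (.leaf [nat_lit 0, nat_lit 2, nat_lit 0, nat_lit 2, nat_lit 0, nat_lit 2])) (.node (nat_lit 37) (.leaf [nat_lit 4, nat_lit 5, nat_lit 1, nat_lit 3, nat_lit 5, nat_lit 1, nat_lit 5, nat_lit 2, nat_lit 1, nat_lit 5]) (.leaf [nat_lit 0, nat_lit 4, nat_lit 5, nat_lit 0, nat_lit 4, nat_lit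 5]))) (.node (nat_lit 40) (.node (nat_lit 39) (.leaf [nat_lit 5, nat_lit 4, nat_lit 1, nat_lit 5, nat_lit 4, nat_lit 1]) (.leaf [nat_lit 3, nat_lit 0, nat_lit 4, nat_lit 2, nat_lit 0, nat_lit 3, nat_lit 1, nat_lit 4])) (.node (nat_lit 41) (.leaf [nat_lit 2, nat_lit 0, nat_lit 5, nat_lit 4, nat_lit 5, nat_lit 0, nat_lit 3, nat_lit 5, nat_lit 0, nat_lit 5]) (.leaf [nat_lit 1, nat_lit 5, nat_lit 4, nat_lit 1, nat_lit 5, nat_lit 4])))) (.node (nat_lit 46) (.node (nat_lit 44) (.node (nat_lit 43) (.leaf [nat_lit 4, nat_lit 2, nat_lit 4, nat_lit 2, nat_lit 4, nat_lit 2]) (.leaf [nat_lit 4, nat_lit 0, nat_lit 4, nat_lit 0, nat_lit 4, nat_lit 0])) (.node (nat_lit 45) (.leaf [nat_lit 3, nat_lit 5, nat_lit 1, nat_lit 5, nat_lit 2, nat_lit 1, nat_lit 5, nat_lit 4, nat_lit 5, nat_lit 1]) (.leaf [nat_lit 0, nat_lit 3, nat_lit 1, nat_lit 4, nat_lit 3, nat_lit 0, nat_lit 4, nat_lit 2]))) (.node (nat_lit 48) (.node (nat_lit 47) (.leaf [nat_lit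 1, nat_lit 5, nat_lit 1, nat_lit 5, nat_lit 1, nat_lit 5, nat_lit 1, nat_lit 5]) (.leaf [nat_lit 0, nat_lit 4, nat_lit 2, nat_lit 0, nat_lit 3, nat_lit 1, nat_lit 4, nat_lit 3])) (.node (nat_lit 49) (.leaf [nat_lit 5, nat_lit 4, nat_lit 5, nat_lit 0, nat_lit 3, nat_lit 5, nat_lit 0, nat_lit 5, nat_lit 2, nat_lit 0]) (.node (nat_lit 50) (.leaf [nat_lit 2, nat_lit 1, nat_lit 3, nat_lit 4, nat_lit 1, nat_lit 2, nat_lit 4, nat_lit 0]) (.leaf [nat_lit 3, nat_lit 4, nat_lit 5, nat_lit 3, nat_lit 4, nat_lit 5, nat_lit 3, nat_lit 4, nat_lit 5])))))) (.node (nat_lit 60) (.node (nat_lit 55) (.node (nat_lit 53) (.node (nat_lit 52) (.leaf [nat_lit 5, nat_lit 4, nat_lit 5, nat_lit 1, nat_lit 3, nat_lit 5, nat_lit 1, nat_lit 5, nat_lit 2, nat_lit 1]) (.leaf [nat_lit 4, nat_lit 2, nat_lit 0, nat_lit 3, nat_lit 1, nat_lit 4, nat_lit 3, nat_lit 0])) (.node (nat_lit 54) (.leaf [nat_lit 1, nat_lit 2, nat_lit 4, nat_lit 0, nat_lit 2, nat_lit 1, nat_lit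 3, nat_lit 4]) (.leaf [nat_lit 5, nat_lit 0, nat_lit 3, nat_lit 5, nat_lit 0, nat_lit 5, nat_lit 2, nat_lit 0, nat_lit 5, nat_lit 4]))) (.node (nat_lit 57) (.node (nat_lit 56) (.leaf [nat_lit 5, nat_lit 2, nat_lit 1, nat_lit 5, nat_lit 4, nat_lit 5, nat_lit 1, nat_lit 3, nat_lit 5, nat_lit 1]) (.leaf [nat_lit 1, nat_lit 3, nat_lit 4, nat_lit 1, nat_lit 2, nat_lit 4, nat_lit 0, nat_lit 2])) (.node (nat_lit 58) (.leaf [nat_lit 5, nat_lit 1, nat_lit 3, nat_lit 5, nat_lit 1, nat_lit 5, nat_lit 2, nat_lit 1, nat_lit 5, nat_lit 4]) (.node (nat_lit 59) (.leaf [nat_lit 5, nat_lit 1, nat_lit 5, nat_lit 2, nat_lit 1, nat_lit 5, nat_lit 4, nat_lit 5, nat_lit 1, nat_lit 3]) (.leaf [nat_lit 0, nat_lit 2, nat_lit 1, nat_lit 3, nat_lit 4, nat_lit 1, nat_lit 2, nat_lit 4]))))) (.node (nat_lit 64) (.node (nat_lit 62) (.node (nat_lit 61) (.leaf [nat_lit 3, nat_lit 4, nat_lit 1, nat_lit 2, nat_lit 4, nat_lit 0, nat_lit 2, nat_lit 1]) (.leaf [nat_lit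 2, nat_lit 4, nat_lit 0, nat_lit 2, nat_lit 1, nat_lit 3, nat_lit 4, nat_lit 1])) (.node (nat_lit 63) (.leaf [nat_lit 4, nat_lit 3, nat_lit 0, nat_lit 4, nat_lit 2, nat_lit 0, nat_lit 3, nat_lit 1]) (.leaf [nat_lit 5, nat_lit 1, nat_lit 5, nat_lit 1, nat_lit 5, nat_lit 1, nat_lit 5, nat_lit 1]))) (.node (nat_lit 66) (.node (nat_lit 65) (.leaf [nat_lit 3, nat_lit 1, nat_lit 4, nat_lit 3, nat_lit 0, nat_lit 4, nat_lit 2, nat_lit 0]) (.leaf [nat_lit 5, nat_lit 0, nat_lit 5, nat_lit 2, nat_lit 0, nat_lit 5, nat_lit 4, nat_lit 5, nat_lit 0, nat_lit 3])) (.node (nat_lit 67) (.leaf [nat_lit 1, nat_lit 3, nat_lit 5, nat_lit 1, nat_lit 5, nat_lit 2, nat_lit 1, nat_lit 5, nat_lit 4, nat_lit 5]) (.node (nat_lit 68) (.leaf [nat_lit 5, nat_lit 0, nat_lit 5, nat_lit 0, nat_lit 5, nat_lit 0, nat_lit 5, nat_lit 0]) (.leaf [nat_lit 4, nat_lit 5, nat_lit 3, nat_lit 4, nat_lit 5, nat_lit 3, nat_lit 4, nat_lit 5, nat_lit 3]))))))))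
noncomputable def P : TCP where
  lk := lk
  inv := (invT (nat_lit 5436354561) (nat_lit 6))
  wt := wt.get
  gens := [nat_lit 0, nat_lit 1, nat_lit 2, nat_lit 3, nat_lit 4, nat_lit 5]
  N := nat_lit 128
  n := nat_lit 105
  eps := nat_lit 6
  VM := nat_lit 255
  Wv := nat_lit 8
  MAXB := nat_lit 16128
  JM := nat_lit 255
  Wj := nat_lit 8
  Hm := nat_lit 31
def ls : List Nat := [nat_lit 0, nat_lit 1, nat_lit 2, nat_lit 3, nat_lit 4, nat_lit 5, nat_lit 6]
def cl1 : Cl := (.gen (nat_lit 0) (.gen (nat_lit 1) (.gen (nat_lit 2) (.gen (nat_lit 3) (.gen (nat_lit 4) (.gen (nat_lit 5) (.opt (nat_lit 6) .nil)))))))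
def cl2 : Cl := (.opt (nat_lit 0) (.opt (nat_lit 1) (.opt (nat_lit 2) (.opt (nat_lit 3) (.opt (nat_lit 4) (.opt (nat_lit 5) (.opt (nat_lit 6) .nil)))))))
noncomputable def chk : ℕ → List ℕ → ℕ → Bool :=
  rows2 (nat_lit 105) (parOk P) (cols2 lk (nat_lit 16128) (nat_lit 105) (nat_lit 128) (ent1 (nat_lit 255) (nat_lit 255) (nat_lit 8) (decJ wt.get)
    (ent2 lk (nat_lit 255) (special P) (slowE lk (invT (nat_lit 5436354561) (nat_lit 6)) (nat_lit 128) (nat_lit 6) (nat_lit 255) (nat_lit 10))))) cl1 cl2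
theorem rg {x y : ℕ} (Js : List ℕ) (h : chk y Js x = true) : RowsGood P ls x y :=
  rowsGood_of2 (c1 := cl1) (c2 := cl2) (by decide +kernel) h
def bases : List (List Nat × Nat) := [([4, 4], 1), ([5, 5], 1), ([0], 3), ([2], 3), ([0, 2], 3), ([0, 4], 3), ([2, 4], 3), ([0, 2, 1, 3, 4, 1, 2, 4], 1), ([0, 4, 5], 2), ([0, 5], 4), ([2, 5, 4], 3), ([0, 3, 5, 0, 5, 2, 0, 5, 4, 5], 1)]
noncomputable def j0 : List ℕ := nat_lit 0x10202020202 :: nat_lit 0x616010a01 :: nat_lit 0x10401010012 :: nat_lit 0x1c01010a01 :: nat_lit 0x1100c0e0012 :: nat_lit 0x101010a08 :: nat_lit 0x101000e0101 :: nat_lit 0x11601011a7000c00225 :: nat_lit 0x10016140101 :: nat_lit 0x2c1a000e0a18 :: nat_lit 0x101001e0101 :: nat_lit 0x10120000101 :: nat_lit 0x12620002224 :: nat_lit 0x2c01000e0101 :: nat_lit 0x10120000101 :: nat_lit 0x2a0001010a28 :: nat_lit 0x11ab000c00207010e0024 :: nat_lit 0x1af000c0022d0101012e00 :: nat_lit 0x10016301b7000c0020b1b3000c00225 :: nat_lit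 0x10101011a7000c0020b00 :: nat_lit 0x101001e0101 :: nat_lit 0x1c3000c0022d0101010024 :: nat_lit 0x1ab000c0022d1c7000c00207320e2e00 :: nat_lit 0x101010a24 :: nat_lit 0x11cb000c00207010e0024 :: nat_lit 0x11d3000c00207011cf000c0020f2e00 :: nat_lit 0x100160e0124 :: nat_lit 0x11d7000c00217010101 :: nat_lit 0x1df000c0022d06011db000c0020f0024 :: nat_lit 0x1e3000c0022d0616012e00 :: nat_lit 0x3600340e1e7000c0020b01 :: nat_lit 0x601013824 :: nat_lit 0x3c16010a3a :: nat_lit 0x11e3000c00207163e0024 :: nat_lit 0x1ef000c0022d1eb000c0020716012e00 :: nat_lit 0x69800120055100011f7000c0020f1f3000c0020b24 :: nat_lit 0x1ff000c0022d01011fb000c0020f0024 :: nat_lit 0x5e2000c0022d5e2000c00207320e2e00 :: nat_lit 0x2c0016015f2000c0020b5f2000c00225 :: nat_lit 0x10101383a :: nat_lit 0x4006000e0162 :: nat_lit 0x11f7000c0020720001cb000c0020b01 :: nat_lit 0x501bf000c002072000421f3000c00225 :: nat_lit 0x65da000c002175da000c0020f015da000c00225 :: nat_lit 0x2c5a000e0a24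 :: nat_lit 0x2c4420001db000c0020b24 :: nat_lit 0x2c005fa000c002175fa000c0020f5fa000c0020b5fa000c00225 :: nat_lit 0x5be000c002071bf000c002171bf000c0020f2e24 :: nat_lit 0x641a000e0a24 :: nat_lit 0x15ca000c0020720000a5ca000c00225 :: nat_lit 0x2c0016010a1fb000c00225 :: nat_lit 0x10010e563a :: nat_lit 0x64061eb000c002170e0024 :: nat_lit 0x2a06160e2e00 :: nat_lit 0x2c0034301cf000c0020b24 :: nat_lit 0x5ce000c002075ce000c002175ce000c0020f5ce000c0020b5ce000c00225 :: nat_lit 0x15d2000c00207000e0a24 :: nat_lit 0x724420000a24 :: nat_lit 0x10016461fb000c0020b28 :: nat_lit 0x4006000e0a24 :: nat_lit 0x6a0620000a18 :: nat_lit 0x2c00680e0a24 :: nat_lit 0x10620004224 :: nat_lit 0x601010a01 :: nat_lit 0x1061cf000c00217002224 :: nat_lit 0x4c0c010a24 :: nat_lit 0x5f6000c0022d5f6000c002075f6000c002175f6000c0020f2e00 :: nat_lit 0x1c16540a4e :: nat_lit 0x765d6000c002075d6000c002175d6000c0020f0024 :: nat_lit 0x2c067c0e2e00 :: nat_lit 0xb07580001200527001d7000c0020f0a24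 :: nat_lit 0x10016140a24 :: nat_lit 0x1ce001a00971061db000c00217006e1cf000c00225 :: nat_lit 0x2c06001e5e6000c0020b5e6000c00225 :: nat_lit 0x2c5a1666001e7000c00225 :: nat_lit 0x2c06000e0124 :: nat_lit 0x2c2620000a7a :: nat_lit 0x1f7000c0022d1d7000c00207001e6024 :: nat_lit 0x1af000c00207165ea000c0020f3824 :: nat_lit 0xb073c00300081c0078738000120054924 :: nat_lit 0x1ce001200551061f7000c0021700225e :: nat_lit 0x406c1fb000c00217000a12 :: nat_lit 0x1c8014838078800120055724 :: nat_lit 0x7658001e744a :: nat_lit 0x2c06000e0a24 :: nat_lit 0x780420002224 :: nat_lit 0x2a0016304828 :: nat_lit 0x82807c7e2e00 :: nat_lit 0x2c6c843e0012 :: nat_lit 0x6010e0a3a :: nat_lit 0x501c167e2e00 :: nat_lit 0x6320e0a4e :: nat_lit 0x2c58001e744a :: nat_lit 0x860620002224 :: nat_lit 0x3c680e884e :: nat_lit 0x10160e604e :: nat_lit 0x10680e0a24 :: nat_lit 0x8a06160e0012 :: nat_lit 0x4058000e7424 :: nat_lit 0x868c20002262 :: nat_lit 0x6680e6e4e :: nat_lit 0x4058001e744a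 :: nat_lit 0x1034540a08 :: nat_lit 0x2c80320e2e00 :: nat_lit 0x862620002224 :: nat_lit 0x6fcbe00160032d0101006981e001400213 :: nat_lit 0x6a9718005800c1daa0000120052b000a :: nat_lit 0x6b97a8005800c1c01ae1181a0280e048160d886005a0094d :: nat_lit 0x1b25a600160030b00 :: nat_lit 0x1b65a600160032500 :: nat_lit 0x1a7128005800c1c698000120052b000a24 :: nat_lit 0x6f86f8005800c7c007a8000120051d1ea000048014cc69801e2000220095524 :: nat_lit 0x1c25de00160032d00 :: nat_lit 0x1bb068005800c2c01c60000120054912 :: nat_lit 0x1ca2983e0f8a230800f0018cc01ca1882a1a90a003200529 :: nat_lit 0x1ce000000070029c5ce00001200559007386600140021f73902388563a8ba518011801d0dce0000120054b :: nat_lit 0x1df158005800c5c01d2000001600753 :: nat_lit 0x1d600000500195dd61b91e20882003200527758000c0022100 :: nat_lit 0x1da01aa000700194401da1c800500087dda0000120054b :: nat_lit 0x1ab168005800c940039de000001600709 :: nat_lit 0x1e200000500193c01e2000012005110a :: nat_lit 0x7987a0d88e1fa1fe78876005400a5d798000c0022f00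 :: nat_lit 0x6fcbe00160030b007a8000048014c5ea00001200557 :: nat_lit 0x1ee5ae00160032d001c60000480156dee000001600709 :: nat_lit 0x7c80000140061d7c8000c0022f00 :: nat_lit 0x1f600738000800217df6000758008002105f600001200559007d88e00140021f :: nat_lit 0x1ef118005800c1c01fa24800500087dfa3a80050008bdfa0000120054b :: nat_lit 0x1e3258005800c9401fe000001600709 :: []
theorem c0 : RowsGood P ls 0 128 := rg j0 (by decide +kernel)
theorem f0 : RowsGood P ls 0 128 :=
  c0
theorem good : RowsGood P (List.range (P.eps + 1)) 0 P.N :=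
  (f0 : RowsGood P ls 0 128)
theorem idx {G : Type*} [Group G] {E : ℕ → G} {inv : ℕ → ℕ} (hi : ∀ l, E (inv l) = (E l)⁻¹)
    {B : List (List ℕ × ℕ)} (hB : ∀ p ∈ B, lprod E p.1 ^ p.2 = 1) (σ : List (List ℕ))
    {hs ks : List (List ℕ)} (hc : certOk P wt bases inv B σ hs ks = true) :
    (gp E hs).relIndex (gp E ks) ≠ 0 ∧ (gp E hs).relIndex (gp E ks) ≤ 105 :=
  tc_gp hi hB rfl (fun _ h => invT_of_le h) good σ hc

end Cfsg.Agent.H15.LyMc1
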