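import Cfsg.Agent.H15.ON.P0
import Cfsg.Agent.H15.ON.P1
import Cfsg.Agent.H15.ON.R0
import Cfsg.Agent.H15.ON.R1
import Cfsg.Agent.H15.ON.R2
import Cfsg.Agent.H15.ON.R3
import Cfsg.Agent.H15.ON.R4
import Cfsg.Agent.H15.ON.R5
import Cfsg.Agent.H15.ON.R6
import Cfsg.Agent.H15.ON.R7
set_option autoImplicit false
set_option maxRecDepth 100000

namespace Cfsg.Agent.H15.ON
open Cfsg.Agent.H15 Cfsg.Agent.H14

theorem hperm : RAll (permAt ONa.ap D.inv 122760 D.L) 0 122760 :=
  (RAll.append hperm_f0 hperm_f1)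
theorem hrel : RAll (relsAt ONa.ap D.B) 0 122760 :=
  (RAll.append (RAll.append (RAll.append hrel_f0 hrel_f1) (RAll.append hrel_f2 hrel_f3)) (RAll.append (RAll.append hrel_f4 hrel_f5) (RAll.append hrel_f6 hrel_f7)))
theorem pok : PermOk ONa.ap D.inv 122760 D.L := good.permOk (by norm_num) hperm
noncomputable def φ : G →* Equiv.Perm (Fin 122760) := (good.exists_perm_hom pok hrel).choose
theorem φ_spec : ∀ l < D.L, φ (E l) = pok.perm l := (good.exists_perm_hom pok hrel).choose_spec
noncomputable def A0 : TabAct G (Via φ) := pok.tab.via φ E φ_spec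
def all : List (List ℕ) := [[0], [1], [2], [3], [4], [5], [6], [7]]
def hs : List (List ℕ) := [[0], [1], [2], [3], [4], [5]]
theorem top : gp E all = ⊤ := good.gp_top (by decide +kernel)
theorem idx_le : (gp E hs).index ≠ 0 ∧ (gp E hs).index ≤ 122760 := by
  rw [← Subgroup.relIndex_top_right, ← top]; exact iAll
theorem conn1 : RAll (connAt ONa.ap hs 1) 2 5587 := RAll.of (by decide +kernel)
theorem conn2 : RAll (connAt ONa.ap hs 5587) 5588 11971 := RAll.of (by decide +kernel)
theorem conn3_11972 : RAll (connAt ONa.ap hs 11971) 11972 27972 := RAll.of (by decide +kernel)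
theorem conn3_27972 : RAll (connAt ONa.ap hs 11971) 27972 43972 := RAll.of (by decide +kernel)
theorem conn3_43972 : RAll (connAt ONa.ap hs 11971) 43972 59972 := RAll.of (by decide +kernel)
theorem conn3_59972 : RAll (connAt ONa.ap hs 11971) 59972 64107 := RAll.of (by decide +kernel)
theorem conn3 : RAll (connAt ONa.ap hs 11971) 11972 64107 :=
  (RAll.append (RAll.append conn3_11972 conn3_27972) (RAll.append conn3_43972 conn3_59972))
theorem conn4_64108 : RAll (connAt ONa.ap hs 64107) 64108 80108 := RAll.of (by decide +kernel)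
theorem conn4_80108 : RAll (connAt ONa.ap hs 64107) 80108 96108 := RAll.of (by decide +kernel)
theorem conn4_96108 : RAll (connAt ONa.ap hs 64107) 96108 112108 := RAll.of (by decide +kernel)
theorem conn4_112108 : RAll (connAt ONa.ap hs 64107) 112108 122760 := RAll.of (by decide +kernel)
theorem conn4 : RAll (connAt ONa.ap hs 64107) 64108 122760 :=
  (RAll.append (RAll.append conn4_64108 conn4_80108) (RAll.append conn4_96108 conn4_112108))
theorem segs0 : A0.Segs (gp E hs) 1 [5587, 11971, 64107, 122760] :=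
  ⟨by norm_num, by decide +kernel, A0.seg_subset_orbit (S := hs) (by decide +kernel) le_rfl (by decide +kernel) conn1, by norm_num, by decide +kernel, A0.seg_subset_orbit (S := hs) (by decide +kernel) le_rfl (by decide +kernel) conn2, by norm_num, by decide +kernel, A0.seg_subset_orbit (S := hs) (by decide +kernel) le_rfl (by decide +kernel) conn3, by norm_num, by decide +kernel, A0.seg_subset_orbit (S := hs) (by decide +kernel) le_rfl (by decide +kernel) conn4, rfl⟩
def reps : List (List ℕ) := [[6, 3, 6], [7, 3, 1, 6], [7, 1, 6], [6]]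
theorem trans0 : A0.seg 0 A0.n ⊆ MulAction.orbit (⊤ : Subgroup G) (A0.c 0) :=
  A0.trans_of_segs segs0 reps (by decide +kernel)
theorem stab0 : gp E hs = MulAction.stabilizer G (A0.c 0) ∧ (gp E hs).index = 122760 :=
  A0.stabilizer_eq (A0.gp_le_stabilizer (S := hs) (by decide +kernel) (by decide +kernel) (by decide +kernel)) idx_le trans0
/-- the action on the cosets of `gp E hs` -/
noncomputable def A : TabAct G (G ⧸ gp E hs) := A0.quot _ stab0.1 trans0
theorem A_zero : A.c 0 = ((1 : G) : G ⧸ gp E hs) := A0.quot_zero _ stab0.1 trans0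
theorem stab : gp E hs = MulAction.stabilizer G (A.c 0) := by rw [A_zero]; exact stabilizer_quot_one _
theorem full : A.Full :=
  have : Finite (G ⧸ gp E hs) := Nat.finite_of_card_ne_zero idx_le.1
  A.full_of_card idx_le.2
theorem seg1 : A.seg 1 5587 ⊆ MulAction.orbit (gp E hs) (A.c 1) :=
  A.seg_subset_orbit (S := hs) (by decide +kernel) le_rfl (by decide +kernel) conn1
theorem seg2 : A.seg 5587 11971 ⊆ MulAction.orbit (gp E hs) (A.c 5587) :=
  A.seg_subset_orbit (S := hs) (by decide +kernel) le_rfl (by decide +kernel) conn2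
theorem seg3 : A.seg 11971 64107 ⊆ MulAction.orbit (gp E hs) (A.c 11971) :=
  A.seg_subset_orbit (S := hs) (by decide +kernel) le_rfl (by decide +kernel) conn3
theorem seg4 : A.seg 64107 122760 ⊆ MulAction.orbit (gp E hs) (A.c 64107) :=
  A.seg_subset_orbit (S := hs) (by decide +kernel) le_rfl (by decide +kernel) conn4
theorem segs : A.Segs (gp E hs) 1 [5587, 11971, 64107, 122760] :=
  ⟨by norm_num, by decide +kernel, seg1, by norm_num, by decide +kernel, seg2, by norm_num, by decide +kernel, seg3, by norm_num, by decide +kernel, seg4, rfl⟩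
theorem trans : A.seg 0 A.n ⊆ MulAction.orbit (⊤ : Subgroup G) (A.c 0) :=
  A.trans_of_segs segs reps (by decide +kernel)
instance : Finite G := (top ▸ cAll : CardLe (⊤ : Subgroup G) _).finite_top
def lowvS5 : List (List ℕ) := [[0, 1, 0]]
def lowvT5 : List (List ℕ) := lowvS5 ++ []
theorem lowv5 : A0.Lower (gp A0.e lowvT5) [5] 2 :=
  TabAct.Lower.step (S := lowvS5) (T := []) (b := 5) (k := 2) (hs := id) (A0.lower_nil _) (by decide +kernel)
def lowvS4 : List (List ℕ) := [[0], [1]]
def lowvT4 : List (List ℕ) := lowvS4 ++ lowvT5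
theorem lowv4 : A0.Lower (gp A0.e lowvT4) [7, 5] 6 :=
  TabAct.Lower.step (S := lowvS4) (T := lowvT5) (b := 7) (k := 3) (hs := id) (lowv5) (by decide +kernel)
def lowvS3 : List (List ℕ) := [[2, 1, 0]]
def lowvT3 : List (List ℕ) := lowvS3 ++ lowvT4
theorem lowv3 : A0.Lower (gp A0.e lowvT3) [3, 7, 5] 24 :=
  TabAct.Lower.step (S := lowvS3) (T := lowvT4) (b := 3) (k := 4) (hs := id) (lowv4) (by decide +kernel)
def lowvS2 : List (List ℕ) := [[3, 2], [5, 1, 0]]
def lowvT2 : List (List ℕ) := lowvS2 ++ lowvT3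
theorem lowv2 : A0.Lower (gp A0.e lowvT2) [2, 3, 7, 5] 672 :=
  TabAct.Lower.step (S := lowvS2) (T := lowvT3) (b := 2) (k := 28) (hs := id) (lowv3) (by decide +kernel)
def lowvS1 : List (List ℕ) := [[0], [1], [2], [3], [4], [5]]
def lowvT1 : List (List ℕ) := lowvS1 ++ lowvT2
theorem lowv1 : A0.Lower (gp A0.e lowvT1) [1, 2, 3, 7, 5] 3753792 :=
  TabAct.Lower.step (S := lowvS1) (T := lowvT2) (b := 1) (k := 5586) (hs := id) (lowv2) (by decide +kernel)
theorem lowv0 : A0.Lower ⊤ [0, 1, 2, 3, 7, 5] (122760 * 3753792) :=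
  lowv1.seg (a := 0) (by norm_num) le_rfl trans0 le_top
    (A0.gp_le_stabilizer (by decide +kernel) (by decide +kernel) (by decide +kernel))
theorem card_top : Nat.card (⊤ : Subgroup G) ≤ 122760 * 3753792 := (top ▸ cAll : CardLe (⊤ : Subgroup G) _).2
theorem card : Nat.card G = 460815505920 := by rw [← card_top_eq, (lowv0.exact card_top).1]
def bs : List ℕ := [0, 1, 2, 3, 7, 5]
theorem base0 : A0.Base ⊤ bs := lowv0.base card_top
theorem φ_inj : Function.Injective φ := base0.injective
theorem card_hs : Nat.card (gp E hs) = 3753792 :=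
  (index_eq_of_card (n := 122760) card idx_le.2 (by
    have := (gp E hs).index_mul_card
    rw [stab0.2, card] at this; omega) (by norm_num) (by norm_num)).2
theorem simple : IsSimpleGroup G :=
  A0.simple stab0.1 pok.full trans0 stab0.2 (by decide +kernel) segs0 (by decide +kernel) base0 good.hi top
    [7, 3, 2, 4, 1] 31 (by decide +kernel) (m := 3753792) card (by norm_num)
    [([0, 1, 5, 4, 3, 6, 2, 7, 5, 0, 3, 6, 7, 2, 1], [0], 0, 7, 2), ([], [1], 1, 3, 2), ([], [2], 2, 3, 2), ([3, 0, 7, 5, 2, 1, 6, 4, 6, 7], [3], 0, 11, 2), ([], [4], 4, 3, 2), ([], [5], 5, 3, 2), ([5, 4, 2, 0, 7], [6], 0, 15, 4), ([], [7], 7, 1, 4)] (by decide +kernel)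

end Cfsg.Agent.H15.ON
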