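import Cfsg.Agent.H15.Simple
import Cfsg.Agent.H15.ONa
import Cfsg.Agent.H15.ONb
import Cfsg.Agent.H15.ONc
import Cfsg.Prelude.Def_Spor_ON
set_option autoImplicit false
set_option maxRecDepth 100000

namespace Cfsg.Agent.H15.ON
open Cfsg.Agent.H15 Cfsg.Agent.H14

abbrev G := Cfsg.Spor.ON
def idx : Cfsg.Spor.ON.Gen → ℕ
  | .a => 0
  | .b => 1
  | .c => 2
  | .d => 3
  | .e => 4
  | .f => 5
  | .g => 6
def D : PD Cfsg.Spor.ON.Gen where
  ls := [(.a, false), (.b, false), (.c, false), (.d, false), (.e, false), (.f, false), (.g, false), (.g, true)]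
  idx := idx
  T := 26874752016448
  L := 8
  B := [([0, 0], 1), ([0, 1], 3), ([0, 2], 2), ([0, 3], 2), ([0, 4], 2), ([0, 5], 2), ([1, 1], 1), ([1, 2], 3), ([1, 3], 2), ([1, 4], 2), ([1, 5], 2), ([2, 2], 1), ([2, 3], 8), ([2, 4], 2), ([2, 5], 2), ([3, 3], 1), ([3, 4], 3), ([3, 5], 2), ([4, 4], 1), ([4, 5], 3), ([5, 5], 1), ([0, 5, 7, 7], 1), ([0, 5, 3, 2, 3, 2, 3, 2, 3, 2], 1), ([2, 7, 3, 7, 3, 2, 3, 6, 3, 6], 1), ([3, 7, 2, 7, 2, 3, 2, 6, 2, 6], 1), ([1, 2, 3, 6], 5), ([6, 1, 2, 6, 2, 1, 6, 1, 2, 6, 2], 1), ([6, 4, 3, 6, 3, 4, 6, 4, 3, 6, 3], 1)]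
theorem good : D.Good Cfsg.Spor.ON.edges Cfsg.Spor.ON.extra :=
  ⟨by decide +kernel, fun x => by cases x <;> rfl⟩
noncomputable abbrev E : ℕ → G := D.E Cfsg.Spor.ON.edges Cfsg.Spor.ON.extra
theorem iC : (gp E []).relIndex (gp E [[0], [1], [2], [3], [5]]) ≠ 0 ∧ (gp E []).relIndex (gp E [[0], [1], [2], [3], [5]]) ≤ 672 :=
  ONc.idx good.hi good.hB [[0], [1], [2], [3], [5]] (by decide +kernel)
theorem cC : CardLe (gp E [[0], [1], [2], [3], [5]]) 672 :=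
  (cardLe_nil.step iC (by decide +kernel) : CardLe _ (672 * 1))
theorem iB : (gp E [[0], [1], [2], [3], [5]]).relIndex (gp E [[0], [1], [2], [3], [4], [5]]) ≠ 0 ∧ (gp E [[0], [1], [2], [3], [5]]).relIndex (gp E [[0], [1], [2], [3], [4], [5]]) ≤ 5586 :=
  ONb.idx good.hi good.hB [[0], [1], [2], [3], [4], [5]] (by decide +kernel)
theorem cB : CardLe (gp E [[0], [1], [2], [3], [4], [5]]) 3753792 :=
  (cC.step iB (by decide +kernel) : CardLe _ (5586 * 672))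
theorem iAll : (gp E [[0], [1], [2], [3], [4], [5]]).relIndex (gp E [[0], [1], [2], [3], [4], [5], [6], [7]]) ≠ 0 ∧ (gp E [[0], [1], [2], [3], [4], [5]]).relIndex (gp E [[0], [1], [2], [3], [4], [5], [6], [7]]) ≤ 122760 :=
  ONa.idx good.hi good.hB [[0], [1], [2], [3], [4], [5], [6], [7]] (by decide +kernel)
theorem cAll : CardLe (gp E [[0], [1], [2], [3], [4], [5], [6], [7]]) 460815505920 :=
  (cB.step iAll (by decide +kernel) : CardLe _ (122760 * 3753792))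

end Cfsg.Agent.H15.ON
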