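import Cfsg.Agent.H15.Words
set_option autoImplicit false
set_option maxRecDepth 100000

namespace Cfsg.Agent.H15.SzF
open Cfsg.Agent.H15 Cfsg.Agent.H14

def tb : Tb := (.node (nat_lit 8) (.node (nat_lit 4) (.leaf (nat_lit 0x907c0010280441e0000100020f000c0000007800401)) (.leaf (nat_lit 0xa17c00504804c9e0020200063f001c0600217800c02))) (.node (nat_lit 12) (.leaf (nat_lit 0xb27c0090680551e00403000a7f002c0e00437801406)) (.leaf (nat_lit 0xc37c00d17005d9e00613c00ebf003c1600657801c0a))))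
def wt : Wt := (.node (nat_lit 1) (.leaf [nat_lit 0, nat_lit 1, nat_lit 0, nat_lit 1, nat_lit 0, nat_lit 1, nat_lit 0, nat_lit 1, nat_lit 0, nat_lit 1, nat_lit 0, nat_lit 1, nat_lit 0, nat_lit 1, nat_lit 0, nat_lit 1]) (.leaf [nat_lit 0, nat_lit 0]))
noncomputable def P : TCP where
  lk := tlk tb (nat_lit 3) (nat_lit 5) (nat_lit 9) (nat_lit 511)
  inv := invT (nat_lit 64) (nat_lit 2)
  wt := wt.get
  gens := [nat_lit 0, nat_lit 1]
  N := nat_lit 16
  n := nat_lit 16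
  eps := nat_lit 2
  VM := nat_lit 31
  Wv := nat_lit 5
  MAXB := nat_lit 480
  JM := nat_lit 15
  Wj := nat_lit 4
  Hm := nat_lit 0
def ls : List Nat := [nat_lit 0, nat_lit 1, nat_lit 2]
noncomputable def ap : Nat → Nat → Nat := tlk tb (nat_lit 3) (nat_lit 5) (nat_lit 9) (nat_lit 31)
def bases : List (List Nat × Nat) := [([0, 0], 1), ([0, 1], 8), ([1, 1], 1)]
theorem c0 : RowsGood P ls 0 16 :=
  rowsGood_of (Js := [nat_lit 0x11, nat_lit 0x10, nat_lit 0x1, nat_lit 0x1, nat_lit 0x10, nat_lit 0x10, nat_lit 0x1, nat_lit 0x1, nat_lit 0x10, nat_lit 0x10, nat_lit 0x1, nat_lit 0x1, nat_lit 0x10, nat_lit 0x10, nat_lit 0x6, nat_lit 0x4]) (by decide +kernel)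
theorem f0 : RowsGood P ls 0 16 :=
  c0
theorem good : RowsGood P (List.range (P.eps + 1)) 0 P.N :=
  (f0 : RowsGood P ls 0 16)
theorem idx {G : Type*} [Group G] {E : ℕ → G} {inv : ℕ → ℕ} (hi : ∀ l, E (inv l) = (E l)⁻¹)
    {B : List (List ℕ × ℕ)} (hB : ∀ p ∈ B, lprod E p.1 ^ p.2 = 1) (σ : List (List ℕ))
    {hs ks : List (List ℕ)} (hc : certOk P wt bases inv B σ hs ks = true) :
    (gp E hs).relIndex (gp E ks) ≠ 0 ∧ (gp E hs).relIndex (gp E ks) ≤ 16 :=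
  tc_gp hi hB rfl (fun _ h => invT_of_le h) good σ hc

end Cfsg.Agent.H15.SzF
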