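import Cfsg.Agent.H15.Simple
import Cfsg.Agent.H15.SzA
import Cfsg.Agent.H15.SzC
import Cfsg.Agent.H15.SzD
import Cfsg.Agent.H15.SzE
import Cfsg.Agent.H15.SzF
import Cfsg.Prelude.Def_Spor_Suz
set_option autoImplicit false
set_option maxRecDepth 100000

namespace Cfsg.Agent.H15.Suz
open Cfsg.Agent.H15 Cfsg.Agent.H14

abbrev G := Cfsg.Spor.Suz
def idx : Cfsg.Spor.Suz.Gen → ℕ
  | .a => 0
  | .b => 1
  | .c => 2
  | .d => 3
  | .e => 4
  | .f => 5
  | .g => 6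
def D : PD Cfsg.Spor.Suz.Gen where
  ls := [(.a, false), (.b, false), (.c, false), (.d, false), (.e, false), (.f, false), (.g, false)]
  idx := idx
  T := 417753473088
  L := 7
  B := [([0, 0], 1), ([0, 1], 5), ([0, 2], 2), ([0, 3], 2), ([0, 4], 2), ([0, 5], 2), ([0, 6], 2), ([1, 1], 1), ([1, 2], 3), ([1, 3], 2), ([1, 4], 2), ([1, 5], 3), ([1, 6], 3), ([2, 2], 1), ([2, 3], 8), ([2, 4], 2), ([2, 5], 2), ([2, 6], 2), ([3, 3], 1), ([3, 4], 3), ([3, 5], 2), ([3, 6], 2), ([4, 4], 1), ([4, 5], 2), ([4, 6], 2), ([5, 5], 1), ([5, 6], 4), ([6, 6], 1), ([0, 3, 2, 3, 2, 3, 2, 3, 2], 1), ([0, 6, 5, 6, 5], 1), ([0, 1, 2, 5], 5), ([1, 5, 6], 5), ([1, 2, 3, 2, 3, 1, 2, 3, 2, 3, 1, 2, 3, 2, 3, 1, 2, 3, 2, 3, 1, 2, 3, 2, 3, 4], 3)]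
theorem good : D.Good Cfsg.Spor.Suz.edges Cfsg.Spor.Suz.extra :=
  ⟨by decide +kernel, fun x => by cases x <;> rfl⟩
noncomputable abbrev E : ℕ → G := D.E Cfsg.Spor.Suz.edges Cfsg.Spor.Suz.extra
theorem iF : (gp E []).relIndex (gp E [[2], [3]]) ≠ 0 ∧ (gp E []).relIndex (gp E [[2], [3]]) ≤ 16 :=
  SzF.idx good.hi good.hB [[2], [3]] (by decide +kernel)
theorem cF : CardLe (gp E [[2], [3]]) 16 :=
  (cardLe_nil.step iF (by decide +kernel) : CardLe _ (16 * 1))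
theorem iE : (gp E [[2], [3]]).relIndex (gp E [[0], [1], [2], [3]]) ≠ 0 ∧ (gp E [[2], [3]]).relIndex (gp E [[0], [1], [2], [3]]) ≤ 135 :=
  SzE.idx good.hi good.hB [[0], [1], [2], [3]] (by decide +kernel)
theorem cE : CardLe (gp E [[0], [1], [2], [3]]) 2160 :=
  (cF.step iE (by decide +kernel) : CardLe _ (135 * 16))
theorem iJ2 : (gp E [[0], [1], [2], [3]]).relIndex (gp E [[0], [1], [2], [3], [4]]) ≠ 0 ∧ (gp E [[0], [1], [2], [3]]).relIndex (gp E [[0], [1], [2], [3], [4]]) ≤ 280 :=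
  SzD.idx good.hi good.hB [[0], [1], [2], [3], [4]] (by decide +kernel)
theorem cJ2 : CardLe (gp E [[0], [1], [2], [3], [4]]) 604800 :=
  (cE.step iJ2 (by decide +kernel) : CardLe _ (280 * 2160))
theorem iG2 : (gp E [[0], [1], [2], [3], [4]]).relIndex (gp E [[0], [1], [2], [3], [4], [5]]) ≠ 0 ∧ (gp E [[0], [1], [2], [3], [4]]).relIndex (gp E [[0], [1], [2], [3], [4], [5]]) ≤ 416 :=
  SzC.idx good.hi good.hB [[0], [1], [2], [3], [4], [5]] (by decide +kernel)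
theorem cG2 : CardLe (gp E [[0], [1], [2], [3], [4], [5]]) 251596800 :=
  (cJ2.step iG2 (by decide +kernel) : CardLe _ (416 * 604800))
theorem iAll : (gp E [[0], [1], [2], [3], [4], [5]]).relIndex (gp E [[0], [1], [2], [3], [4], [5], [6]]) ≠ 0 ∧ (gp E [[0], [1], [2], [3], [4], [5]]).relIndex (gp E [[0], [1], [2], [3], [4], [5], [6]]) ≤ 1782 :=
  SzA.idx good.hi good.hB [[0], [1], [2], [3], [4], [5], [6]] (by decide +kernel)
theorem cAll : CardLe (gp E [[0], [1], [2], [3], [4], [5], [6]]) 448345497600 :=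
  (cG2.step iAll (by decide +kernel) : CardLe _ (1782 * 251596800))
theorem hperm : RAll (permAt SzA.ap D.inv 1782 D.L) 0 1782 := RAll.of (by decide +kernel)
theorem hrel_0 : RAll (relsAt SzA.ap D.B) 0 1200 := RAll.of (by decide +kernel)
theorem hrel_1200 : RAll (relsAt SzA.ap D.B) 1200 1782 := RAll.of (by decide +kernel)
theorem hrel : RAll (relsAt SzA.ap D.B) 0 1782 :=
  (RAll.append hrel_0 hrel_1200)

end Cfsg.Agent.H15.Suz
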